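import Mathlib
import Groth.Agent.S2782
import Groth.Agent.Lib.Helper8.HenselHom

/-!
# Pointed standard étale algebras

Index set for the construction of (strict) henselizations: standard étale pairs over `R` together
with a point with values in a fixed field `Ω` over `R`.
-/

open IsLocalRing TensorProduct

universe u

namespace Groth.Agent.Lib.Helper8.Hzl

variable (R : Type u) [CommRing R] (Ω : Type u) [Field Ω] [Algebra R Ω]

/-- Standard étale pairs with an `Ω`-point. -/
structure Idx where
  /-- the pair -/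
  P : StandardEtalePair R
  /-- the point -/
  a : Ω
  /-- the point is a point of the pair -/
  h : P.HasMap a

variable {R Ω}

namespace Idx

variable (i : Idx R Ω)

/-- The étale algebra. -/
abbrev E : Type u := i.P.Ring

/-- The character. -/
noncomputable def χ : i.E →ₐ[R] Ω := i.P.lift i.a i.h

/-- The prime. -/
noncomputable def q : Ideal i.E := RingHom.ker i.χ.toRingHom

instance : i.q.IsPrime := RingHom.ker_isPrime _

lemma mem_q {e : i.E} : e ∈ i.q ↔ i.χ e = 0 := RingHom.mem_ker

/-- The local ring. -/
abbrev B : Type u := Localization.AtPrime i.q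

lemma isUnit_χ (y : i.q.primeCompl) : IsUnit (i.χ y) :=
  IsUnit.mk0 _ (fun h => y.2 (i.mem_q.mpr h))

/-- The character on the local ring. -/
noncomputable def χB : i.B →ₐ[R] Ω :=
  IsLocalization.liftAlgHom (M := i.q.primeCompl) (f := i.χ) i.isUnit_χ

@[simp]
lemma χB_algebraMap (e : i.E) : i.χB (algebraMap i.E i.B e) = i.χ e := by
  simp [χB]

lemma χB_eq_zero_iff (b : i.B) : i.χB b = 0 ↔ b ∈ maximalIdeal i.B := by
  obtain ⟨e, s, rfl⟩ := IsLocalization.exists_mk'_eq i.q.primeCompl b
  rw [IsLocalization.AtPrime.mk'_mem_maximal_iff (Localization.AtPrime i.q) i.q]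
  have h1 : i.χB (IsLocalization.mk' i.B e s) * i.χ s = i.χ e := by
    rw [← χB_algebraMap, ← χB_algebraMap, ← map_mul, IsLocalization.mk'_spec]
  rw [mem_q, ← h1]
  have := (i.isUnit_χ s).ne_zero
  simp [this]

lemma isUnit_iff (b : i.B) : IsUnit b ↔ i.χB b ≠ 0 := by
  rw [Ne, χB_eq_zero_iff, mem_maximalIdeal, mem_nonunits_iff, not_not]

end Idx

end Groth.Agent.Lib.Helper8.Hzl
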