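import Mathlib
import Groth.Agent.Lib.Helper8.HenselHom2
import Groth.Agent.Lib.Helper8.Hzl.Pointed

/-!
# The directed preorder of pointed standard étale algebras
-/

open IsLocalRing TensorProduct

universe u

namespace Groth.Agent.Lib.Helper8.Hzl

variable {R : Type u} [CommRing R] {Ω : Type u} [Field Ω] [Algebra R Ω]

namespace Idx

/-- Two maps from an unramified algebra into a pointed local ring with the same `Ω`-point agree. -/
lemma algHom_ext_χ (j : Idx R Ω) {E : Type*} [CommRing E] [Algebra R E]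
    [Algebra.EssFiniteType R E] [Algebra.FormallyUnramified R E] (φ φ' : E →ₐ[R] j.B)
    (h : ∀ e, j.χB (φ e) = j.χB (φ' e)) : φ = φ' := by
  apply algHom_eq_of_sub_mem_jacobson
  intro x
  rw [IsLocalRing.jacobson_eq_maximalIdeal ⊥ bot_ne_top, ← χB_eq_zero_iff, map_sub, h, sub_self]

instance : Preorder (Idx R Ω) where
  le i j := ∃ g : i.B →ₐ[R] j.B, j.χB.comp g = i.χB
  le_refl i := ⟨AlgHom.id R _, AlgHom.comp_id _⟩
  le_trans i j k := fun ⟨g, hg⟩ ⟨g', hg'⟩ => ⟨g'.comp g, by rw [← AlgHom.comp_assoc, hg', hg]⟩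

lemma le_def {i j : Idx R Ω} : i ≤ j ↔ ∃ g : i.B →ₐ[R] j.B, j.χB.comp g = i.χB := Iff.rfl

/-- The transition maps. -/
noncomputable def tr (i j : Idx R Ω) (h : i ≤ j) : i.B →ₐ[R] j.B := Classical.choose h

lemma χB_comp_tr (i j : Idx R Ω) (h : i ≤ j) : j.χB.comp (tr i j h) = i.χB :=
  Classical.choose_spec h

@[simp]
lemma χB_tr (i j : Idx R Ω) (h : i ≤ j) (b : i.B) : j.χB (tr i j h b) = i.χB b :=
  DFunLike.congr_fun (χB_comp_tr i j h) b

lemma tr_unique (i j : Idx R Ω) (h : i ≤ j) (g : i.B →ₐ[R] j.B)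
    (hg : ∀ b, j.χB (g b) = i.χB b) : g = tr i j h :=
  j.algHom_ext_χ _ _ (fun b => by rw [hg, χB_tr])

@[simp]
lemma tr_self (i : Idx R Ω) (h : i ≤ i) : tr i i h = AlgHom.id R _ :=
  (tr_unique i i h _ (fun _ => rfl)).symm

@[simp]
lemma tr_tr (i j k : Idx R Ω) (hij : i ≤ j) (hjk : j ≤ k) (b : i.B) :
    tr j k hjk (tr i j hij b) = tr i k (hij.trans hjk) b :=
  DFunLike.congr_fun (tr_unique i k (hij.trans hjk) ((tr j k hjk).comp (tr i j hij))
    (fun b => by simp)) b

/-- A map from the étale algebra of `i` to the local ring of `j` compatible with the points gives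
`i ≤ j`. -/
lemma exists_le_of_algHom (i j : Idx R Ω) (g : i.E →ₐ[R] j.B) (hg : ∀ e, j.χB (g e) = i.χ e) :
    ∃ h : i ≤ j, ∀ e, tr i j h (algebraMap i.E i.B e) = g e := by
  have hu : ∀ y : i.q.primeCompl, IsUnit (g y) := fun y => by
    rw [isUnit_iff, hg]; exact (i.isUnit_χ y).ne_zero
  let g' : i.B →ₐ[R] j.B := IsLocalization.liftAlgHom (M := i.q.primeCompl) (f := g) hu
  have hg' : ∀ e, g' (algebraMap i.E i.B e) = g e := fun e => by
    simp [g']
  have hχ : ∀ b, j.χB (g' b) = i.χB b := by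
    intro b
    obtain ⟨e, s, rfl⟩ := IsLocalization.exists_mk'_eq i.q.primeCompl b
    have h1 : j.χB (g' (IsLocalization.mk' i.B e s)) * i.χ s = i.χ e := by
      rw [← hg, ← hg, ← hg', ← hg', ← map_mul, ← map_mul, IsLocalization.mk'_spec]
    have h2 : i.χB (IsLocalization.mk' i.B e s) * i.χ s = i.χ e := by
      rw [← χB_algebraMap, ← χB_algebraMap, ← map_mul, IsLocalization.mk'_spec]
    exact (i.isUnit_χ s).mul_left_injective (h1.trans h2.symm)
  have hle : i ≤ j := ⟨g', AlgHom.ext hχ⟩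
  refine ⟨hle, fun e => ?_⟩
  rw [← tr_unique i j hle g' hχ, hg']

/-- Every étale algebra with an `Ω`-point is dominated by a pointed standard étale algebra. -/
theorem exists_dominating (E : Type u) [CommRing E] [Algebra R E] [Algebra.Etale R E]
    (χ : E →ₐ[R] Ω) : ∃ (k : Idx R Ω) (φ : E →ₐ[R] k.B), ∀ e, k.χB (φ e) = χ e := by
  let Q : Ideal E := RingHom.ker χ.toRingHom
  have hQ : Q.IsPrime := RingHom.ker_isPrime _
  obtain ⟨f, hfQ, hf⟩ := Algebra.IsEtaleAt.exists_isStandardEtale (R := R) Q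
  have hχf : IsUnit (χ f) := IsUnit.mk0 _ (fun h => hfQ (RingHom.mem_ker.mpr h))
  let χf : Localization.Away f →ₐ[R] Ω := IsLocalization.Away.liftAlgHom f (f := χ) hχf
  have hχf' : ∀ e, χf (algebraMap E _ e) = χ e := fun e => by
    simp [χf, IsLocalization.Away.lift_eq]
  obtain ⟨pr⟩ := hf.nonempty_standardEtalePresentation
  let k : Idx R Ω := ⟨pr.P, χf pr.x, pr.hasMap.map χf⟩
  have hk : k.χ = χf.comp pr.equivRing.symm.toAlgHom := by
    apply StandardEtalePair.hom_ext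
    simp [Idx.χ, k]
  refine ⟨k, (IsScalarTower.toAlgHom R k.E k.B).comp
    (pr.equivRing.toAlgHom.comp (IsScalarTower.toAlgHom R E (Localization.Away f))), fun e => ?_⟩
  simp only [AlgHom.comp_apply, IsScalarTower.coe_toAlgHom', χB_algebraMap, hk]
  simp [hχf']

instance : IsDirectedOrder (Idx R Ω) := ⟨fun i j => by
  have : Algebra.Etale R (i.E ⊗[R] j.E) := Algebra.Etale.comp R i.E _
  let χij : i.E ⊗[R] j.E →ₐ[R] Ω :=
    Algebra.TensorProduct.lift i.χ j.χ (fun _ _ => Commute.all _ _)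
  obtain ⟨k, φ, hφ⟩ := exists_dominating (i.E ⊗[R] j.E) χij
  obtain ⟨h1, -⟩ := exists_le_of_algHom i k (φ.comp Algebra.TensorProduct.includeLeft)
    (fun e => by simp [hφ, χij])
  obtain ⟨h2, -⟩ := exists_le_of_algHom j k (φ.comp Algebra.TensorProduct.includeRight)
    (fun e => by simp [hφ, χij])
  exact ⟨k, h1, h2⟩⟩

instance : Nonempty (Idx R Ω) := by
  obtain ⟨k, -, -⟩ := exists_dominating (R := R) (Ω := Ω) R (Algebra.ofId R Ω)
  exact ⟨k⟩

end Idx

end Groth.Agent.Lib.Helper8.Hzl
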