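import Mathlib
import Groth.Agent.Lib.Helper8.Hzl.Order

/-!
# The colimit of the pointed local-étale algebras
-/

open IsLocalRing TensorProduct Polynomial

universe u

namespace Groth.Agent.Lib.Helper8.Hzl

variable (R : Type u) [CommRing R] (Ω : Type u) [Field Ω] [Algebra R Ω]

/-- Transition maps as ring homomorphisms. -/
noncomputable def trR (i j : Idx R Ω) (h : i ≤ j) : i.B →+* j.B := (Idx.tr i j h : i.B →+* j.B)

@[simp]
lemma trR_apply (i j : Idx R Ω) (h : i ≤ j) (b : i.B) : trR R Ω i j h b = Idx.tr i j h b := rfl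

instance : DirectedSystem (fun i : Idx R Ω => i.B) (fun i j h => trR R Ω i j h) where
  map_self i x := by simp
  map_map k j i hij hjk x := by simp

/-- The colimit ring: the (strict) henselization along `Ω`. -/
abbrev Hz : Type u := Ring.DirectLimit (fun i : Idx R Ω => i.B) (fun i j h => trR R Ω i j h)

/-- The structure maps of the colimit. -/
noncomputable def ofHom (i : Idx R Ω) : i.B →+* Hz R Ω := Ring.DirectLimit.of _ _ i

variable {R Ω}

lemma ofHom_tr (i j : Idx R Ω) (h : i ≤ j) (b : i.B) :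
    ofHom R Ω j (Idx.tr i j h b) = ofHom R Ω i b :=
  Ring.DirectLimit.of_f (G := fun i : Idx R Ω => i.B) (f := fun i j h => trR R Ω i j h) h b

lemma exists_ofHom (x : Hz R Ω) : ∃ i b, ofHom R Ω i b = x := Ring.DirectLimit.exists_of x

lemma ofHom_algebraMap (i j : Idx R Ω) (r : R) :
    ofHom R Ω i (algebraMap R i.B r) = ofHom R Ω j (algebraMap R j.B r) := by
  obtain ⟨k, hik, hjk⟩ := exists_ge_ge i j
  rw [← ofHom_tr i k hik, ← ofHom_tr j k hjk, AlgHom.commutes, AlgHom.commutes]

variable (R Ω)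

noncomputable instance : Algebra R (Hz R Ω) :=
  ((ofHom R Ω (Classical.arbitrary _)).comp (algebraMap R _)).toAlgebra

variable {R Ω}

lemma algebraMap_eq (i : Idx R Ω) (r : R) :
    algebraMap R (Hz R Ω) r = ofHom R Ω i (algebraMap R i.B r) := ofHom_algebraMap _ _ _

/-- The structure maps as algebra maps. -/
noncomputable def ofAlg (i : Idx R Ω) : i.B →ₐ[R] Hz R Ω :=
  { ofHom R Ω i with commutes' := fun r => (algebraMap_eq i r).symm }

@[simp]
lemma ofAlg_apply (i : Idx R Ω) (b : i.B) : ofAlg i b = ofHom R Ω i b := rfl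

variable (R Ω)

/-- The point of the colimit. -/
noncomputable def χS : Hz R Ω →ₐ[R] Ω :=
  { Ring.DirectLimit.lift _ _ Ω (fun i : Idx R Ω => (i.χB : i.B →+* Ω))
      (fun i j h x => by simp) with
    commutes' := fun r => by
      rw [algebraMap_eq (Classical.arbitrary _)]
      simp [ofHom] }

variable {R Ω}

@[simp]
lemma χS_ofHom (i : Idx R Ω) (b : i.B) : χS R Ω (ofHom R Ω i b) = i.χB b := by
  simp [χS, ofHom]

lemma isUnit_iff (x : Hz R Ω) : IsUnit x ↔ χS R Ω x ≠ 0 := by
  constructor
  · intro h; exact (h.map (χS R Ω)).ne_zero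
  · intro h
    obtain ⟨i, b, rfl⟩ := exists_ofHom x
    have : IsUnit b := (i.isUnit_iff b).mpr (by simpa using h)
    exact this.map _

instance : IsLocalRing (Hz R Ω) := by
  have : Nontrivial (Hz R Ω) := ⟨⟨0, 1, fun h => by
    have := congrArg (χS R Ω) h
    simp at this⟩⟩
  refine IsLocalRing.of_nonunits_add ?_
  intro a b ha hb
  rw [mem_nonunits_iff, isUnit_iff, not_not] at ha hb ⊢
  rw [map_add, ha, hb, add_zero]

lemma mem_maximalIdeal_iff (x : Hz R Ω) : x ∈ maximalIdeal (Hz R Ω) ↔ χS R Ω x = 0 := by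
  rw [mem_maximalIdeal, mem_nonunits_iff, isUnit_iff, not_not]

instance : IsLocalHom (χS R Ω).toRingHom := ⟨fun x hx => by
  rw [isUnit_iff]; exact hx.ne_zero⟩

section Local

variable [IsLocalRing R] [IsLocalHom (algebraMap R Ω)]

instance : IsLocalHom (algebraMap R (Hz R Ω)) := ⟨fun r hr => by
  have := hr.map (χS R Ω)
  rw [AlgHom.commutes] at this
  exact isUnit_of_map_unit (algebraMap R Ω) r this⟩

instance (i : Idx R Ω) : IsLocalHom (algebraMap R i.B) := ⟨fun r hr => by
  have := hr.map i.χB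
  rw [AlgHom.commutes] at this
  exact isUnit_of_map_unit (algebraMap R Ω) r this⟩

lemma Idx.map_maximalIdeal (i : Idx R Ω) :
    (maximalIdeal R).map (algebraMap R i.B) = maximalIdeal i.B :=
  Algebra.FormallyUnramified.map_maximalIdeal

/-- The maximal ideal of the colimit is generated by the maximal ideal of `R`. -/
theorem map_maximalIdeal :
    (maximalIdeal R).map (algebraMap R (Hz R Ω)) = maximalIdeal (Hz R Ω) := by
  apply le_antisymm
  · exact Ideal.map_le_iff_le_comap.mpr fun r hr => map_nonunit _ r hr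
  · intro x hx
    obtain ⟨i, b, rfl⟩ := exists_ofHom x
    have hb : b ∈ maximalIdeal i.B := by
      rw [← Idx.χB_eq_zero_iff]
      simpa using (mem_maximalIdeal_iff _).mp hx
    rw [← i.map_maximalIdeal] at hb
    have h1 := Ideal.mem_map_of_mem (ofHom R Ω i) hb
    rw [Ideal.map_map] at h1
    have h2 : (ofHom R Ω i).comp (algebraMap R i.B) = algebraMap R (Hz R Ω) :=
      RingHom.ext fun r => (algebraMap_eq i r).symm
    rwa [h2] at h1

end Local

/-- The point of the colimit is surjective as soon as every element of `Ω` is a simple root of a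
monic polynomial over `R`. -/
theorem χS_surjective
    (H : ∀ ω : Ω, ∃ P : R[X], P.Monic ∧ aeval ω P = 0 ∧ aeval ω (derivative P) ≠ 0) :
    Function.Surjective (χS R Ω) := by
  intro ω
  obtain ⟨P, hP, h0, h1⟩ := H ω
  let pr : StandardEtalePair R := ⟨P, hP, derivative P, 1, 0, 1, by simp⟩
  let i : Idx R Ω := ⟨pr, ω, h0, IsUnit.mk0 _ h1⟩
  refine ⟨ofHom R Ω i (algebraMap i.E i.B pr.X), ?_⟩
  rw [χS_ofHom, Idx.χB_algebraMap]
  exact pr.lift_X _ _

end Groth.Agent.Lib.Helper8.Hzl
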