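import Mathlib
import Groth.Agent.Lib.Helper8.Hzl.Colimit

/-!
# The colimit of the pointed local-étale algebras is flat
-/

open IsLocalRing TensorProduct Polynomial

universe u

namespace Groth.Agent.Lib.Helper8.Hzl

variable {R : Type u} [CommRing R] {Ω : Type u} [Field Ω] [Algebra R Ω]

lemma ofHom_smul (i : Idx R Ω) (r : R) (b : i.B) : ofHom R Ω i (r • b) = r • ofHom R Ω i b := by
  rw [← ofAlg_apply, ← ofAlg_apply, map_smul]

instance : Module.Flat R (Hz R Ω) := by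
  apply Module.Flat.of_forall_isTrivialRelation
  intro l f x hfx
  classical
  choose k b hb using fun i => exists_ofHom (x i)
  obtain ⟨k₀, hk₀⟩ := Finset.exists_le (Finset.univ.image k)
  have hk : ∀ i, k i ≤ k₀ := fun i => hk₀ _ (Finset.mem_image_of_mem _ (Finset.mem_univ i))
  obtain ⟨b', hb'def⟩ : ∃ b' : Fin l → k₀.B, b' = fun i => Idx.tr (k i) k₀ (hk i) (b i) :=
    ⟨_, rfl⟩
  have hb' : ∀ i, ofHom R Ω k₀ (b' i) = x i := fun i => by rw [hb'def, ofHom_tr, hb]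
  have h0 : ofHom R Ω k₀ (∑ i, f i • b' i) = 0 := by
    rw [map_sum, ← hfx]
    refine Finset.sum_congr rfl fun i _ => ?_
    rw [ofHom_smul, hb']
  obtain ⟨k₁, h01, h1⟩ := Ring.DirectLimit.of.zero_exact h0
  have h2 : ∑ i, f i • Idx.tr k₀ k₁ h01 (b' i) = 0 := by
    rw [← h1, trR_apply, map_sum]
    refine Finset.sum_congr rfl fun i _ => ?_
    rw [map_smul]
  obtain ⟨κ, a, y, hy, ha⟩ := Module.Flat.isTrivialRelation_of_sum_smul_eq_zero (R := R) (M := k₁.B) h2
  refine ⟨κ, a, fun j => ofHom R Ω k₁ (y j), fun i => ?_, ha⟩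
  have hy' : Idx.tr k₀ k₁ h01 (b' i) = ∑ j, a i j • y j := hy i
  change x i = ∑ j, a i j • ofHom R Ω k₁ (y j)
  rw [← hb', ← ofHom_tr k₀ k₁ h01, hy', map_sum]
  refine Finset.sum_congr rfl fun j _ => ?_
  rw [ofHom_smul]

instance [IsLocalRing R] [IsLocalHom (algebraMap R Ω)] : Module.FaithfullyFlat R (Hz R Ω) :=
  Module.FaithfullyFlat.of_flat_of_isLocalHom

end Groth.Agent.Lib.Helper8.Hzl
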