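import Mathlib
import Groth.Agent.Lib.Helper8.Hzl.Colimit

/-!
# The colimit of the pointed local-étale algebras is henselian
-/

open IsLocalRing TensorProduct Polynomial

universe u

namespace Groth.Agent.Lib.Helper8.Hzl

lemma eval_map_hom {A B : Type*} [CommRing A] [CommRing B] (f : A →+* B) (p : A[X]) (x : A) :
    (p.map f).eval (f x) = f (p.eval x) := by
  rw [Polynomial.eval_map, Polynomial.eval₂_at_apply]

section Away

variable {R : Type u} [CommRing R] {E : Type u} [CommRing E] [Algebra R E] (M : Submonoid E)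
  (B : Type u) [CommRing B] [Algebra E B] [Algebra R B] [IsScalarTower R E B] [IsLocalization M B]

/-- The map from a principal localization to the full localization. -/
noncomputable def awayTo (s : M) : Localization.Away (s : E) →ₐ[R] B :=
  IsLocalization.Away.liftAlgHom (s : E) (f := IsScalarTower.toAlgHom R E B)
    (IsLocalization.map_units B s)

@[simp]
lemma awayTo_algebraMap (s : M) (e : E) :
    awayTo (R := R) M B s (algebraMap E (Localization.Away (s : E)) e) = algebraMap E B e := by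
  simp [awayTo, IsLocalization.Away.lift_eq]

/-- Clearing denominators of a monic polynomial and an element. -/
theorem exists_away_descent (F : B[X]) (hF : F.Monic) (a : B) :
    ∃ (s : M) (F' : (Localization.Away (s : E))[X]) (a' : Localization.Away (s : E)),
      F'.Monic ∧ F'.map (awayTo (R := R) M B s : Localization.Away (s : E) →+* B) = F ∧
        awayTo (R := R) M B s a' = a := by
  classical
  obtain ⟨s, hs⟩ := IsLocalization.exist_integer_multiples_of_finset M (insert a F.coeffs)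
  have hrange : ∀ t ∈ insert a F.coeffs,
      t ∈ Set.range (awayTo (R := R) M B s : Localization.Away (s : E) →+* B) := by
    intro t ht
    obtain ⟨e, he⟩ := hs t ht
    refine ⟨IsLocalization.mk' (Localization.Away (s : E)) e
      (⟨(s : E), Submonoid.mem_powers _⟩ : Submonoid.powers (s : E)), ?_⟩
    have hu := IsLocalization.map_units B s
    apply hu.mul_left_injective
    change awayTo (R := R) M B s _ * algebraMap E B s = t * algebraMap E B s
    rw [← awayTo_algebraMap (R := R) M B s (s : E), ← map_mul, IsLocalization.mk'_spec,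
      awayTo_algebraMap, awayTo_algebraMap, he, Algebra.smul_def, mul_comm]
  have hl : F ∈ Polynomial.lifts (awayTo (R := R) M B s : Localization.Away (s : E) →+* B) := by
    rw [Polynomial.lifts_iff_coeff_lifts]
    intro n
    by_cases h0 : F.coeff n = 0
    · rw [h0]; exact ⟨0, map_zero _⟩
    · exact hrange _ (Finset.mem_insert_of_mem (Polynomial.coeff_mem_coeffs h0))
  obtain ⟨F', hF', -, hF'm⟩ := Polynomial.lifts_and_natDegree_eq_and_monic hl hF
  obtain ⟨a', ha'⟩ := hrange a (Finset.mem_insert_self _ _)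
  exact ⟨s, F', a', hF'm, hF', ha'⟩

end Away

variable {R : Type u} [CommRing R] {Ω : Type u} [Field Ω] [Algebra R Ω]

/-- Simple roots in `Ω` of monic polynomials over pointed étale algebras lift to a dominating
pointed local-étale algebra. -/
theorem exists_root_dominating (E' : Type u) [CommRing E'] [Algebra R E'] [Algebra.Etale R E']
    (χ' : E' →ₐ[R] Ω) (F : E'[X]) (hF : F.Monic) (a' : E')
    (h0 : χ' (F.eval a') = 0) (h1 : χ' (F.derivative.eval a') ≠ 0) :
    ∃ (k : Idx R Ω) (φ : E' →ₐ[R] k.B) (c : k.B),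
      (∀ e, k.χB (φ e) = χ' e) ∧ (F.map (φ : E' →+* k.B)).eval c = 0 ∧ k.χB c = χ' a' := by
  let pr : StandardEtalePair E' := ⟨F, hF, derivative F, 1, 0, 1, by simp⟩
  let : Algebra R pr.Ring := ((algebraMap E' pr.Ring).comp (algebraMap R E')).toAlgebra
  have : IsScalarTower R E' pr.Ring := IsScalarTower.of_algebraMap_eq' rfl
  have : Algebra.Etale R pr.Ring := Algebra.Etale.comp R E' pr.Ring
  let : Algebra E' Ω := χ'.toRingHom.toAlgebra
  have : IsScalarTower R E' Ω :=
    IsScalarTower.of_algebraMap_eq' (RingHom.ext fun r => (χ'.commutes r).symm)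
  have e1 : ∀ p : E'[X], aeval (χ' a') p = χ' (p.eval a') := fun p => by
    change aeval (algebraMap E' Ω a') p = algebraMap E' Ω (p.eval a')
    rw [Polynomial.aeval_algebraMap_apply, Polynomial.coe_aeval_eq_eval]
  have hmap : pr.HasMap (χ' a') :=
    ⟨by rw [e1]; exact h0, by rw [e1]; exact IsUnit.mk0 _ h1⟩
  let χC' : pr.Ring →ₐ[E'] Ω := pr.lift (χ' a') hmap
  let χC : pr.Ring →ₐ[R] Ω := χC'.restrictScalars R
  obtain ⟨k, φ, hφ⟩ := Idx.exists_dominating pr.Ring χC
  refine ⟨k, φ.comp (IsScalarTower.toAlgHom R E' pr.Ring), φ pr.X, ?_, ?_, ?_⟩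
  · intro e
    rw [AlgHom.comp_apply, hφ]
    change χC' (algebraMap E' pr.Ring e) = χ' e
    rw [AlgHom.commutes]; rfl
  · have h2 : aeval pr.X F = 0 := pr.hasMap_X.1
    have h3 := Polynomial.hom_eval₂ F (algebraMap E' pr.Ring) (φ : pr.Ring →+* k.B) pr.X
    rw [Polynomial.eval_map]
    rw [Polynomial.aeval_def] at h2
    rw [h2, map_zero] at h3
    rw [h3]; rfl
  · rw [hφ]; exact pr.lift_X (χ' a') hmap

instance : HenselianLocalRing (Hz R Ω) := by
  refine ⟨fun F hF a₀ h₁ h₂ => ?_⟩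
  obtain ⟨i₁, F₁, hF₁⟩ := Ring.DirectLimit.Polynomial.exists_of F
  obtain ⟨F₁', hF₁', -, hF₁m⟩ := Polynomial.lifts_and_natDegree_eq_and_monic
    (f := ofHom R Ω i₁) ((Polynomial.mem_lifts _).mpr ⟨F₁, hF₁⟩) hF
  obtain ⟨i₂, a₂, ha₂⟩ := exists_ofHom a₀
  obtain ⟨i, h1i, h2i⟩ := exists_ge_ge i₁ i₂
  obtain ⟨Fi, hFidef⟩ : ∃ Fi : i.B[X], Fi = F₁'.map (trR R Ω i₁ i h1i) := ⟨_, rfl⟩
  have hFi : Fi.Monic := hFidef ▸ hF₁m.map _
  have hFi' : Fi.map (ofHom R Ω i) = F := by
    rw [hFidef, Polynomial.map_map, ← hF₁']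
    congr 1
    ext b
    exact ofHom_tr i₁ i h1i b
  obtain ⟨ai, haidef⟩ : ∃ ai : i.B, ai = Idx.tr i₂ i h2i a₂ := ⟨_, rfl⟩
  have hai : ofHom R Ω i ai = a₀ := by rw [haidef, ofHom_tr, ha₂]
  obtain ⟨s, F', a', hF'm, hF', ha'⟩ :=
    exists_away_descent (R := R) i.q.primeCompl i.B Fi hFi ai
  have : Algebra.Etale R (Localization.Away (s : i.E)) := Algebra.Etale.comp R i.E _
  obtain ⟨ι, hι⟩ : ∃ ι : Localization.Away (s : i.E) →ₐ[R] i.B,
      ι = awayTo (R := R) i.q.primeCompl i.B s := ⟨_, rfl⟩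
  rw [← hι] at hF' ha'
  obtain ⟨χ', hχ'⟩ : ∃ χ' : Localization.Away (s : i.E) →ₐ[R] Ω, χ' = i.χB.comp ι := ⟨_, rfl⟩
  obtain ⟨Θ, hΘ⟩ : ∃ Θ : Localization.Away (s : i.E) →+* Hz R Ω,
      Θ = (ofHom R Ω i).comp (ι : Localization.Away (s : i.E) →+* i.B) := ⟨_, rfl⟩
  have hΘF : F'.map Θ = F := by rw [hΘ, ← Polynomial.map_map, hF', hFi']
  have hΘa : Θ a' = a₀ := by rw [hΘ, RingHom.comp_apply, RingHom.coe_coe, ha', hai]
  have hχΘ : ∀ e, χ' e = χS R Ω (Θ e) := fun e => by
    rw [hχ', hΘ, RingHom.comp_apply, χS_ofHom]; rfl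
  have e0 : χ' (F'.eval a') = 0 := by
    rw [hχΘ, ← eval_map_hom, hΘF, hΘa]
    exact (mem_maximalIdeal_iff _).mp h₁
  have e1 : χ' (F'.derivative.eval a') ≠ 0 := by
    rw [hχΘ, ← eval_map_hom, ← Polynomial.derivative_map, hΘF, hΘa]
    exact (isUnit_iff _).mp h₂
  obtain ⟨k, φ, c, hφ, hc, hcχ⟩ := exists_root_dominating _ χ' F' hF'm a' e0 e1
  obtain ⟨hik, -⟩ := Idx.exists_le_of_algHom i k
    (φ.comp (IsScalarTower.toAlgHom R i.E (Localization.Away (s : i.E))))
    (fun e => by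
      rw [AlgHom.comp_apply, hφ, hχ', AlgHom.comp_apply, hι]
      simp)
  have hφι : φ = (Idx.tr i k hik).comp ι := k.algHom_ext_χ _ _ (fun e => by
    rw [hφ, hχ']; simp)
  have hΘ' : Θ = (ofHom R Ω k).comp (φ : Localization.Away (s : i.E) →+* k.B) := by
    ext e
    rw [hΘ, hφι]
    simp [ofHom_tr]
  refine ⟨ofHom R Ω k c, ?_, ?_⟩
  · rw [Polynomial.IsRoot.def, ← hΘF, hΘ', ← Polynomial.map_map, eval_map_hom, hc, map_zero]
  · rw [mem_maximalIdeal_iff, map_sub, χS_ofHom, hcχ, ← hΘa, ← hχΘ, sub_self]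

end Groth.Agent.Lib.Helper8.Hzl
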