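import Mathlib
import Groth.Agent.Lib.Helper8.Hzl.Henselian

/-!
# The universal property of the colimit of pointed local-étale algebras
-/

open IsLocalRing TensorProduct Polynomial

universe u

namespace Groth.Agent.Lib.Helper8.Hzl

variable {R : Type u} [CommRing R] {Ω : Type u} [Field Ω] [Algebra R Ω]

/-- Maps from an unramified algebra into a local ring are determined by their residues. -/
lemma algHom_ext_residue {E : Type*} [CommRing E] [Algebra R E] [Algebra.EssFiniteType R E]
    [Algebra.FormallyUnramified R E] {T : Type*} [CommRing T] [IsLocalRing T] [Algebra R T]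
    (φ φ' : E →ₐ[R] T) (h : ∀ e, residue T (φ e) = residue T (φ' e)) : φ = φ' := by
  apply algHom_eq_of_sub_mem_jacobson
  intro x
  rw [IsLocalRing.jacobson_eq_maximalIdeal ⊥ bot_ne_top, ← residue_eq_zero_iff, map_sub, h,
    sub_self]

section Universal

variable (T : Type u) [CommRing T] [HenselianLocalRing T] [Algebra R T]
  (τ : Ω →ₐ[R] ResidueField T)

lemma exists_gE (i : Idx R Ω) : ∃ g : i.E →ₐ[R] T, ∀ e, residue T (g e) = τ (i.χ e) := by
  obtain ⟨g, hg⟩ := (algHom_residue_bijective R i.E T).2 (τ.comp i.χ)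
  exact ⟨g, fun e => DFunLike.congr_fun hg e⟩

lemma exists_gB (i : Idx R Ω) : ∃ g : i.B →ₐ[R] T, ∀ b, residue T (g b) = τ (i.χB b) := by
  obtain ⟨g, hg⟩ := exists_gE T τ i
  have hu : ∀ y : i.q.primeCompl, IsUnit (g y) := fun y => by
    rw [← residue_ne_zero_iff_isUnit, hg]
    exact (map_ne_zero τ).mpr (i.isUnit_χ y).ne_zero
  let g' : i.B →ₐ[R] T := IsLocalization.liftAlgHom (M := i.q.primeCompl) (f := g) hu
  refine ⟨g', fun b => ?_⟩
  have h1 : (residue T).comp (g' : i.B →+* T) = (τ : Ω →+* ResidueField T).comp (i.χB : i.B →+* Ω) := by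
    apply IsLocalization.ringHom_ext i.q.primeCompl
    ext e
    simp [g', hg]
  exact DFunLike.congr_fun h1 b

/-- The maps on the local rings. -/
noncomputable def gB (i : Idx R Ω) : i.B →ₐ[R] T := (exists_gB T τ i).choose

@[simp]
lemma residue_gB (i : Idx R Ω) (b : i.B) : residue T (gB T τ i b) = τ (i.χB b) :=
  (exists_gB T τ i).choose_spec b

lemma gB_tr (i j : Idx R Ω) (h : i ≤ j) (b : i.B) : gB T τ j (Idx.tr i j h b) = gB T τ i b := by
  have h1 : (gB T τ j).comp (Idx.tr i j h) = gB T τ i :=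
    algHom_ext_residue _ _ (fun e => by simp)
  exact DFunLike.congr_fun h1 b

/-- The induced map out of the colimit. -/
noncomputable def desc : Hz R Ω →ₐ[R] T :=
  { Ring.DirectLimit.lift (fun i : Idx R Ω => i.B) (fun i j h => trR R Ω i j h) T
      (fun i : Idx R Ω => (gB T τ i : i.B →+* T)) (fun i j h x => gB_tr T τ i j h x) with
    commutes' := fun r => by
      rw [algebraMap_eq (Classical.arbitrary _)]
      simp [ofHom] }

@[simp]
lemma desc_ofHom (i : Idx R Ω) (b : i.B) : desc T τ (ofHom R Ω i b) = gB T τ i b := by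
  simp [desc, ofHom]

lemma residue_desc (x : Hz R Ω) : residue T (desc T τ x) = τ (χS R Ω x) := by
  obtain ⟨i, b, rfl⟩ := exists_ofHom x
  rw [desc_ofHom, residue_gB, χS_ofHom]

theorem desc_unique (g : Hz R Ω →ₐ[R] T) (hg : ∀ x, residue T (g x) = τ (χS R Ω x)) :
    g = desc T τ := by
  apply AlgHom.coe_ringHom_injective
  apply Ring.DirectLimit.hom_ext
  intro i
  have h1 : g.comp (ofAlg i) = (desc T τ).comp (ofAlg i) :=
    algHom_ext_residue _ _ (fun b => by simp [hg])
  ext b
  exact DFunLike.congr_fun h1 b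

/-- The universal property: maps to henselian local rings correspond to maps of points. -/
theorem existsUnique_algHom :
    ∃! g : Hz R Ω →ₐ[R] T, ∀ x, residue T (g x) = τ (χS R Ω x) :=
  ⟨desc T τ, residue_desc T τ, fun g hg => desc_unique T τ g hg⟩

end Universal

/-- When `R → Ω` is surjective, the residue condition is automatic. -/
theorem residue_eq_of_surjective [IsLocalRing R] [IsLocalHom (algebraMap R Ω)]
    (hsurj : Function.Surjective (algebraMap R Ω))
    (T : Type u) [CommRing T] [IsLocalRing T] [Algebra R T] [IsLocalHom (algebraMap R T)]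
    (τ : Ω →ₐ[R] ResidueField T) (g : Hz R Ω →ₐ[R] T) (x : Hz R Ω) :
    residue T (g x) = τ (χS R Ω x) := by
  obtain ⟨r, hr⟩ := hsurj (χS R Ω x)
  have h1 : x - algebraMap R _ r ∈ maximalIdeal (Hz R Ω) := by
    rw [mem_maximalIdeal_iff, map_sub, AlgHom.commutes, hr, sub_self]
  rw [← map_maximalIdeal] at h1
  have h2 : g (x - algebraMap R _ r) ∈ maximalIdeal T := by
    have h3 := Ideal.mem_map_of_mem (g : Hz R Ω →+* T) h1
    rw [Ideal.map_map, g.comp_algebraMap] at h3
    exact (Ideal.map_le_iff_le_comap.mpr fun r hr => map_nonunit _ r hr) h3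
  rw [map_sub, AlgHom.commutes, ← residue_eq_zero_iff, map_sub, sub_eq_zero] at h2
  rw [h2, ← hr, AlgHom.commutes]
  rfl

end Groth.Agent.Lib.Helper8.Hzl
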