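import Mathlib
import Groth.Prelude.Def_Hensel
import Groth.Agent.Lib.Helper8.Hzl.Universal
import Groth.Agent.Lib.Helper8.Hzl.Flat

/-!
# Henselization and strict henselization: existence and uniqueness
-/

open IsLocalRing TensorProduct Polynomial

universe u

namespace Groth.Agent.Lib.Helper8.Hzl

section ResEquiv

variable {R : Type u} [CommRing R] {Ω : Type u} [Field Ω] [Algebra R Ω]

/-- The residue field of the colimit, when the point is surjective. -/
noncomputable def resEquiv (h : Function.Surjective (χS R Ω)) : ResidueField (Hz R Ω) ≃+* Ω :=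
  RingEquiv.ofBijective (ResidueField.lift (χS R Ω).toRingHom)
    ⟨RingHom.injective _, fun ω => by
      obtain ⟨x, hx⟩ := h ω
      exact ⟨residue _ x, by rw [ResidueField.lift_residue_apply]; exact hx⟩⟩

@[simp]
lemma resEquiv_residue (h : Function.Surjective (χS R Ω)) (x : Hz R Ω) :
    resEquiv h (residue _ x) = χS R Ω x := by
  simp [resEquiv]

lemma resEquiv_symm_χS (h : Function.Surjective (χS R Ω)) (x : Hz R Ω) :
    (resEquiv h).symm (χS R Ω x) = residue _ x := by
  rw [RingEquiv.symm_apply_eq, resEquiv_residue]

end ResEquiv

lemma isSepClosed_of_ringEquiv {K L : Type*} [Field K] [Field L] (e : K ≃+* L) [IsSepClosed K] :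
    IsSepClosed L := by
  refine ⟨fun p hp => ?_⟩
  have h1 : (p.map (e.symm : L →+* K)).Separable := hp.map
  have h2 := (IsSepClosed.splits_of_separable _ h1).map (e : K →+* L)
  rwa [Polynomial.map_map, show (e : K →+* L).comp (e.symm : L →+* K) = RingHom.id L from
    RingHom.ext fun x => e.apply_symm_apply x, Polynomial.map_id] at h2

section Hens

variable (R : Type u) [CommRing R] [IsLocalRing R]

instance isLocalHom_algebraMap_residueField : IsLocalHom (algebraMap R (ResidueField R)) := by
  rw [ResidueField.algebraMap_eq]; infer_instance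

/-- The henselization of a local ring. -/
abbrev Hens : Type u := Hz R (ResidueField R)

theorem isHenselization : Hensel.IsHenselization R (Hens R) where
  henselian := inferInstance
  universal T _ _ f hf := by
    let _ := f.toAlgebra
    have : IsLocalHom (algebraMap R T) := hf
    have : IsLocalHom f := hf
    let τ : ResidueField R →ₐ[R] ResidueField T :=
      { ResidueField.map f with
        commutes' := fun r => by
          change ResidueField.map f (residue R r) = residue T (f r)
          exact ResidueField.map_residue f r }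
    obtain ⟨g, hg, hu⟩ := existsUnique_algHom T τ
    refine ⟨g, g.comp_algebraMap, fun g' hg' => ?_⟩
    let g'' : Hens R →ₐ[R] T := { g' with commutes' := fun r => DFunLike.congr_fun hg' r }
    have h1 := hu g'' (fun x => residue_eq_of_surjective residue_surjective T τ g'' x)
    rw [← h1]; rfl

/-- Any two henselizations are isomorphic. -/
theorem nonempty_algEquiv_of_isHenselization (S S' : Type u) [CommRing S] [IsLocalRing S]
    [Algebra R S] [IsLocalHom (algebraMap R S)] [CommRing S'] [IsLocalRing S'] [Algebra R S']
    [IsLocalHom (algebraMap R S')] [hS : Hensel.IsHenselization R S]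
    [hS' : Hensel.IsHenselization R S'] : Nonempty (S ≃ₐ[R] S') := by
  have : HenselianLocalRing S := hS.henselian
  have : HenselianLocalRing S' := hS'.henselian
  obtain ⟨g, hg, -⟩ := hS.universal S' (algebraMap R S') inferInstance
  obtain ⟨g', hg', -⟩ := hS'.universal S (algebraMap R S) inferInstance
  have h1 : g'.comp g = RingHom.id S :=
    (hS.universal S (algebraMap R S) inferInstance).unique
      (by rw [RingHom.comp_assoc, hg, hg']) (RingHom.id_comp _)
  have h2 : g.comp g' = RingHom.id S' :=
    (hS'.universal S' (algebraMap R S') inferInstance).unique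
      (by rw [RingHom.comp_assoc, hg', hg]) (RingHom.id_comp _)
  exact ⟨AlgEquiv.ofRingEquiv (f := RingEquiv.ofRingHom g g' h2 h1)
    (fun r => DFunLike.congr_fun hg r)⟩

end Hens

section Strict

variable (R : Type u) [CommRing R] [IsLocalRing R]

/-- The separable closure of the residue field. -/
abbrev Ωs : Type u := SeparableClosure (ResidueField R)

instance isLocalHom_algebraMap_Ωs : IsLocalHom (algebraMap R (Ωs R)) := ⟨fun r hr => by
  rw [IsScalarTower.algebraMap_apply R (ResidueField R) (Ωs R)] at hr
  have h1 : algebraMap R (ResidueField R) r ≠ 0 := fun h0 => by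
    rw [h0, map_zero] at hr
    exact not_isUnit_zero hr
  exact (residue_ne_zero_iff_isUnit r).mp h1⟩

/-- The strict henselization of a local ring. -/
abbrev SHens : Type u := Hz R (Ωs R)

lemma exists_monic_simple_root (ω : Ωs R) :
    ∃ P : R[X], P.Monic ∧ aeval ω P = 0 ∧ aeval ω (derivative P) ≠ 0 := by
  obtain ⟨p, hpdef⟩ : ∃ p, p = minpoly (ResidueField R) ω := ⟨_, rfl⟩
  have hp : p.Monic := hpdef ▸ minpoly.monic (Algebra.IsIntegral.isIntegral ω)
  have hsep : p.Separable := hpdef ▸ Algebra.IsSeparable.isSeparable (ResidueField R) ω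
  have hroot : aeval ω p = 0 := hpdef ▸ minpoly.aeval _ _
  obtain ⟨P, hP, -, hPm⟩ := Polynomial.lifts_and_natDegree_eq_and_monic (f := residue R)
    (Polynomial.mem_lifts_of_surjective residue_surjective p) hp
  have hP' : P.map (algebraMap R (ResidueField R)) = p := hP
  refine ⟨P, hPm, ?_, ?_⟩
  · rw [← Polynomial.aeval_map_algebraMap (ResidueField R), hP', hroot]
  · rw [← Polynomial.aeval_map_algebraMap (ResidueField R), ← Polynomial.derivative_map, hP']
    exact hsep.aeval_derivative_ne_zero hroot

lemma χS_surjective_strict : Function.Surjective (χS R (Ωs R)) :=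
  χS_surjective (exists_monic_simple_root R)

/-- The residue field of the strict henselization is the separable closure. -/
noncomputable def resAlgEquiv :
    ResidueField (SHens R) ≃ₐ[ResidueField R] Ωs R :=
  AlgEquiv.ofRingEquiv (f := resEquiv (χS_surjective_strict R)) (fun x => by
    obtain ⟨r, rfl⟩ := residue_surjective x
    change resEquiv _ (ResidueField.map (algebraMap R (SHens R)) (residue R r)) = _
    rw [ResidueField.map_residue, resEquiv_residue, AlgHom.commutes]
    exact IsScalarTower.algebraMap_apply R (ResidueField R) (Ωs R) r)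

instance : IsSepClosure (ResidueField R) (ResidueField (SHens R)) := by
  rw [isSepClosure_iff]
  exact ⟨isSepClosed_of_ringEquiv (resAlgEquiv R).symm.toRingEquiv,
    Algebra.IsSeparable.of_algHom _ _ (resAlgEquiv R).toAlgHom⟩

theorem isStrictHenselization : Hensel.IsStrictHenselization R (SHens R) where
  henselian := inferInstance
  isSepClosure := inferInstance
  universal T _ _ f _ τ hτ := by
    let _ := f.toAlgebra
    obtain ⟨e, hedef⟩ : ∃ e, e = resEquiv (χS_surjective_strict R) := ⟨_, rfl⟩
    have key0 : ∀ x : SHens R, e.symm (χS R _ x) = residue _ x := fun x => by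
      rw [hedef, resEquiv_symm_χS]
    let τ' : Ωs R →ₐ[R] ResidueField T :=
      { τ.comp (e.symm : Ωs R →+* ResidueField (SHens R)) with
        commutes' := fun r => by
          change τ (e.symm (algebraMap R (Ωs R) r)) = residue T (f r)
          rw [← (χS R (Ωs R)).commutes r, key0, ← ResidueField.map_residue,
            ← RingHom.comp_apply, hτ, ResidueField.map_residue] }
    have key : ∀ x : SHens R, τ' (χS R _ x) = τ (residue _ x) := fun x => by
      change τ (e.symm (χS R _ x)) = _
      rw [key0]
    obtain ⟨g, hg, hu⟩ := existsUnique_algHom T τ'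
    refine ⟨g, ⟨g.comp_algebraMap, fun x => (hg x).trans (key x)⟩, fun g' hg' => ?_⟩
    let g'' : SHens R →ₐ[R] T := { g' with commutes' := fun r => DFunLike.congr_fun hg'.1 r }
    have h1 := hu g'' (fun x => by rw [key]; exact hg'.2 x)
    rw [← h1]; rfl

/-- Any two strict henselizations are isomorphic. -/
theorem nonempty_algEquiv_of_isStrictHenselization (S S' : Type u) [CommRing S] [IsLocalRing S]
    [Algebra R S] [IsLocalHom (algebraMap R S)] [CommRing S'] [IsLocalRing S'] [Algebra R S']
    [IsLocalHom (algebraMap R S')] [hS : Hensel.IsStrictHenselization R S]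
    [hS' : Hensel.IsStrictHenselization R S'] : Nonempty (S ≃ₐ[R] S') := by
  have : HenselianLocalRing S := hS.henselian
  have : HenselianLocalRing S' := hS'.henselian
  have : IsSepClosure (ResidueField R) (ResidueField S) := hS.isSepClosure
  have : IsSepClosure (ResidueField R) (ResidueField S') := hS'.isSepClosure
  let σ : ResidueField S ≃ₐ[ResidueField R] ResidueField S' := IsSepClosure.equiv _ _ _
  have hσ : (σ : ResidueField S →+* ResidueField S').comp
      (ResidueField.map (algebraMap R S)) = ResidueField.map (algebraMap R S') :=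
    RingHom.ext fun x => σ.commutes x
  have hσ' : (σ.symm : ResidueField S' →+* ResidueField S).comp
      (ResidueField.map (algebraMap R S')) = ResidueField.map (algebraMap R S) :=
    RingHom.ext fun x => σ.symm.commutes x
  obtain ⟨g, ⟨hg1, hg2⟩, -⟩ := hS.universal S' (algebraMap R S') σ hσ
  obtain ⟨g', ⟨hg'1, hg'2⟩, -⟩ := hS'.universal S (algebraMap R S) σ.symm hσ'
  have h1 : g'.comp g = RingHom.id S :=
    (hS.universal S (algebraMap R S) (RingHom.id _) (RingHom.id_comp _)).unique
      ⟨by rw [RingHom.comp_assoc, hg1, hg'1], fun x => by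
        rw [RingHom.comp_apply, hg'2, hg2]; simp⟩
      ⟨RingHom.id_comp _, fun x => rfl⟩
  have h2 : g.comp g' = RingHom.id S' :=
    (hS'.universal S' (algebraMap R S') (RingHom.id _) (RingHom.id_comp _)).unique
      ⟨by rw [RingHom.comp_assoc, hg'1, hg1], fun x => by
        rw [RingHom.comp_apply, hg2, hg'2]; simp⟩
      ⟨RingHom.id_comp _, fun x => rfl⟩
  exact ⟨AlgEquiv.ofRingEquiv (f := RingEquiv.ofRingHom g g' h2 h1)
    (fun r => DFunLike.congr_fun hg1 r)⟩

end Strict

end Groth.Agent.Lib.Helper8.Hzl
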