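import Mathlib
import Groth.Agent.Lib.Helper8.Hzl.Main

/-!
# Basic properties of arbitrary (strict) henselizations
-/

open IsLocalRing TensorProduct Polynomial

universe u

namespace Groth.Agent.Lib.Helper8.Hzl

section General

variable {R : Type u} [CommRing R] [IsLocalRing R] {S S' : Type u} [CommRing S] [IsLocalRing S]
  [Algebra R S] [IsLocalHom (algebraMap R S)] [CommRing S'] [IsLocalRing S'] [Algebra R S']

omit [IsLocalRing R] [IsLocalHom (algebraMap R S)] in
lemma mem_maximalIdeal_of_algEquiv (e : S ≃ₐ[R] S') (x : S) :
    e x ∈ maximalIdeal S' ↔ x ∈ maximalIdeal S := by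
  rw [mem_maximalIdeal, mem_nonunits_iff, mem_maximalIdeal, mem_nonunits_iff]
  exact not_congr (MulEquiv.isUnit_map (e : S ≃* S'))

lemma map_maximalIdeal_of_algEquiv (e : S ≃ₐ[R] S')
    (h : (maximalIdeal R).map (algebraMap R S') = maximalIdeal S') :
    (maximalIdeal R).map (algebraMap R S) = maximalIdeal S := by
  apply le_antisymm
  · exact Ideal.map_le_iff_le_comap.mpr fun r hr => map_nonunit _ r hr
  · intro x hx
    have h1 : e x ∈ maximalIdeal S' := (mem_maximalIdeal_of_algEquiv e x).mpr hx
    rw [← h] at h1
    have h2 := Ideal.mem_map_of_mem (e.symm.toAlgHom : S' →+* S) h1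
    rw [Ideal.map_map, AlgHom.comp_algebraMap] at h2
    simpa using h2

lemma residue_surjective_of_algEquiv (e : S ≃ₐ[R] S') [IsLocalHom (algebraMap R S')]
    (h : Function.Surjective (ResidueField.map (algebraMap R S'))) :
    Function.Surjective (ResidueField.map (algebraMap R S)) := by
  intro y
  obtain ⟨x, rfl⟩ := residue_surjective y
  obtain ⟨z, hz⟩ := h (residue S' (e x))
  obtain ⟨r, rfl⟩ := residue_surjective z
  refine ⟨residue R r, ?_⟩
  rw [ResidueField.map_residue] at hz ⊢
  rw [← sub_eq_zero, ← map_sub, residue_eq_zero_iff] at hz ⊢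
  rw [← mem_maximalIdeal_of_algEquiv e, map_sub, AlgEquiv.commutes]
  exact hz

/-- For a flat local algebra with `𝔪_R S = 𝔪_S` and trivial residue field extension, the
infinitesimal neighbourhoods agree. -/
theorem quotient_pow_bijective [Module.Flat R S]
    (hm : (maximalIdeal R).map (algebraMap R S) = maximalIdeal S)
    (hres : Function.Surjective (ResidueField.map (algebraMap R S))) (n : ℕ) :
    Function.Bijective (Ideal.quotientMap
      (Ideal.map (algebraMap R S) (maximalIdeal R ^ n)) (algebraMap R S) Ideal.le_comap_map) := by
  have : Module.FaithfullyFlat R S := Module.FaithfullyFlat.of_flat_of_isLocalHom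
  constructor
  · apply Ideal.quotientMap_injective'
    rw [Ideal.comap_map_eq_self_of_faithfullyFlat]
  · -- step one: every element is congruent to an element of `R` modulo `𝔪 S`
    have step1 : ∀ s : S, ∃ r : R, s - algebraMap R S r ∈ (maximalIdeal R).map (algebraMap R S) := by
      intro s
      obtain ⟨z, hz⟩ := hres (residue S s)
      obtain ⟨r, rfl⟩ := residue_surjective z
      refine ⟨r, ?_⟩
      rw [hm, ← residue_eq_zero_iff, map_sub, sub_eq_zero, ← hz, ResidueField.map_residue]
    have key : ∀ n : ℕ, ∀ y ∈ (maximalIdeal R ^ n).map (algebraMap R S),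
        ∃ r ∈ maximalIdeal R ^ n,
          y - algebraMap R S r ∈ (maximalIdeal R ^ (n + 1)).map (algebraMap R S) := by
      intro n y hy
      induction hy using Submodule.span_induction with
      | mem y hy =>
        obtain ⟨a, ha, rfl⟩ := hy
        exact ⟨a, ha, by simp⟩
      | zero => exact ⟨0, zero_mem _, by simp⟩
      | add y z _ _ hy hz =>
        obtain ⟨r, hr, hr'⟩ := hy
        obtain ⟨r', hr2, hr2'⟩ := hz
        refine ⟨r + r', add_mem hr hr2, ?_⟩
        have : y + z - algebraMap R S (r + r') =
            (y - algebraMap R S r) + (z - algebraMap R S r') := by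
          rw [map_add]; ring
        rw [this]
        exact add_mem hr' hr2'
      | smul s y hy0 hy =>
        obtain ⟨r, hr, hr'⟩ := hy
        obtain ⟨r', hr2⟩ := step1 s
        refine ⟨r' * r, Ideal.mul_mem_left _ _ hr, ?_⟩
        have : s • y - algebraMap R S (r' * r) =
            (s - algebraMap R S r') * y + algebraMap R S r' * (y - algebraMap R S r) := by
          rw [map_mul, smul_eq_mul]; ring
        rw [this]
        refine add_mem ?_ (Ideal.mul_mem_left _ _ hr')
        have h3 : (s - algebraMap R S r') * y ∈
            (maximalIdeal R).map (algebraMap R S) * (maximalIdeal R ^ n).map (algebraMap R S) :=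
          Ideal.mul_mem_mul hr2 hy0
        rwa [← Ideal.map_mul, ← pow_succ'] at h3
    have surj : ∀ n : ℕ, ∀ s : S, ∃ r : R,
        s - algebraMap R S r ∈ (maximalIdeal R ^ n).map (algebraMap R S) := by
      intro n
      induction n with
      | zero =>
        intro s
        refine ⟨0, ?_⟩
        rw [pow_zero, Ideal.one_eq_top, Ideal.map_top]
        exact Submodule.mem_top
      | succ n ih =>
        intro s
        obtain ⟨r, hr⟩ := ih s
        obtain ⟨r', -, hr'⟩ := key n _ hr
        refine ⟨r + r', ?_⟩
        have : s - algebraMap R S (r + r') = s - algebraMap R S r - algebraMap R S r' := by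
          rw [map_add]; ring
        rwa [this]
    intro y
    obtain ⟨s, rfl⟩ := Ideal.Quotient.mk_surjective y
    obtain ⟨r, hr⟩ := surj n s
    refine ⟨Ideal.Quotient.mk _ r, ?_⟩
    rw [Ideal.quotientMap_mk, eq_comm, Ideal.Quotient.eq]
    exact hr

end General

section Hens

variable (R : Type u) [CommRing R] [IsLocalRing R]

lemma residue_surjective_hens :
    Function.Surjective (ResidueField.map (algebraMap R (Hens R))) := by
  intro y
  obtain ⟨x, rfl⟩ := residue_surjective y
  obtain ⟨r, hr⟩ := residue_surjective (χS R (ResidueField R) x)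
  refine ⟨residue R r, ?_⟩
  rw [ResidueField.map_residue, ← sub_eq_zero, ← map_sub, residue_eq_zero_iff,
    mem_maximalIdeal_iff, map_sub, AlgHom.commutes, sub_eq_zero]
  exact hr

variable (S : Type u) [CommRing S] [IsLocalRing S] [Algebra R S] [IsLocalHom (algebraMap R S)]

section

variable [Hensel.IsHenselization R S]

/-- An arbitrary henselization is isomorphic to the constructed one. -/
theorem nonempty_algEquiv_hens : Nonempty (S ≃ₐ[R] Hens R) := by
  have := isHenselization R
  exact nonempty_algEquiv_of_isHenselization R S (Hens R)

theorem henselization_map_maximalIdeal :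
    (maximalIdeal R).map (algebraMap R S) = maximalIdeal S := by
  obtain ⟨e⟩ := nonempty_algEquiv_hens R S
  exact map_maximalIdeal_of_algEquiv e map_maximalIdeal

theorem henselization_residue_bijective :
    Function.Bijective (ResidueField.map (algebraMap R S)) := by
  obtain ⟨e⟩ := nonempty_algEquiv_hens R S
  exact ⟨RingHom.injective _, residue_surjective_of_algEquiv e (residue_surjective_hens R)⟩

theorem henselization_flat : Module.Flat R S := by
  obtain ⟨e⟩ := nonempty_algEquiv_hens R S
  exact Module.Flat.of_linearEquiv e.toLinearEquiv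

theorem henselization_faithfullyFlat : Module.FaithfullyFlat R S := by
  have := henselization_flat R S
  exact Module.FaithfullyFlat.of_flat_of_isLocalHom

end

section

variable [Hensel.IsStrictHenselization R S]

/-- An arbitrary strict henselization is isomorphic to the constructed one. -/
theorem nonempty_algEquiv_shens : Nonempty (S ≃ₐ[R] SHens R) := by
  have := isStrictHenselization R
  exact nonempty_algEquiv_of_isStrictHenselization R S (SHens R)

theorem strictHenselization_map_maximalIdeal :
    (maximalIdeal R).map (algebraMap R S) = maximalIdeal S := by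
  obtain ⟨e⟩ := nonempty_algEquiv_shens R S
  exact map_maximalIdeal_of_algEquiv e map_maximalIdeal

theorem strictHenselization_flat : Module.Flat R S := by
  obtain ⟨e⟩ := nonempty_algEquiv_shens R S
  exact Module.Flat.of_linearEquiv e.toLinearEquiv

theorem strictHenselization_faithfullyFlat : Module.FaithfullyFlat R S := by
  have := strictHenselization_flat R S
  exact Module.FaithfullyFlat.of_flat_of_isLocalHom

end

end Hens

end Groth.Agent.Lib.Helper8.Hzl
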