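import Mathlib
import Groth.Agent.Lib.Helper8.Hzl.Transfer

/-!
# Krull dimension of (strict) henselizations
-/

open IsLocalRing TensorProduct Polynomial

universe u

namespace Groth.Agent.Lib.Helper8.Hzl

theorem ringKrullDim_le_of_incomparable {R S : Type*} [CommRing R] [CommRing S] [Algebra R S]
    (h : ∀ (P Q : Ideal S) [P.IsPrime] [Q.IsPrime], P ≤ Q → P.under R = Q.under R → P = Q) :
    ringKrullDim S ≤ ringKrullDim R := by
  apply Order.krullDim_le_of_strictMono (PrimeSpectrum.comap (algebraMap R S))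
  intro P Q hPQ
  have hle : P.asIdeal ≤ Q.asIdeal := (PrimeSpectrum.asIdeal_le_asIdeal P Q).mpr hPQ.le
  refine lt_of_le_of_ne ?_ ?_
  · rw [← PrimeSpectrum.asIdeal_le_asIdeal]
    exact Ideal.comap_mono hle
  · intro heq
    have h1 : P.asIdeal.under R = Q.asIdeal.under R := congrArg PrimeSpectrum.asIdeal heq
    have h2 := h P.asIdeal Q.asIdeal hle h1
    exact hPQ.ne (PrimeSpectrum.ext h2)

theorem ringKrullDim_le_of_faithfullyFlat {R S : Type*} [CommRing R] [CommRing S] [Algebra R S]
    [Module.FaithfullyFlat R S] : ringKrullDim R ≤ ringKrullDim S := by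
  change (⨆ p : LTSeries (PrimeSpectrum R), (p.length : WithBot ℕ∞)) ≤ _
  apply iSup_le
  intro l
  obtain ⟨P, hP⟩ := PrimeSpectrum.comap_surjective_of_faithfullyFlat (A := R) (B := S) l.last
  have : P.asIdeal.LiesOver l.last.asIdeal := ⟨by rw [← hP]; rfl⟩
  obtain ⟨L, hL, -, -⟩ := Ideal.exists_ltSeries_of_hasGoingDown l P.asIdeal
  rw [← hL]
  exact Order.LTSeries.length_le_krullDim L

variable {R : Type u} [CommRing R] {Ω : Type u} [Field Ω] [Algebra R Ω]

/-- Incomparability for the colimit of pointed local-étale algebras. -/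
theorem eq_of_le_of_under_eq (P Q : Ideal (Hz R Ω)) [P.IsPrime] [Q.IsPrime] (h : P ≤ Q)
    (h₂ : P.under R = Q.under R) : P = Q := by
  apply le_antisymm h
  intro x hx
  obtain ⟨i, b, rfl⟩ := exists_ofHom x
  have hc : (ofHom R Ω i).comp (algebraMap R i.B) = algebraMap R (Hz R Ω) :=
    RingHom.ext fun r => (algebraMap_eq i r).symm
  have hu : ∀ J : Ideal (Hz R Ω), (J.comap (ofHom R Ω i)).under R = J.under R := fun J => by
    rw [Ideal.under_def, Ideal.under_def, Ideal.comap_comap, hc]
  have h3 := Algebra.QuasiFinite.eq_of_le_of_under_eq (R := R) (P.comap (ofHom R Ω i))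
    (Q.comap (ofHom R Ω i)) (Ideal.comap_mono h) (by rw [hu, hu, h₂])
  have hb : b ∈ Q.comap (ofHom R Ω i) := hx
  rw [← h3] at hb
  exact hb

theorem ringKrullDim_eq [IsLocalRing R] [IsLocalHom (algebraMap R Ω)] :
    ringKrullDim (Hz R Ω) = ringKrullDim R :=
  le_antisymm (ringKrullDim_le_of_incomparable fun P Q _ _ => eq_of_le_of_under_eq P Q)
    ringKrullDim_le_of_faithfullyFlat

section

variable (R : Type u) [CommRing R] [IsLocalRing R]
  (S : Type u) [CommRing S] [IsLocalRing S] [Algebra R S] [IsLocalHom (algebraMap R S)]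

theorem henselization_ringKrullDim [Hensel.IsHenselization R S] :
    ringKrullDim S = ringKrullDim R := by
  obtain ⟨e⟩ := nonempty_algEquiv_hens R S
  rw [ringKrullDim_eq_of_ringEquiv e.toRingEquiv]
  exact ringKrullDim_eq

theorem strictHenselization_ringKrullDim [Hensel.IsStrictHenselization R S] :
    ringKrullDim S = ringKrullDim R := by
  obtain ⟨e⟩ := nonempty_algEquiv_shens R S
  rw [ringKrullDim_eq_of_ringEquiv e.toRingEquiv]
  exact ringKrullDim_eq

end

end Groth.Agent.Lib.Helper8.Hzl
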