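import Mathlib
import Groth.Agent.S0542
import Groth.Agent.Lib.Helper8.FlatCompl
import Groth.Agent.Lib.Helper8.Hzl.Transfer

/-!
# The henselization of a Noetherian local ring is Noetherian
-/

set_option autoImplicit false

open IsLocalRing TensorProduct Polynomial

universe u

namespace Groth.Agent.Lib.Helper8.Hzl

section Compl

variable {S : Type u} [CommRing S] (𝔫 : Ideal S)

lemma compl_exists_sub_mem (h𝔫 : 𝔫.FG) (n : ℕ) (t : AdicCompletion 𝔫 S) :
    ∃ s : S, t - algebraMap S (AdicCompletion 𝔫 S) s ∈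
      (𝔫 ^ n).map (algebraMap S (AdicCompletion 𝔫 S)) := by
  obtain ⟨s, hs⟩ := Submodule.mkQ_surjective _ (AdicCompletion.eval 𝔫 S n t)
  refine ⟨s, ?_⟩
  have h1 : t - AdicCompletion.of 𝔫 S s ∈ LinearMap.ker (AdicCompletion.eval 𝔫 S n) := by
    rw [LinearMap.mem_ker, map_sub, AdicCompletion.eval_of, hs, sub_self]
  rw [← AdicCompletion.pow_smul_top_eq_ker_eval h𝔫, Ideal.smul_top_eq_map] at h1
  exact h1

lemma compl_mem_of_map_mem (h𝔫 : 𝔫.FG) (n : ℕ) (s : S)
    (h : algebraMap S (AdicCompletion 𝔫 S) s ∈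
      (𝔫 ^ n).map (algebraMap S (AdicCompletion 𝔫 S))) : s ∈ 𝔫 ^ n := by
  have h1 : AdicCompletion.of 𝔫 S s ∈ (𝔫 ^ n • ⊤ : Submodule S (AdicCompletion 𝔫 S)) := by
    rw [Ideal.smul_top_eq_map]
    exact h
  rw [AdicCompletion.pow_smul_top_eq_ker_eval h𝔫, LinearMap.mem_ker, AdicCompletion.eval_of,
    Submodule.mkQ_apply, Submodule.Quotient.mk_eq_zero] at h1
  simpa using h1

end Compl

section General

variable {R : Type u} [CommRing R] [IsLocalRing R] {S : Type u} [CommRing S] [IsLocalRing S]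
  [Algebra R S] [IsLocalHom (algebraMap R S)]

/-- Elementwise form of `quotient_pow_bijective`. -/
lemma exists_sub_mem_map_pow [Module.Flat R S]
    (hm : (maximalIdeal R).map (algebraMap R S) = maximalIdeal S)
    (hres : Function.Surjective (ResidueField.map (algebraMap R S))) (n : ℕ) (s : S) :
    ∃ r : R, s - algebraMap R S r ∈ (maximalIdeal R ^ n).map (algebraMap R S) := by
  obtain ⟨y, hy⟩ := (quotient_pow_bijective hm hres n).2 (Ideal.Quotient.mk _ s)
  obtain ⟨r, rfl⟩ := Ideal.Quotient.mk_surjective y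
  refine ⟨r, ?_⟩
  rw [Ideal.quotientMap_mk, Ideal.Quotient.eq] at hy
  rw [← neg_sub]
  exact neg_mem hy

lemma mem_pow_of_map_mem [Module.Flat R S] (n : ℕ) (r : R)
    (h : algebraMap R S r ∈ (maximalIdeal R ^ n).map (algebraMap R S)) :
    r ∈ maximalIdeal R ^ n := by
  have : Module.FaithfullyFlat R S := Module.FaithfullyFlat.of_flat_of_isLocalHom
  have h1 : r ∈ ((maximalIdeal R ^ n).map (algebraMap R S)).comap (algebraMap R S) := h
  rwa [Ideal.comap_map_eq_self_of_faithfullyFlat] at h1

end General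

section Approx

/-- Flatness by approximation through an intermediate ring. -/
theorem flat_of_approx {A S T : Type u} [CommRing A] [CommRing S] [CommRing T] [Algebra A S]
    [Algebra S T] [Algebra A T] [IsScalarTower A S T] [IsNoetherianRing A] [IsNoetherianRing T]
    (I : Ideal A) (h1 : I.map (algebraMap A T) ≤ Ideal.jacobson ⊥)
    (h2 : ∀ (n : ℕ) (t : T), ∃ s : S, t - algebraMap S T s ∈ (I ^ n).map (algebraMap A T))
    (h3 : ∀ (n : ℕ) (s : S), algebraMap S T s ∈ (I ^ n).map (algebraMap A T) →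
      s ∈ (I ^ n).map (algebraMap A S))
    (h4 : ∀ (n : ℕ) (s : S), ∃ a : A, s - algebraMap A S a ∈ (I ^ n).map (algebraMap A S))
    (h5 : ∀ (n : ℕ) (a : A), algebraMap A S a ∈ (I ^ n).map (algebraMap A S) → a ∈ I ^ n) :
    Module.Flat A T := by
  apply flat_of_pow_quotient_iso I h1
  · intro n a ha
    apply h5 n
    apply h3 n
    rwa [← IsScalarTower.algebraMap_apply]
  · intro n t
    obtain ⟨s, hs⟩ := h2 n t
    obtain ⟨a, ha⟩ := h4 n s
    refine ⟨a, ?_⟩
    have h6 : algebraMap S T (s - algebraMap A S a) ∈ (I ^ n).map (algebraMap A T) := by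
      have := Ideal.mem_map_of_mem (algebraMap S T) ha
      rwa [Ideal.map_map, ← IsScalarTower.algebraMap_eq] at this
    have h7 : t - algebraMap A T a =
        (t - algebraMap S T s) + algebraMap S T (s - algebraMap A S a) := by
      rw [map_sub, ← IsScalarTower.algebraMap_apply]; ring
    rw [h7]
    exact add_mem hs h6

end Approx

section Hz

variable {R : Type u} [CommRing R] [IsLocalRing R] [IsNoetherianRing R] {Ω : Type u} [Field Ω]
  [Algebra R Ω] [IsLocalHom (algebraMap R Ω)]

instance (i : Idx R Ω) : IsNoetherianRing i.E := Algebra.FiniteType.isNoetherianRing R i.E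

instance (i : Idx R Ω) : IsNoetherianRing i.B :=
  IsLocalization.isNoetherianRing i.q.primeCompl i.B inferInstance

omit [IsNoetherianRing R] in
lemma Idx.residue_surjective (hsurj : Function.Surjective (algebraMap R Ω)) (i : Idx R Ω) :
    Function.Surjective (ResidueField.map (algebraMap R i.B)) := by
  intro y
  obtain ⟨b, rfl⟩ := IsLocalRing.residue_surjective y
  obtain ⟨r, hr⟩ := hsurj (i.χB b)
  refine ⟨residue R r, ?_⟩
  rw [ResidueField.map_residue, ← sub_eq_zero, ← map_sub, residue_eq_zero_iff,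
    ← Idx.χB_eq_zero_iff, map_sub, AlgHom.commutes, sub_eq_zero]
  exact hr

omit [IsNoetherianRing R] in
lemma residue_surjective_Hz (hsurj : Function.Surjective (algebraMap R Ω)) :
    Function.Surjective (ResidueField.map (algebraMap R (Hz R Ω))) := by
  intro y
  obtain ⟨x, rfl⟩ := IsLocalRing.residue_surjective y
  obtain ⟨r, hr⟩ := hsurj (χS R Ω x)
  refine ⟨residue R r, ?_⟩
  rw [ResidueField.map_residue, ← sub_eq_zero, ← map_sub, residue_eq_zero_iff,
    mem_maximalIdeal_iff, map_sub, AlgHom.commutes, sub_eq_zero]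
  exact hr

/-- The completion of the colimit is flat over each of the local rings. -/
theorem flat_B_compl (hsurj : Function.Surjective (algebraMap R Ω)) (i : Idx R Ω)
    [Algebra i.B (Hz R Ω)] (hB : algebraMap i.B (Hz R Ω) = ofHom R Ω i)
    [IsNoetherianRing (AdicCompletion (maximalIdeal (Hz R Ω)) (Hz R Ω))]
    (hfg : (maximalIdeal (Hz R Ω)).FG)
    (hJ : (maximalIdeal (Hz R Ω)).map
      (algebraMap (Hz R Ω) (AdicCompletion (maximalIdeal (Hz R Ω)) (Hz R Ω))) ≤
        Ideal.jacobson ⊥) :
    Module.Flat i.B (AdicCompletion (maximalIdeal (Hz R Ω)) (Hz R Ω)) := by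
  have hc : (algebraMap i.B (Hz R Ω)).comp (algebraMap R i.B) = algebraMap R (Hz R Ω) := by
    rw [hB]
    exact RingHom.ext fun r => (algebraMap_eq i r).symm
  -- the key identity of ideals
  have hpowS : ∀ n : ℕ, (maximalIdeal i.B ^ n).map (algebraMap i.B (Hz R Ω)) =
      (maximalIdeal R ^ n).map (algebraMap R (Hz R Ω)) := fun n => by
    rw [← i.map_maximalIdeal, ← Ideal.map_pow, Ideal.map_map, hc]
  have hpowS' : ∀ n : ℕ, (maximalIdeal i.B ^ n).map (algebraMap i.B (Hz R Ω)) =
      maximalIdeal (Hz R Ω) ^ n := fun n => by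
    rw [hpowS, Ideal.map_pow, map_maximalIdeal]
  have hpowT : ∀ n : ℕ, (maximalIdeal i.B ^ n).map
      (algebraMap i.B (AdicCompletion (maximalIdeal (Hz R Ω)) (Hz R Ω))) =
      (maximalIdeal (Hz R Ω) ^ n).map
        (algebraMap (Hz R Ω) (AdicCompletion (maximalIdeal (Hz R Ω)) (Hz R Ω))) := fun n => by
    rw [IsScalarTower.algebraMap_eq i.B (Hz R Ω), ← Ideal.map_map, hpowS']
  apply flat_of_approx (S := Hz R Ω) (maximalIdeal i.B)
  · have := hpowT 1
    rw [pow_one, pow_one] at this
    rw [this]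
    exact hJ
  · intro n t
    rw [hpowT]
    exact compl_exists_sub_mem _ hfg n t
  · intro n s hs
    rw [hpowT] at hs
    rw [hpowS']
    exact compl_mem_of_map_mem _ hfg n s hs
  · intro n s
    obtain ⟨r, hr⟩ := exists_sub_mem_map_pow (R := R) (S := Hz R Ω) map_maximalIdeal
      (residue_surjective_Hz hsurj) n s
    refine ⟨algebraMap R i.B r, ?_⟩
    rw [hpowS, ← RingHom.comp_apply, hc]
    exact hr
  · intro n b hb
    rw [hpowS] at hb
    obtain ⟨r, hr⟩ := exists_sub_mem_map_pow (R := R) (S := i.B) i.map_maximalIdeal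
      (i.residue_surjective hsurj) n b
    have h1 : algebraMap R (Hz R Ω) r ∈ (maximalIdeal R ^ n).map (algebraMap R (Hz R Ω)) := by
      have h2 := Ideal.mem_map_of_mem (algebraMap i.B (Hz R Ω)) hr
      rw [Ideal.map_map, hc, map_sub, ← RingHom.comp_apply, hc] at h2
      have h3 := sub_mem hb h2
      rwa [sub_sub_cancel] at h3
    have h4 : r ∈ maximalIdeal R ^ n := mem_pow_of_map_mem (S := Hz R Ω) n r h1
    have h5 : algebraMap R i.B r ∈ maximalIdeal i.B ^ n := by
      rw [← i.map_maximalIdeal, ← Ideal.map_pow]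
      exact Ideal.mem_map_of_mem _ h4
    have hr' : b - algebraMap R i.B r ∈ maximalIdeal i.B ^ n := by
      rw [← i.map_maximalIdeal, ← Ideal.map_pow]
      exact hr
    have h6 := add_mem hr' h5
    rwa [sub_add_cancel] at h6

/-- The colimit along a surjective point (the henselization) of a Noetherian local ring is
Noetherian. -/
theorem isNoetherianRing_Hz (hsurj : Function.Surjective (algebraMap R Ω)) :
    IsNoetherianRing (Hz R Ω) := by
  have hfg : (maximalIdeal (Hz R Ω)).FG := by
    rw [← map_maximalIdeal]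
    exact Ideal.FG.map (IsNoetherian.noetherian _) _
  have hq : IsNoetherianRing (Hz R Ω ⧸ maximalIdeal (Hz R Ω)) :=
    inferInstanceAs (IsNoetherianRing (ResidueField (Hz R Ω)))
  have hTnoeth : IsNoetherianRing (AdicCompletion (maximalIdeal (Hz R Ω)) (Hz R Ω)) :=
    Groth.Agent.S0542.result (Hz R Ω) (maximalIdeal (Hz R Ω)) hfg
  have hTloc : IsLocalRing (AdicCompletion (maximalIdeal (Hz R Ω)) (Hz R Ω)) :=
    AdicCompletion.isLocalRing_of_fg hfg
  have hTlh : IsLocalHom (algebraMap (Hz R Ω) (AdicCompletion (maximalIdeal (Hz R Ω)) (Hz R Ω))) :=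
    AdicCompletion.algebraMap_isLocalHom_of_fg hfg
  have hJ : (maximalIdeal (Hz R Ω)).map
      (algebraMap (Hz R Ω) (AdicCompletion (maximalIdeal (Hz R Ω)) (Hz R Ω))) ≤
        Ideal.jacobson ⊥ := by
    rw [IsLocalRing.jacobson_eq_maximalIdeal ⊥ bot_ne_top]
    exact Ideal.map_le_iff_le_comap.mpr fun r hr => map_nonunit _ r hr
  have hflat : Module.Flat (Hz R Ω) (AdicCompletion (maximalIdeal (Hz R Ω)) (Hz R Ω)) := by
    apply Module.Flat.of_forall_isTrivialRelation
    intro l f x hfx
    classical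
    choose k b hb using fun j => exists_ofHom (f j)
    obtain ⟨i, hi⟩ := Finset.exists_le (Finset.univ.image k)
    have hk : ∀ j, k j ≤ i := fun j => hi _ (Finset.mem_image_of_mem _ (Finset.mem_univ j))
    obtain ⟨b', hb'def⟩ : ∃ b' : Fin l → i.B, b' = fun j => Idx.tr (k j) i (hk j) (b j) :=
      ⟨_, rfl⟩
    have hb' : ∀ j, ofHom R Ω i (b' j) = f j := fun j => by rw [hb'def, ofHom_tr, hb]
    letI : Algebra i.B (Hz R Ω) := (ofHom R Ω i).toAlgebra
    have hBflat := flat_B_compl hsurj i rfl hfg hJ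
    have hsm : ∀ (c : i.B) (y : AdicCompletion (maximalIdeal (Hz R Ω)) (Hz R Ω)),
        c • y = ofHom R Ω i c • y := fun c y => by
      rw [Algebra.smul_def, Algebra.smul_def]; rfl
    have hrel : ∑ j, b' j • x j = 0 := by
      rw [← hfx]
      refine Finset.sum_congr rfl fun j _ => ?_
      rw [hsm, hb']
    obtain ⟨κ, a, y, hy, ha⟩ := Module.Flat.isTrivialRelation_of_sum_smul_eq_zero
      (R := i.B) (M := AdicCompletion (maximalIdeal (Hz R Ω)) (Hz R Ω)) hrel
    refine ⟨κ, fun j c => ofHom R Ω i (a j c), y, fun j => ?_, fun c => ?_⟩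
    · rw [hy j]
      exact Finset.sum_congr rfl fun c _ => hsm _ _
    · have h1 := congrArg (ofHom R Ω i) (ha c)
      rw [map_sum, map_zero] at h1
      rw [← h1]
      refine Finset.sum_congr rfl fun j _ => ?_
      rw [map_mul, hb']
  have hff : Module.FaithfullyFlat (Hz R Ω) (AdicCompletion (maximalIdeal (Hz R Ω)) (Hz R Ω)) :=
    Module.FaithfullyFlat.of_flat_of_isLocalHom
  exact isNoetherianRing_of_faithfullyFlat (Hz R Ω)
    (AdicCompletion (maximalIdeal (Hz R Ω)) (Hz R Ω))

end Hz

section Main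

variable (R : Type u) [CommRing R] [IsLocalRing R]
  (S : Type u) [CommRing S] [IsLocalRing S] [Algebra R S] [IsLocalHom (algebraMap R S)]

theorem henselization_isNoetherianRing_iff [Hensel.IsHenselization R S] :
    IsNoetherianRing R ↔ IsNoetherianRing S := by
  obtain ⟨e⟩ := nonempty_algEquiv_hens R S
  constructor
  · intro h
    have := isNoetherianRing_Hz (R := R) (Ω := ResidueField R) IsLocalRing.residue_surjective
    exact isNoetherianRing_of_ringEquiv (Hens R) e.symm.toRingEquiv
  · intro h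
    have := henselization_faithfullyFlat R S
    exact isNoetherianRing_of_faithfullyFlat R S

end Main

end Groth.Agent.Lib.Helper8.Hzl
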