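import Mathlib
import Groth.Agent.Lib.Helper8.Hzl.Noeth

/-!
# Transition maps between pointed local-étale algebras are flat (Noetherian base)
-/

set_option autoImplicit false

open IsLocalRing TensorProduct Polynomial

universe u

namespace Groth.Agent.Lib.Helper8.Hzl

variable {R : Type u} [CommRing R] [IsLocalRing R] [IsNoetherianRing R] {Ω : Type u} [Field Ω]
  [Algebra R Ω] [IsLocalHom (algebraMap R Ω)]

omit [IsLocalRing R] [IsLocalHom (algebraMap R Ω)] in
/-- The transition maps are flat. -/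
theorem flat_tr (i j : Idx R Ω) (h : i ≤ j) : (Idx.tr i j h).toRingHom.Flat := by
  let φ : i.E →ₐ[R] j.B := (Idx.tr i j h).comp (IsScalarTower.toAlgHom R i.E i.B)
  letI algE : Algebra i.E j.B := φ.toRingHom.toAlgebra
  have tower1 : IsScalarTower R i.E j.B :=
    IsScalarTower.of_algebraMap_eq (fun r => (φ.commutes r).symm)
  letI algB : Algebra i.B j.B := (Idx.tr i j h).toRingHom.toAlgebra
  have tower2 : IsScalarTower i.E i.B j.B := IsScalarTower.of_algebraMap_eq (fun e => rfl)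
  have hfe : Algebra.FormallyEtale R j.B := inferInstance
  have : Algebra.FormallyEtale i.E j.B := Algebra.FormallyEtale.of_restrictScalars (R := R)
  let ψ : i.E ⊗[R] j.E →ₐ[i.E] j.B :=
    Algebra.TensorProduct.lift (Algebra.ofId i.E j.B) (IsScalarTower.toAlgHom R j.E j.B)
      (fun _ _ => Commute.all _ _)
  let P : Ideal (i.E ⊗[R] j.E) := (maximalIdeal j.B).comap ψ.toRingHom
  have hP : P.IsPrime := Ideal.comap_isPrime _ _
  have hu : ∀ y : P.primeCompl, IsUnit (ψ y) := fun y => by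
    by_contra hn
    exact y.2 (show ψ y ∈ maximalIdeal j.B from hn)
  let f : Localization.AtPrime P →ₐ[i.E] j.B :=
    IsLocalization.liftAlgHom (M := P.primeCompl) (f := ψ) hu
  have hf : Function.Surjective f := by
    intro b
    obtain ⟨e, s, rfl⟩ := IsLocalization.exists_mk'_eq j.q.primeCompl b
    have hs : ((1 : i.E) ⊗ₜ[R] (s : j.E)) ∈ P.primeCompl := by
      intro hmem
      have h1 : ψ ((1 : i.E) ⊗ₜ[R] (s : j.E)) ∈ maximalIdeal j.B := hmem
      have h2 : ψ ((1 : i.E) ⊗ₜ[R] (s : j.E)) = algebraMap j.E j.B s := by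
        simp [ψ]
      rw [h2] at h1
      exact h1 (IsLocalization.map_units j.B s)
    refine ⟨IsLocalization.mk' _ ((1 : i.E) ⊗ₜ[R] e) ⟨_, hs⟩, ?_⟩
    rw [IsLocalization.eq_mk'_iff_mul_eq]
    have h3 : algebraMap j.E j.B s = f (algebraMap _ _ ((1 : i.E) ⊗ₜ[R] (s : j.E))) := by
      simp [f, ψ]
    have h4 : algebraMap j.E j.B e = f (algebraMap _ _ ((1 : i.E) ⊗ₜ[R] e)) := by
      simp [f, ψ]
    rw [h3, h4, ← map_mul]
    congr 1
    exact IsLocalization.mk'_spec _ _ _
  have : Algebra.Etale R (i.E ⊗[R] j.E) := Algebra.Etale.comp R i.E _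
  have : IsNoetherianRing (i.E ⊗[R] j.E) := Algebra.FiniteType.isNoetherianRing R _
  have : IsNoetherianRing (Localization.AtPrime P) :=
    IsLocalization.isNoetherianRing P.primeCompl _ inferInstance
  have : Module.Flat i.E (i.E ⊗[R] j.E) := inferInstance
  have : Module.Flat i.E (Localization.AtPrime P) :=
    Module.Flat.trans i.E (i.E ⊗[R] j.E) (Localization.AtPrime P)
  have hflatE : Module.Flat i.E j.B :=
    Algebra.FormallySmooth.flat_of_algHom_of_isNoetherianRing f hf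
  exact (Module.flat_iff_of_isLocalization i.B i.q.primeCompl j.B).mpr hflatE

omit [IsLocalRing R] [IsLocalHom (algebraMap R Ω)] in
/-- The colimit is flat over each of the local rings. -/
theorem flat_B_Hz (i : Idx R Ω) [Algebra i.B (Hz R Ω)]
    (hB : algebraMap i.B (Hz R Ω) = ofHom R Ω i) : Module.Flat i.B (Hz R Ω) := by
  apply Module.Flat.of_forall_isTrivialRelation
  intro l f x hfx
  classical
  choose k b hb using fun m => exists_ofHom (x m)
  obtain ⟨k₀, hk₀⟩ := Finset.exists_le (insert i (Finset.univ.image k))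
  have hik : i ≤ k₀ := hk₀ _ (Finset.mem_insert_self _ _)
  have hk : ∀ m, k m ≤ k₀ := fun m =>
    hk₀ _ (Finset.mem_insert_of_mem (Finset.mem_image_of_mem _ (Finset.mem_univ m)))
  obtain ⟨b', hb'def⟩ : ∃ b' : Fin l → k₀.B, b' = fun m => Idx.tr (k m) k₀ (hk m) (b m) :=
    ⟨_, rfl⟩
  have hb' : ∀ m, ofHom R Ω k₀ (b' m) = x m := fun m => by rw [hb'def, ofHom_tr, hb]
  have hsm : ∀ (c : i.B) (y : Hz R Ω), c • y = ofHom R Ω i c * y := fun c y => by
    rw [Algebra.smul_def, hB]
  have h0 : ofHom R Ω k₀ (∑ m, Idx.tr i k₀ hik (f m) * b' m) = 0 := by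
    rw [map_sum, ← hfx]
    refine Finset.sum_congr rfl fun m _ => ?_
    rw [map_mul, ofHom_tr, hb', hsm]
  obtain ⟨k₁, h01, h1⟩ := Ring.DirectLimit.of.zero_exact h0
  have hik1 : i ≤ k₁ := hik.trans h01
  letI : Algebra i.B k₁.B := (Idx.tr i k₁ hik1).toRingHom.toAlgebra
  have hfl : Module.Flat i.B k₁.B := flat_tr i k₁ hik1
  have h2 : ∑ m, f m • Idx.tr k₀ k₁ h01 (b' m) = 0 := by
    rw [← h1, trR_apply, map_sum]
    refine Finset.sum_congr rfl fun m _ => ?_
    rw [map_mul, Idx.tr_tr, Algebra.smul_def]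
    rfl
  obtain ⟨κ, a, y, hy, ha⟩ :=
    Module.Flat.isTrivialRelation_of_sum_smul_eq_zero (R := i.B) (M := k₁.B) h2
  refine ⟨κ, a, fun c => ofHom R Ω k₁ (y c), fun m => ?_, ha⟩
  have hy' : Idx.tr k₀ k₁ h01 (b' m) = ∑ c, a m c • y c := hy m
  change x m = ∑ c, a m c • ofHom R Ω k₁ (y c)
  rw [← hb', ← ofHom_tr k₀ k₁ h01, hy', map_sum]
  refine Finset.sum_congr rfl fun c _ => ?_
  rw [Algebra.smul_def, map_mul, hsm]
  congr 1
  exact ofHom_tr i k₁ hik1 _

end Groth.Agent.Lib.Helper8.Hzl
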