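import Mathlib
import Groth.Agent.Lib.Helper8.FlatCompl2
import Groth.Agent.Lib.Helper8.Hzl.FlatTr

/-!
# The strict henselization of a Noetherian local ring is Noetherian
-/

set_option autoImplicit false

open IsLocalRing TensorProduct Polynomial

universe u

namespace Groth.Agent.Lib.Helper8.Hzl

section Hz

variable {R : Type u} [CommRing R] [IsLocalRing R] [IsNoetherianRing R] {Ω : Type u} [Field Ω]
  [Algebra R Ω] [IsLocalHom (algebraMap R Ω)]

/-- The completion of the colimit is flat over each of the local rings (no assumption on the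
residue field). -/
theorem flat_B_compl' (i : Idx R Ω)
    [Algebra i.B (Hz R Ω)] (hB : algebraMap i.B (Hz R Ω) = ofHom R Ω i)
    [IsNoetherianRing (AdicCompletion (maximalIdeal (Hz R Ω)) (Hz R Ω))]
    (hfg : (maximalIdeal (Hz R Ω)).FG)
    (hJ : (maximalIdeal (Hz R Ω)).map
      (algebraMap (Hz R Ω) (AdicCompletion (maximalIdeal (Hz R Ω)) (Hz R Ω))) ≤
        Ideal.jacobson ⊥) :
    Module.Flat i.B (AdicCompletion (maximalIdeal (Hz R Ω)) (Hz R Ω)) := by
  have hc : (algebraMap i.B (Hz R Ω)).comp (algebraMap R i.B) = algebraMap R (Hz R Ω) := by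
    rw [hB]
    exact RingHom.ext fun r => (algebraMap_eq i r).symm
  have hpowS : ∀ n : ℕ, (maximalIdeal i.B ^ n).map (algebraMap i.B (Hz R Ω)) =
      (maximalIdeal R ^ n).map (algebraMap R (Hz R Ω)) := fun n => by
    rw [← i.map_maximalIdeal, ← Ideal.map_pow, Ideal.map_map, hc]
  have hpowS' : ∀ n : ℕ, (maximalIdeal i.B ^ n).map (algebraMap i.B (Hz R Ω)) =
      maximalIdeal (Hz R Ω) ^ n := fun n => by
    rw [hpowS, Ideal.map_pow, map_maximalIdeal]
  have hpowT : ∀ n : ℕ, (maximalIdeal i.B ^ n).map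
      (algebraMap i.B (AdicCompletion (maximalIdeal (Hz R Ω)) (Hz R Ω))) =
      (maximalIdeal (Hz R Ω) ^ n).map
        (algebraMap (Hz R Ω) (AdicCompletion (maximalIdeal (Hz R Ω)) (Hz R Ω))) := fun n => by
    rw [IsScalarTower.algebraMap_eq i.B (Hz R Ω), ← Ideal.map_map, hpowS']
  have hflat : Module.Flat i.B (Hz R Ω) := flat_B_Hz i hB
  apply flat_of_approx' (S := Hz R Ω) (maximalIdeal i.B)
  · have := hpowT 1
    rw [pow_one, pow_one] at this
    rw [this]
    exact hJ
  · intro n t
    rw [hpowT]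
    exact compl_exists_sub_mem _ hfg n t
  · intro n s hs
    rw [hpowT] at hs
    rw [hpowS']
    exact compl_mem_of_map_mem _ hfg n s hs

/-- The colimit of the pointed local-étale algebras over a Noetherian local ring is Noetherian. -/
theorem isNoetherianRing_Hz' : IsNoetherianRing (Hz R Ω) := by
  have hfg : (maximalIdeal (Hz R Ω)).FG := by
    rw [← map_maximalIdeal]
    exact Ideal.FG.map (IsNoetherian.noetherian _) _
  have hq : IsNoetherianRing (Hz R Ω ⧸ maximalIdeal (Hz R Ω)) :=
    inferInstanceAs (IsNoetherianRing (ResidueField (Hz R Ω)))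
  have hTnoeth : IsNoetherianRing (AdicCompletion (maximalIdeal (Hz R Ω)) (Hz R Ω)) :=
    Groth.Agent.S0542.result (Hz R Ω) (maximalIdeal (Hz R Ω)) hfg
  have hTloc : IsLocalRing (AdicCompletion (maximalIdeal (Hz R Ω)) (Hz R Ω)) :=
    AdicCompletion.isLocalRing_of_fg hfg
  have hTlh : IsLocalHom (algebraMap (Hz R Ω) (AdicCompletion (maximalIdeal (Hz R Ω)) (Hz R Ω))) :=
    AdicCompletion.algebraMap_isLocalHom_of_fg hfg
  have hJ : (maximalIdeal (Hz R Ω)).map
      (algebraMap (Hz R Ω) (AdicCompletion (maximalIdeal (Hz R Ω)) (Hz R Ω))) ≤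
        Ideal.jacobson ⊥ := by
    rw [IsLocalRing.jacobson_eq_maximalIdeal ⊥ bot_ne_top]
    exact Ideal.map_le_iff_le_comap.mpr fun r hr => map_nonunit _ r hr
  have hflat : Module.Flat (Hz R Ω) (AdicCompletion (maximalIdeal (Hz R Ω)) (Hz R Ω)) := by
    apply Module.Flat.of_forall_isTrivialRelation
    intro l f x hfx
    classical
    choose k b hb using fun j => exists_ofHom (f j)
    obtain ⟨i, hi⟩ := Finset.exists_le (Finset.univ.image k)
    have hk : ∀ j, k j ≤ i := fun j => hi _ (Finset.mem_image_of_mem _ (Finset.mem_univ j))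
    obtain ⟨b', hb'def⟩ : ∃ b' : Fin l → i.B, b' = fun j => Idx.tr (k j) i (hk j) (b j) :=
      ⟨_, rfl⟩
    have hb' : ∀ j, ofHom R Ω i (b' j) = f j := fun j => by rw [hb'def, ofHom_tr, hb]
    letI : Algebra i.B (Hz R Ω) := (ofHom R Ω i).toAlgebra
    have hBflat := flat_B_compl' i rfl hfg hJ
    have hsm : ∀ (c : i.B) (y : AdicCompletion (maximalIdeal (Hz R Ω)) (Hz R Ω)),
        c • y = ofHom R Ω i c • y := fun c y => by
      rw [Algebra.smul_def, Algebra.smul_def]; rfl
    have hrel : ∑ j, b' j • x j = 0 := by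
      rw [← hfx]
      refine Finset.sum_congr rfl fun j _ => ?_
      rw [hsm, hb']
    obtain ⟨κ, a, y, hy, ha⟩ := Module.Flat.isTrivialRelation_of_sum_smul_eq_zero
      (R := i.B) (M := AdicCompletion (maximalIdeal (Hz R Ω)) (Hz R Ω)) hrel
    refine ⟨κ, fun j c => ofHom R Ω i (a j c), y, fun j => ?_, fun c => ?_⟩
    · rw [hy j]
      exact Finset.sum_congr rfl fun c _ => hsm _ _
    · have h1 := congrArg (ofHom R Ω i) (ha c)
      rw [map_sum, map_zero] at h1
      rw [← h1]
      refine Finset.sum_congr rfl fun j _ => ?_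
      rw [map_mul, hb']
  have hff : Module.FaithfullyFlat (Hz R Ω) (AdicCompletion (maximalIdeal (Hz R Ω)) (Hz R Ω)) :=
    Module.FaithfullyFlat.of_flat_of_isLocalHom
  exact isNoetherianRing_of_faithfullyFlat (Hz R Ω)
    (AdicCompletion (maximalIdeal (Hz R Ω)) (Hz R Ω))

end Hz

section Main

variable (R : Type u) [CommRing R] [IsLocalRing R]
  (S : Type u) [CommRing S] [IsLocalRing S] [Algebra R S] [IsLocalHom (algebraMap R S)]

theorem strictHenselization_isNoetherianRing_iff [Hensel.IsStrictHenselization R S] :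
    IsNoetherianRing R ↔ IsNoetherianRing S := by
  obtain ⟨e⟩ := nonempty_algEquiv_shens R S
  constructor
  · intro h
    have := isNoetherianRing_Hz' (R := R) (Ω := Ωs R)
    exact isNoetherianRing_of_ringEquiv (SHens R) e.symm.toRingEquiv
  · intro h
    have := strictHenselization_faithfullyFlat R S
    exact isNoetherianRing_of_faithfullyFlat R S

end Main

end Groth.Agent.Lib.Helper8.Hzl
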