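import Mathlib
import Groth.Agent.Lib.Helper8.Hzl.Dim
import Groth.Agent.Lib.Helper8.Hzl.Noeth2

/-!
# Regularity of the (strict) henselization
-/

set_option autoImplicit false
universe u
open IsLocalRing

namespace Groth.Agent.Lib.Helper8.Hzl

/-- The embedding dimension is invariant under flat local homomorphisms with `𝔪_R S = 𝔪_S`. -/
theorem spanFinrank_maximalIdeal_eq_of_flat {R S : Type u} [CommRing R] [IsLocalRing R]
    [IsNoetherianRing R] [CommRing S] [IsLocalRing S] [IsNoetherianRing S] [Algebra R S]
    [IsLocalHom (algebraMap R S)] [Module.Flat R S]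
    (hm : (maximalIdeal R).map (algebraMap R S) = maximalIdeal S) :
    (maximalIdeal S).spanFinrank = (maximalIdeal R).spanFinrank := by
  apply le_antisymm
  · rw [← hm]
    exact Ideal.spanFinrank_map_le_of_fg _ (IsNoetherian.noetherian _)
  · have hff : Module.FaithfullyFlat R S := .of_flat_of_isLocalHom
    have hmem : ∀ a : maximalIdeal R, algebraMap R S a ∈ maximalIdeal S := fun a =>
      hm ▸ Ideal.mem_map_of_mem _ a.2
    let ι' : maximalIdeal R → maximalIdeal S := fun a => ⟨algebraMap R S a, hmem a⟩
    let v : maximalIdeal R → CotangentSpace S := fun a => (maximalIdeal S).toCotangent (ι' a)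
    obtain ⟨b, -, -, hspan, hli⟩ := exists_linearIndepOn_extension (K := ResidueField S) (v := v)
      (s := ∅) (t := Set.univ) (linearIndepOn_empty _ _) (Set.empty_subset _)
    -- the range of `ι'` spans the maximal ideal of `S`
    have h1 : Submodule.span S (Set.range ι') = ⊤ := by
      apply Submodule.map_injective_of_injective (Submodule.injective_subtype _)
      rw [Submodule.map_span, Submodule.map_top, Submodule.range_subtype]
      have hset : (Submodule.subtype (maximalIdeal S)) '' Set.range ι' =
          algebraMap R S '' (maximalIdeal R : Set R) := by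
        ext x
        constructor
        · rintro ⟨_, ⟨a, rfl⟩, rfl⟩
          exact ⟨a.1, a.2, rfl⟩
        · rintro ⟨a, ha, rfl⟩
          exact ⟨ι' ⟨a, ha⟩, ⟨_, rfl⟩, rfl⟩
      rw [hset]
      exact hm
    have h2 : Submodule.span (ResidueField S) (v '' Set.univ) = ⊤ := by
      have : v '' Set.univ = (maximalIdeal S).toCotangent '' (Set.range ι') := by
        rw [Set.image_univ]
        ext x
        constructor
        · rintro ⟨a, rfl⟩
          exact ⟨ι' a, ⟨a, rfl⟩, rfl⟩
        · rintro ⟨_, ⟨a, rfl⟩, rfl⟩
          exact ⟨a, rfl⟩
      rw [this, CotangentSpace.span_image_eq_top_iff]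
      exact h1
    have h3 : Submodule.span (ResidueField S) ((maximalIdeal S).toCotangent '' (ι' '' b)) = ⊤ := by
      rw [eq_top_iff, ← h2, Submodule.span_le, Set.image_image]
      exact hspan
    rw [CotangentSpace.span_image_eq_top_iff] at h3
    have h4 : Ideal.span (algebraMap R S '' (Subtype.val '' b)) = maximalIdeal S := by
      have := congrArg (Submodule.map (Submodule.subtype (maximalIdeal S))) h3
      rw [Submodule.map_span, Submodule.map_top, Submodule.range_subtype, Set.image_image] at this
      rw [Set.image_image]
      exact this
    have h5 : Ideal.span (Subtype.val '' b) = maximalIdeal R := by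
      have h6 : (Ideal.span (Subtype.val '' b)).map (algebraMap R S) =
          (maximalIdeal R).map (algebraMap R S) := by
        rw [Ideal.map_span, h4, hm]
      have := congrArg (Ideal.comap (algebraMap R S)) h6
      rwa [Ideal.comap_map_eq_self_of_faithfullyFlat,
        Ideal.comap_map_eq_self_of_faithfullyFlat] at this
    have hfin : Finite b := hli.finite
    have hbfin : b.Finite := Set.toFinite b
    have hcard : b.ncard ≤ Module.finrank (ResidueField S) (CotangentSpace S) := by
      have := Fintype.ofFinite b
      have h7 := hli.fintype_card_le_finrank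
      rwa [← Nat.card_eq_fintype_card, Nat.card_coe_set_eq] at h7
    calc (maximalIdeal R).spanFinrank
        = (Submodule.span R (Subtype.val '' b)).spanFinrank :=
          congrArg Submodule.spanFinrank h5.symm
      _ ≤ (Subtype.val '' b).ncard :=
          Submodule.spanFinrank_span_le_ncard_of_finite (hbfin.image _)
      _ ≤ b.ncard := Set.ncard_image_le hbfin
      _ ≤ Module.finrank (ResidueField S) (CotangentSpace S) := hcard
      _ = (maximalIdeal S).spanFinrank :=
          (spanFinrank_maximalIdeal_eq_finrank_cotangentSpace S).symm

/-- Regularity is invariant under flat local homomorphisms with `𝔪_R S = 𝔪_S` preserving the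
dimension. -/
theorem isRegularLocalRing_iff_of_flat {R S : Type u} [CommRing R] [IsLocalRing R]
    [IsNoetherianRing R] [CommRing S] [IsLocalRing S] [IsNoetherianRing S] [Algebra R S]
    [IsLocalHom (algebraMap R S)] [Module.Flat R S]
    (hm : (maximalIdeal R).map (algebraMap R S) = maximalIdeal S)
    (hdim : ringKrullDim S = ringKrullDim R) :
    IsRegularLocalRing R ↔ IsRegularLocalRing S := by
  rw [isRegularLocalRing_iff, isRegularLocalRing_iff, hdim, spanFinrank_maximalIdeal_eq_of_flat hm]

section

variable (R : Type u) [CommRing R] [IsLocalRing R]
  (S : Type u) [CommRing S] [IsLocalRing S] [Algebra R S] [IsLocalHom (algebraMap R S)]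

theorem henselization_isRegularLocalRing_iff [Hensel.IsHenselization R S] [IsNoetherianRing R] :
    IsRegularLocalRing R ↔ IsRegularLocalRing S := by
  have : IsNoetherianRing S := (henselization_isNoetherianRing_iff R S).mp inferInstance
  have := henselization_flat R S
  exact isRegularLocalRing_iff_of_flat (henselization_map_maximalIdeal R S)
    (henselization_ringKrullDim R S)

theorem strictHenselization_isRegularLocalRing_iff [Hensel.IsStrictHenselization R S]
    [IsNoetherianRing R] :
    IsRegularLocalRing R ↔ IsRegularLocalRing S := by
  have : IsNoetherianRing S := (strictHenselization_isNoetherianRing_iff R S).mp inferInstance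
  have := strictHenselization_flat R S
  exact isRegularLocalRing_iff_of_flat (strictHenselization_map_maximalIdeal R S)
    (strictHenselization_ringKrullDim R S)

end

end Groth.Agent.Lib.Helper8.Hzl
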