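import Mathlib
import Groth.Agent.Lib.Helper8.Hzl.Transfer

/-!
# Algebras all of whose elements come from étale algebras (up to units)

The property `IndEtaleLike R S` is satisfied by (strict) henselizations; it implies that
`R → S` is "unramified at every prime": `𝔭 S_𝔮 = 𝔮 S_𝔮`.
-/

set_option autoImplicit false
universe u
open IsLocalRing

namespace Groth.Agent.Lib.Helper8.Hzl

/-- Every element of `S` is, up to a unit coming from an étale algebra, the image of an element of
an étale `R`-algebra. -/
def IndEtaleLike (R S : Type u) [CommRing R] [CommRing S] [Algebra R S] : Prop :=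
  ∀ x : S, ∃ (E : Type u) (_ : CommRing E) (_ : Algebra R E) (_ : Algebra.Etale R E)
    (ι : E →ₐ[R] S) (e t : E), IsUnit (ι t) ∧ x * ι t = ι e

section

variable {R : Type u} [CommRing R] {Ω : Type u} [Field Ω] [Algebra R Ω]

theorem indEtaleLike_Hz : IndEtaleLike R (Hz R Ω) := by
  intro x
  obtain ⟨i, b, rfl⟩ := exists_ofHom x
  obtain ⟨e, t, rfl⟩ := IsLocalization.exists_mk'_eq i.q.primeCompl b
  refine ⟨i.E, inferInstance, inferInstance, inferInstance,
    (ofAlg i).comp (IsScalarTower.toAlgHom R i.E i.B), e, t, ?_, ?_⟩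
  · exact ((IsLocalization.map_units i.B t).map (ofHom R Ω i))
  · simp only [AlgHom.comp_apply, IsScalarTower.coe_toAlgHom', ofAlg_apply]
    rw [← map_mul, IsLocalization.mk'_spec]

end

section

variable {R S S' : Type u} [CommRing R] [CommRing S] [Algebra R S] [CommRing S'] [Algebra R S']

theorem IndEtaleLike.of_algEquiv (h : IndEtaleLike R S) (f : S ≃ₐ[R] S') : IndEtaleLike R S' := by
  intro x
  obtain ⟨E, _, _, _, ι, e, t, ht, hx⟩ := h (f.symm x)
  refine ⟨E, inferInstance, inferInstance, inferInstance, f.toAlgHom.comp ι, e, t, ?_, ?_⟩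
  · exact ht.map f
  · have := congrArg f hx
    rw [map_mul, AlgEquiv.apply_symm_apply] at this
    exact this

/-- An ind-étale-like algebra is unramified at every prime: `𝔭 S_𝔮 = 𝔮 S_𝔮`. -/
theorem IndEtaleLike.map_under_eq_maximalIdeal (h : IndEtaleLike R S) (q : Ideal S) [q.IsPrime] :
    (q.under R).map (algebraMap R (Localization.AtPrime q)) =
      maximalIdeal (Localization.AtPrime q) := by
  apply le_antisymm
  · rw [Ideal.map_le_iff_le_comap]
    intro r hr
    rw [Ideal.mem_comap, IsScalarTower.algebraMap_apply R S (Localization.AtPrime q),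
      IsLocalization.AtPrime.to_map_mem_maximal_iff (Localization.AtPrime q) q]
    exact hr
  · rw [← Localization.AtPrime.map_eq_maximalIdeal, Ideal.map_le_iff_le_comap]
    intro x hx
    rw [Ideal.mem_comap]
    obtain ⟨E, _, _, _, ι, e, t, ht, hxt⟩ := h x
    let 𝔮 : Ideal E := q.comap ι.toRingHom
    have h𝔮 : 𝔮.IsPrime := Ideal.comap_isPrime _ _
    have he : e ∈ 𝔮 := by
      change ι e ∈ q
      rw [← hxt]
      exact Ideal.mul_mem_right _ _ hx
    have hlo : 𝔮.LiesOver (q.under R) := ⟨by
      ext r
      simp only [Ideal.under, Ideal.mem_comap, 𝔮]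
      change _ ↔ ι (algebraMap R E r) ∈ q
      rw [AlgHom.commutes]⟩
    letI := Localization.AtPrime.algebraOfLiesOver (q.under R) 𝔮
    have hU : (q.under R).map (algebraMap R (Localization.AtPrime 𝔮)) =
        maximalIdeal (Localization.AtPrime 𝔮) :=
      ((Algebra.isUnramifiedAt_iff_map_eq R (q.under R) 𝔮).mp inferInstance).2
    let ψ : Localization.AtPrime 𝔮 →+* Localization.AtPrime q :=
      Localization.localRingHom 𝔮 q ι.toRingHom rfl
    have hψ : ∀ a : E, ψ (algebraMap E (Localization.AtPrime 𝔮) a) =
        algebraMap S (Localization.AtPrime q) (ι a) := fun a =>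
      Localization.localRingHom_to_map _ _ _ _ _
    have hψR : ψ.comp (algebraMap R (Localization.AtPrime 𝔮)) =
        algebraMap R (Localization.AtPrime q) := by
      ext r
      rw [RingHom.comp_apply, IsScalarTower.algebraMap_apply R E (Localization.AtPrime 𝔮), hψ,
        AlgHom.commutes, ← IsScalarTower.algebraMap_apply]
    have h1 : algebraMap E (Localization.AtPrime 𝔮) e ∈ maximalIdeal (Localization.AtPrime 𝔮) :=
      (IsLocalization.AtPrime.to_map_mem_maximal_iff (Localization.AtPrime 𝔮) 𝔮 e).mpr he
    rw [← hU] at h1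
    have h2 := Ideal.mem_map_of_mem ψ h1
    rw [Ideal.map_map, hψR, hψ, ← hxt, map_mul] at h2
    exact (Ideal.mul_unit_mem_iff_mem _ (ht.map (algebraMap S (Localization.AtPrime q)))).mp h2

end

section

variable (R : Type u) [CommRing R] [IsLocalRing R]
  (S : Type u) [CommRing S] [IsLocalRing S] [Algebra R S] [IsLocalHom (algebraMap R S)]

theorem henselization_indEtaleLike [Hensel.IsHenselization R S] : IndEtaleLike R S := by
  obtain ⟨e⟩ := nonempty_algEquiv_hens R S
  exact indEtaleLike_Hz.of_algEquiv e.symm

theorem strictHenselization_indEtaleLike [Hensel.IsStrictHenselization R S] :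
    IndEtaleLike R S := by
  obtain ⟨e⟩ := nonempty_algEquiv_shens R S
  exact indEtaleLike_Hz.of_algEquiv e.symm

end

end Groth.Agent.Lib.Helper8.Hzl
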