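import Mathlib
import Groth.Prelude
import Groth.Agent.Lib.Helper8.Hzl.IndEtaleLike
import Groth.Agent.Lib.Helper8.Hzl.Noeth
import Groth.Agent.Lib.Helper8.Hzl.Noeth2

/-!
# Fibres of (strict) henselizations of noetherian local rings

The fibre rings `κ(p) ⊗_R S` of a (strict) henselization `S` of a noetherian local ring `R` are
finite products of separable algebraic field extensions of `κ(p)`.
-/

set_option autoImplicit false
universe u
open IsLocalRing TensorProduct

namespace Groth.Agent.Lib.Helper8.Hzl

section baseChange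

variable {R S : Type u} [CommRing R] [CommRing S] [Algebra R S]

theorem IndEtaleLike.baseChange (h : IndEtaleLike R S) (R' : Type u) [CommRing R']
    [Algebra R R'] : IndEtaleLike R' (R' ⊗[R] S) := by
  intro x
  induction x using TensorProduct.induction_on with
  | zero =>
    exact ⟨R', inferInstance, inferInstance, inferInstance, Algebra.ofId R' _, 0, 1,
      by rw [map_one]; exact isUnit_one, by simp⟩
  | tmul c s =>
    obtain ⟨E, _, _, _, ι, e, t, ht, hx⟩ := h s
    refine ⟨R' ⊗[R] E, inferInstance, inferInstance, inferInstance,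
      Algebra.TensorProduct.map (AlgHom.id R' R') ι, c ⊗ₜ e, 1 ⊗ₜ t, ?_, ?_⟩
    · rw [Algebra.TensorProduct.map_tmul, map_one]
      exact ht.map (Algebra.TensorProduct.includeRight : S →ₐ[R] R' ⊗[R] S)
    · rw [Algebra.TensorProduct.map_tmul, Algebra.TensorProduct.map_tmul, map_one,
        Algebra.TensorProduct.tmul_mul_tmul, mul_one, hx]
      rfl
  | add x y hx hy =>
    obtain ⟨E₁, _, _, _, ι₁, e₁, t₁, ht₁, h₁⟩ := hx
    obtain ⟨E₂, _, _, _, ι₂, e₂, t₂, ht₂, h₂⟩ := hy
    haveI : Algebra.Etale R' (E₁ ⊗[R'] E₂) := Algebra.Etale.comp R' E₁ (E₁ ⊗[R'] E₂)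
    refine ⟨E₁ ⊗[R'] E₂, inferInstance, inferInstance, inferInstance,
      Algebra.TensorProduct.lift ι₁ ι₂ (fun _ _ => Commute.all _ _),
      e₁ ⊗ₜ t₂ + t₁ ⊗ₜ e₂, t₁ ⊗ₜ t₂, ?_, ?_⟩
    · rw [Algebra.TensorProduct.lift_tmul]
      exact ht₁.mul ht₂
    · rw [map_add, Algebra.TensorProduct.lift_tmul, Algebra.TensorProduct.lift_tmul,
        Algebra.TensorProduct.lift_tmul, ← h₁, ← h₂]
      ring

end baseChange

section field

variable {k F : Type u} [Field k] [CommRing F] [Algebra k F]

theorem IndEtaleLike.maximalIdeal_localization_eq_bot (h : IndEtaleLike k F)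
    (q : Ideal F) [q.IsPrime] : maximalIdeal (Localization.AtPrime q) = ⊥ := by
  rw [← h.map_under_eq_maximalIdeal q]
  have : q.under k = ⊥ :=
    (Ideal.eq_bot_or_top _).resolve_right (Ideal.IsPrime.ne_top inferInstance)
  rw [this, Ideal.map_bot]

theorem IndEtaleLike.isReduced_of_field (h : IndEtaleLike k F) : IsReduced F := by
  refine isReduced_ofLocalizationMaximal F fun P hP => ?_
  have := h.maximalIdeal_localization_eq_bot P
  have hf : IsField (Localization.AtPrime P) := IsLocalRing.isField_iff_maximalIdeal_eq.mpr this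
  have : IsDomain (Localization.AtPrime P) := hf.isDomain
  infer_instance

theorem IndEtaleLike.krullDimLE_zero_of_field (h : IndEtaleLike k F) : Ring.KrullDimLE 0 F := by
  rw [Ring.krullDimLE_zero_iff]
  intro q hq
  obtain ⟨M, hM, hqM⟩ := Ideal.exists_le_maximal q hq.ne_top
  have hM' := h.maximalIdeal_localization_eq_bot M
  suffices M ≤ q by rwa [le_antisymm hqM this]
  intro x hx
  have h1 : algebraMap F (Localization.AtPrime M) x ∈ maximalIdeal (Localization.AtPrime M) :=
    (IsLocalization.AtPrime.to_map_mem_maximal_iff _ M x).mpr hx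
  rw [hM', Ideal.mem_bot] at h1
  obtain ⟨s, hs⟩ := (IsLocalization.map_eq_zero_iff M.primeCompl _ x).mp h1
  have h2 : (s : F) * x ∈ q := by rw [hs]; exact q.zero_mem
  exact (hq.mem_or_mem h2).resolve_left (fun hsq => s.2 (hqM hsq))

theorem IndEtaleLike.isSeparable_of_surjective (h : IndEtaleLike k F) {L : Type u} [Field L]
    [Algebra k L] (π : F →ₐ[k] L) (hπ : Function.Surjective π) : Algebra.IsSeparable k L := by
  refine ⟨fun y => ?_⟩
  obtain ⟨x, rfl⟩ := hπ y
  obtain ⟨E, _, _, _, ι, e, t, ht, hx⟩ := h x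
  let φ : E →ₐ[k] L := π.comp ι
  have hfin : Module.Finite k E := Algebra.FormallyUnramified.finite_of_free k E
  let K' : Subalgebra k L := φ.range
  have hK'fin : Module.Finite k K' :=
    Module.Finite.of_surjective φ.rangeRestrict.toLinearMap φ.rangeRestrict_surjective
  have hK' : IsField K' := isField_of_isIntegral_of_isField' (Field.toIsField k)
  let L' : IntermediateField k L := Subalgebra.toIntermediateField' K' hK'
  let ψ : E →ₐ[k] L' := φ.codRestrict L'.toSubalgebra (fun z => ⟨z, rfl⟩)
  have hsurj : Function.Surjective ψ := by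
    rintro ⟨_, ⟨z, rfl⟩⟩
    exact ⟨z, rfl⟩
  have h1 : Algebra.FormallyUnramified k L' := Algebra.FormallyUnramified.of_surjective ψ hsurj
  have h2 : Algebra.FiniteType k L' := Algebra.FiniteType.of_surjective ψ hsurj
  have hsep : Algebra.IsSeparable k L' := Algebra.FormallyUnramified.isSeparable k L'
  have hu : IsUnit (φ t) := ht.map π
  have hy : π x = φ e * (φ t)⁻¹ := by
    have h3 : π x * φ t = φ e := by
      have := congrArg π hx
      rwa [map_mul] at this
    rw [eq_mul_inv_iff_mul_eq₀ hu.ne_zero]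
    exact h3
  have hmem : π x ∈ L' := by
    rw [hy]
    have he : φ e ∈ L' := (show φ e ∈ φ.range from ⟨e, rfl⟩)
    have ht' : φ t ∈ L' := (show φ t ∈ φ.range from ⟨t, rfl⟩)
    exact L'.mul_mem he (L'.inv_mem ht')
  have h4 := Algebra.IsSeparable.isSeparable k (⟨_, hmem⟩ : L')
  unfold IsSeparable at h4 ⊢
  rwa [IntermediateField.minpoly_eq] at h4

theorem IndEtaleLike.exists_algEquiv_pi_separable [IsNoetherianRing F] (h : IndEtaleLike k F) :
    ∃ (n : ℕ) (K : Fin n → Type u) (_ : ∀ i, Field (K i)) (_ : ∀ i, Algebra k (K i)),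
      (∀ i, Algebra.IsSeparable k (K i)) ∧ Nonempty (F ≃ₐ[k] (Π i, K i)) := by
  have := h.isReduced_of_field
  have := h.krullDimLE_zero_of_field
  have : IsArtinianRing F := IsNoetherianRing.isArtinianRing_of_krullDimLE_zero
  have : Finite (MaximalSpectrum F) := inferInstance
  let σ : MaximalSpectrum F ≃ Fin (Nat.card (MaximalSpectrum F)) := Finite.equivFin _
  letI inst : ∀ i, Field (F ⧸ (σ.symm i).asIdeal) := fun i => Ideal.Quotient.field _
  refine ⟨Nat.card (MaximalSpectrum F), fun i => F ⧸ (σ.symm i).asIdeal,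
    inst, fun i => inferInstance, fun i => ?_, ⟨?_⟩⟩
  · exact h.isSeparable_of_surjective (Ideal.Quotient.mkₐ k _) Ideal.Quotient.mk_surjective
  · exact ((IsArtinianRing.equivPi F).restrictScalars k).trans
      (AlgEquiv.piCongrLeft' k (fun I : MaximalSpectrum F => F ⧸ I.asIdeal) σ)

end field

section main

theorem isNoetherianRing_residueField_tensor (R S : Type u) [CommRing R] [CommRing S]
    [Algebra R S] [IsNoetherianRing S] (p : Ideal R) [p.IsPrime] :
    IsNoetherianRing (p.ResidueField ⊗[R] S) := by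
  have : IsNoetherianRing (S ⊗[R] p.ResidueField) := Algebra.EssFiniteType.isNoetherianRing S _
  exact isNoetherianRing_of_ringEquiv _
    (Algebra.TensorProduct.comm R S p.ResidueField).toRingEquiv

variable (R S : Type u) [CommRing R] [IsLocalRing R] [IsNoetherianRing R]
    [CommRing S] [IsLocalRing S] [Algebra R S] [IsLocalHom (algebraMap R S)]

theorem henselization_fibre_equiv_pi_separable [Hensel.IsHenselization R S]
    (p : Ideal R) [p.IsPrime] :
    ∃ (n : ℕ) (K : Fin n → Type u) (_ : ∀ i, Field (K i)) (_ : ∀ i, Algebra p.ResidueField (K i)),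
      (∀ i, Algebra.IsSeparable p.ResidueField (K i)) ∧
      Nonempty ((p.ResidueField ⊗[R] S) ≃ₐ[p.ResidueField] (Π i, K i)) := by
  have : IsNoetherianRing S := (henselization_isNoetherianRing_iff R S).mp inferInstance
  have := isNoetherianRing_residueField_tensor R S p
  exact ((henselization_indEtaleLike R S).baseChange p.ResidueField).exists_algEquiv_pi_separable

theorem strictHenselization_fibre_equiv_pi_separable [Hensel.IsStrictHenselization R S]
    (p : Ideal R) [p.IsPrime] :
    ∃ (n : ℕ) (K : Fin n → Type u) (_ : ∀ i, Field (K i)) (_ : ∀ i, Algebra p.ResidueField (K i)),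
      (∀ i, Algebra.IsSeparable p.ResidueField (K i)) ∧
      Nonempty ((p.ResidueField ⊗[R] S) ≃ₐ[p.ResidueField] (Π i, K i)) := by
  have : IsNoetherianRing S := (strictHenselization_isNoetherianRing_iff R S).mp inferInstance
  have := isNoetherianRing_residueField_tensor R S p
  exact ((strictHenselization_indEtaleLike R S).baseChange
    p.ResidueField).exists_algEquiv_pi_separable

end main

end Groth.Agent.Lib.Helper8.Hzl
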