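import Mathlib
import Groth.Agent.Lib.Helper8.HenselSplit

/-!
# Over a henselian local ring, the local ring at a quasi-finite point is a finite algebra
-/

set_option autoImplicit false

open IsLocalRing

universe u

namespace Groth.Agent.Lib.Helper8.Hzl

/-- A surjection onto a local ring whose kernel is killed by elements outside the prime is the
localization at the prime. -/
theorem isLocalization_atPrime_of_surjective {B C : Type*} [CommRing B] [CommRing C]
    [IsLocalRing C] [Algebra B C] (hsurj : Function.Surjective (algebraMap B C))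
    (Q : Ideal B) [Q.IsPrime] (hQ : (maximalIdeal C).comap (algebraMap B C) = Q)
    (hker : ∀ b, algebraMap B C b = 0 → ∃ s, s ∉ Q ∧ s * b = 0) :
    IsLocalization.AtPrime C Q := by
  refine (isLocalization_iff _ _).mpr ⟨fun y => ?_, fun z => ?_, fun {x y} hxy => ?_⟩
  · have h : (y : B) ∉ (maximalIdeal C).comap (algebraMap B C) := hQ ▸ y.2
    rw [Ideal.mem_comap, mem_maximalIdeal, mem_nonunits_iff, not_not] at h
    exact h
  · obtain ⟨b, rfl⟩ := hsurj z
    exact ⟨(b, 1), by simp⟩
  · obtain ⟨s, hs, h⟩ := hker (x - y) (by rw [map_sub, hxy, sub_self])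
    exact ⟨⟨s, hs⟩, by
      rw [mul_sub, sub_eq_zero] at h
      exact h⟩

/-- Over a henselian local ring, the local ring of a finite type algebra at a prime over the
closed point at which the algebra is quasi-finite is a quotient of the algebra which is finite as
a module. -/
theorem exists_finite_quotient_isLocalization (R : Type u) [CommRing R] [HenselianLocalRing R]
    (B : Type u) [CommRing B] [Algebra R B] [Algebra.FiniteType R B] (Q : Ideal B) [Q.IsPrime]
    [Q.LiesOver (maximalIdeal R)] [Algebra.QuasiFiniteAt R Q] :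
    ∃ J : Ideal B, Module.Finite R (B ⧸ J) ∧ IsLocalRing (B ⧸ J) ∧
      IsLocalization.AtPrime (B ⧸ J) Q := by
  classical
  obtain ⟨e, he, hfin, hnot⟩ := exists_idempotent_finite_of_finiteType R B
  have heQ : e ∉ Q := hnot Q inferInstance inferInstance
  have h1eQ : 1 - e ∈ Q := by
    have h0 : e * (1 - e) ∈ Q := by
      rw [mul_sub, mul_one, he.eq, sub_self]
      exact Q.zero_mem
    exact (‹Q.IsPrime›.mem_or_mem h0).resolve_left heQ
  let I : Ideal B := Ideal.span ({1 - e} : Set B)
  have hIQ : I ≤ Q := (Ideal.span_singleton_le_iff_mem _).mpr h1eQ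
  let A := B ⧸ I
  let mkA : B →+* A := Ideal.Quotient.mk I
  have hmkA : Function.Surjective mkA := Ideal.Quotient.mk_surjective
  let Q' : Ideal A := Q.map mkA
  have hQ'comap : Q'.comap mkA = Q := by
    rw [Ideal.comap_map_of_surjective mkA hmkA]
    have : Ideal.comap mkA ⊥ = I := by
      rw [← RingHom.ker_eq_comap_bot, Ideal.mk_ker]
    rw [this, sup_eq_left.mpr hIQ]
  have hQ'prime : Q'.IsPrime :=
    Ideal.map_isPrime_of_surjective hmkA (by rw [Ideal.mk_ker]; exact hIQ)
  have hQ'under : Q'.comap (algebraMap R A) = maximalIdeal R := by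
    have h1 : algebraMap R A = mkA.comp (algebraMap R B) := rfl
    rw [h1, ← Ideal.comap_comap, hQ'comap]
    exact (‹Q.LiesOver (maximalIdeal R)›.over).symm
  have hQ'max : Q'.IsMaximal := by
    have : Algebra.IsIntegral R A := Algebra.IsIntegral.of_finite R A
    apply Ideal.isMaximal_of_isIntegral_of_isMaximal_comap (R := R) Q'
    rw [hQ'under]
    exact maximalIdeal.isMaximal R
  obtain ⟨e', he', hM⟩ := exists_idempotent_notMem_iff R A ({Q'} : Set (Ideal A))
  have he'Q' : e' ∉ Q' := (hM Q' hQ'max).mpr rfl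
  have h1e'Q' : 1 - e' ∈ Q' := by
    have h0 : e' * (1 - e') ∈ Q' := by
      rw [mul_sub, mul_one, he'.eq, sub_self]
      exact Q'.zero_mem
    exact (hQ'prime.mem_or_mem h0).resolve_left he'Q'
  obtain ⟨et, het⟩ := hmkA e'
  have hetQ : et ∉ Q := fun h => he'Q' (het ▸ Ideal.mem_map_of_mem mkA h)
  -- the ideal
  let J : Ideal B := (Ideal.span ({1 - e'} : Set A)).comap mkA
  have hJQ : J ≤ Q := by
    rw [← hQ'comap]
    exact Ideal.comap_mono ((Ideal.span_singleton_le_iff_mem _).mpr h1e'Q')
  have hJker : ∀ b ∈ J, ∃ s, s ∉ Q ∧ s * b = 0 := by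
    intro b hb
    obtain ⟨a, ha⟩ := Ideal.mem_span_singleton'.mp (Ideal.mem_comap.mp hb)
    have h1 : e' * mkA b = 0 := by
      rw [← ha, mul_comm a, ← mul_assoc, mul_sub, mul_one, he'.eq, sub_self, zero_mul]
    have h2 : et * b ∈ I := by
      rw [← Ideal.Quotient.eq_zero_iff_mem, map_mul]
      change mkA et * mkA b = 0
      rw [het, h1]
    obtain ⟨b', hb'⟩ := Ideal.mem_span_singleton'.mp h2
    refine ⟨e * et, fun h => (‹Q.IsPrime›.mem_or_mem h).elim heQ hetQ, ?_⟩
    rw [mul_assoc, ← hb', mul_comm b', ← mul_assoc, mul_sub, mul_one, he.eq, sub_self, zero_mul]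
  -- B ⧸ J is a quotient of A, hence finite
  let g : A →ₐ[R] B ⧸ J := Ideal.Quotient.liftₐ I (Ideal.Quotient.mkₐ R J) (fun b hb => by
    rw [Ideal.Quotient.mkₐ_eq_mk, Ideal.Quotient.eq_zero_iff_mem]
    change mkA b ∈ Ideal.span ({1 - e'} : Set A)
    rw [(Ideal.Quotient.eq_zero_iff_mem (I := I)).mpr hb]
    exact Ideal.zero_mem _)
  have hg : Function.Surjective g := by
    intro x
    obtain ⟨b, rfl⟩ := Ideal.Quotient.mk_surjective x
    exact ⟨mkA b, rfl⟩
  have hfinJ : Module.Finite R (B ⧸ J) := Module.Finite.of_surjective g.toLinearMap hg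
  -- locality
  have hJne : J ≠ ⊤ := fun h => ‹Q.IsPrime›.ne_top (top_le_iff.mp (h ▸ hJQ))
  have hmaxJ : ∀ N : Ideal (B ⧸ J), N.IsMaximal → N.comap (Ideal.Quotient.mk J) = Q := by
    intro N hN
    have hNg : (N.comap g.toRingHom).IsMaximal := Ideal.comap_isMaximal_of_surjective _ hg
    have h1 : 1 - e' ∈ N.comap g.toRingHom := by
      rw [Ideal.mem_comap]
      have : g.toRingHom (1 - e') = 0 := by
        rw [← het]
        change Ideal.Quotient.mk J (1 - et) = 0
        rw [Ideal.Quotient.eq_zero_iff_mem]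
        change mkA (1 - et) ∈ Ideal.span ({1 - e'} : Set A)
        rw [map_sub, map_one, het]
        exact Ideal.mem_span_singleton_self _
      rw [this]
      exact N.zero_mem
    have h2 : e' ∉ N.comap g.toRingHom := fun h => by
      have : (1 : A) ∈ N.comap g.toRingHom := by
        have := Ideal.add_mem _ h1 h
        rwa [sub_add_cancel] at this
      exact hNg.ne_top ((Ideal.eq_top_iff_one _).mpr this)
    have h3 : N.comap g.toRingHom = Q' := (hM _ hNg).mp h2
    have h4 : (N.comap g.toRingHom).comap mkA = N.comap (Ideal.Quotient.mk J) := by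
      rw [Ideal.comap_comap]
      rfl
    rw [← h4, h3, hQ'comap]
  have hloc : IsLocalRing (B ⧸ J) := by
    have : Nontrivial (B ⧸ J) := Ideal.Quotient.nontrivial_iff.mpr hJne
    apply IsLocalRing.of_unique_max_ideal
    obtain ⟨N, hN⟩ := Ideal.exists_maximal (B ⧸ J)
    refine ⟨N, hN, fun N' hN' => ?_⟩
    have h1 := hmaxJ N hN
    have h2 := hmaxJ N' hN'
    rw [← Ideal.map_comap_of_surjective _ Ideal.Quotient.mk_surjective N',
      ← Ideal.map_comap_of_surjective _ Ideal.Quotient.mk_surjective N, h1, h2]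
  refine ⟨J, hfinJ, hloc, ?_⟩
  apply isLocalization_atPrime_of_surjective (B := B) (C := B ⧸ J) Ideal.Quotient.mk_surjective Q
  · exact hmaxJ _ (maximalIdeal.isMaximal _)
  · intro b hb
    exact hJker b (Ideal.Quotient.eq_zero_iff_mem.mp hb)

end Groth.Agent.Lib.Helper8.Hzl
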