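import Mathlib
import Groth.Prelude
import Groth.Agent.Lib.Helper8.Hzl.Main

/-!
# The henselization of `S_q` is the henselization of a local ring of `R^h ⊗_R S`
-/

set_option autoImplicit false

open IsLocalRing TensorProduct

universe u

namespace Groth.Agent.Lib.Helper8.Hzl

/-- If the structure map `A → A^h` of a henselization factors through local homomorphisms
`A → D → A^h`, and maps out of `A^h` are compatible with maps out of `D`, then `A^h` is a
henselization of `D`. -/
theorem isHenselization_of_factor (A Ah D : Type u) [CommRing A] [IsLocalRing A]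
    [CommRing Ah] [IsLocalRing Ah] [Algebra A Ah] [IsLocalHom (algebraMap A Ah)]
    [hA : Hensel.IsHenselization A Ah]
    [CommRing D] [IsLocalRing D] [Algebra A D] [IsLocalHom (algebraMap A D)]
    [Algebra D Ah] [IsScalarTower A D Ah] [IsLocalHom (algebraMap D Ah)]
    (H : ∀ (T : Type u) [CommRing T] [HenselianLocalRing T] (g : D →+* T) (_ : IsLocalHom g)
      (h : Ah →+* T), h.comp (algebraMap A Ah) = g.comp (algebraMap A D) →
        h.comp (algebraMap D Ah) = g) :
    Hensel.IsHenselization D Ah where
  henselian := hA.henselian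
  universal T _ _ g hg := by
    have hloc : IsLocalHom (g.comp (algebraMap A D)) := by
      have := hg
      exact RingHom.isLocalHom_comp _ _
    obtain ⟨h, hh, hu⟩ := hA.universal T (g.comp (algebraMap A D)) hloc
    refine ⟨h, H T g hg h hh, fun h' hh' => hu h' ?_⟩
    change h'.comp (algebraMap A Ah) = g.comp (algebraMap A D)
    rw [IsScalarTower.algebraMap_eq A D Ah, ← RingHom.comp_assoc, hh']

section

variable (R : Type u) [CommRing R] (S : Type u) [CommRing S] [Algebra R S]
  (p : Ideal R) [p.IsPrime] (q : Ideal S) [q.IsPrime] [q.LiesOver p]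
  (Rh : Type u) [CommRing Rh] [IsLocalRing Rh] [Algebra (Localization.AtPrime p) Rh]
  [IsLocalHom (algebraMap (Localization.AtPrime p) Rh)]
  [Algebra R Rh] [IsScalarTower R (Localization.AtPrime p) Rh]
  (Sh : Type u) [CommRing Sh] [IsLocalRing Sh] [Algebra (Localization.AtPrime q) Sh]
  [IsLocalHom (algebraMap (Localization.AtPrime q) Sh)]
  [Algebra S Sh] [IsScalarTower S (Localization.AtPrime q) Sh] [Algebra R Sh] [IsScalarTower R S Sh]
  [Algebra Rh Sh] [IsScalarTower R Rh Sh]

/-- The canonical map `R^h ⊗_R S → S^h`. -/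
noncomputable abbrev tensorTo : Rh ⊗[R] S →ₐ[R] Sh :=
  Algebra.TensorProduct.lift (IsScalarTower.toAlgHom R Rh Sh) (IsScalarTower.toAlgHom R S Sh)
    (fun _ _ => Commute.all _ _)

/-- The prime of `R^h ⊗_R S` cut out by the maximal ideal of `S^h`. -/
noncomputable abbrev tensorPrime : Ideal (Rh ⊗[R] S) :=
  Ideal.comap (tensorTo R S Rh Sh) (maximalIdeal Sh)

lemma tensorTo_tmul (y : Rh) (x : S) :
    tensorTo R S Rh Sh (y ⊗ₜ x) = algebraMap Rh Sh y * algebraMap S Sh x := by
  simp [tensorTo]

include q in
lemma mem_maximalIdeal_algebraMap_iff (x : S) :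
    algebraMap S Sh x ∈ maximalIdeal Sh ↔ x ∈ q := by
  rw [IsScalarTower.algebraMap_apply S (Localization.AtPrime q) Sh]
  constructor
  · intro h
    by_contra hx
    have h1 : IsUnit (algebraMap S (Localization.AtPrime q) x) :=
      IsLocalization.map_units _ (⟨x, hx⟩ : q.primeCompl)
    exact h (h1.map _)
  · intro h
    have h1 : algebraMap S (Localization.AtPrime q) x ∈ maximalIdeal (Localization.AtPrime q) :=
      (IsLocalization.AtPrime.to_map_mem_maximal_iff _ q x).mpr h
    exact map_nonunit _ _ h1

lemma comap_tensorPrime : q = (tensorPrime R S Rh Sh).comap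
    (Algebra.TensorProduct.includeRight : S →ₐ[R] Rh ⊗[R] S).toRingHom := by
  ext x
  rw [Ideal.mem_comap]
  change _ ↔ tensorTo R S Rh Sh ((1 : Rh) ⊗ₜ x) ∈ maximalIdeal Sh
  rw [tensorTo_tmul, map_one, one_mul, mem_maximalIdeal_algebraMap_iff S q Sh]

/-- The map from the local ring of the tensor product to `S^h`. -/
noncomputable def locTo : Localization.AtPrime (tensorPrime R S Rh Sh) →+* Sh :=
  IsLocalization.lift (M := (tensorPrime R S Rh Sh).primeCompl)
    (g := (tensorTo R S Rh Sh).toRingHom) (fun y => by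
      have h : tensorTo R S Rh Sh y ∉ maximalIdeal Sh := y.2
      rw [mem_maximalIdeal, mem_nonunits_iff, not_not] at h
      exact h)

lemma locTo_algebraMap (d : Rh ⊗[R] S) :
    locTo R S Rh Sh (algebraMap _ _ d) = tensorTo R S Rh Sh d :=
  IsLocalization.lift_eq _ d

lemma isLocalHom_locTo : IsLocalHom (locTo R S Rh Sh) := ⟨fun d hd => by
  obtain ⟨a, s, rfl⟩ := IsLocalization.exists_mk'_eq (tensorPrime R S Rh Sh).primeCompl d
  have h1 : locTo R S Rh Sh (IsLocalization.mk' _ a s) * tensorTo R S Rh Sh s =
      tensorTo R S Rh Sh a := by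
    rw [← locTo_algebraMap, ← locTo_algebraMap, ← map_mul, IsLocalization.mk'_spec]
  have hs : IsUnit (tensorTo R S Rh Sh (s : Rh ⊗[R] S)) := by
    have h : tensorTo R S Rh Sh s ∉ maximalIdeal Sh := s.2
    rw [mem_maximalIdeal, mem_nonunits_iff, not_not] at h
    exact h
  have ha : IsUnit (tensorTo R S Rh Sh a) := h1 ▸ hd.mul hs
  have ha' : a ∈ (tensorPrime R S Rh Sh).primeCompl := fun h => h ha
  have h2 : IsUnit (algebraMap _ (Localization.AtPrime (tensorPrime R S Rh Sh)) a) :=
    IsLocalization.map_units _ (⟨a, ha'⟩ : (tensorPrime R S Rh Sh).primeCompl)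
  have h3 : IsLocalization.mk' (Localization.AtPrime (tensorPrime R S Rh Sh)) a s *
      algebraMap _ _ (s : Rh ⊗[R] S) = algebraMap _ _ a := IsLocalization.mk'_spec _ _ _
  exact isUnit_of_mul_isUnit_left (h3 ▸ h2)⟩

/-- The map from `S_q` to the local ring of the tensor product. -/
noncomputable def fromLoc :
    Localization.AtPrime q →+* Localization.AtPrime (tensorPrime R S Rh Sh) :=
  Localization.localRingHom q (tensorPrime R S Rh Sh)
    (Algebra.TensorProduct.includeRight : S →ₐ[R] Rh ⊗[R] S).toRingHom
    (comap_tensorPrime R S q Rh Sh)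

lemma fromLoc_algebraMap (x : S) :
    fromLoc R S q Rh Sh (algebraMap S _ x) = algebraMap _ _ ((1 : Rh) ⊗ₜ[R] x) :=
  Localization.localRingHom_to_map _ _ _ _ x

lemma isLocalHom_fromLoc : IsLocalHom (fromLoc R S q Rh Sh) :=
  Localization.isLocalHom_localRingHom q (tensorPrime R S Rh Sh) _
    (comap_tensorPrime R S q Rh Sh)

lemma locTo_comp_fromLoc :
    (locTo R S Rh Sh).comp (fromLoc R S q Rh Sh) = algebraMap (Localization.AtPrime q) Sh := by
  apply IsLocalization.ringHom_ext q.primeCompl
  ext x
  simp only [RingHom.comp_apply]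
  rw [fromLoc_algebraMap, locTo_algebraMap, tensorTo_tmul, map_one, one_mul,
    ← IsScalarTower.algebraMap_apply]

section aux

variable {T : Type u} [CommRing T] [IsLocalRing T]
  (g : Localization.AtPrime (tensorPrime R S Rh Sh) →+* T) (h : Sh →+* T)
  (hh : h.comp (algebraMap (Localization.AtPrime q) Sh) = g.comp (fromLoc R S q Rh Sh))

/-- The restriction to `R^h` of a map out of the local ring of the tensor product. -/
noncomputable def restrLeft : Rh →+* T :=
  (g.comp (algebraMap _ _)).comp
    (Algebra.TensorProduct.includeLeftRingHom : Rh →+* Rh ⊗[R] S)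

lemma restrLeft_apply (y : Rh) :
    restrLeft R S Rh Sh g y = g (algebraMap _ _ (y ⊗ₜ[R] (1 : S))) := rfl

include hh in
lemma apply_algebraMap_right (x : S) :
    h (algebraMap S Sh x) = g (algebraMap _ _ ((1 : Rh) ⊗ₜ[R] x)) := by
  have := DFunLike.congr_fun hh (algebraMap S _ x)
  simp only [RingHom.comp_apply] at this
  rw [← IsScalarTower.algebraMap_apply, fromLoc_algebraMap] at this
  exact this

include hh in
lemma restr_agree : (h.comp (algebraMap Rh Sh)).comp (algebraMap (Localization.AtPrime p) Rh) =
    (restrLeft R S Rh Sh g).comp (algebraMap (Localization.AtPrime p) Rh) := by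
  apply IsLocalization.ringHom_ext p.primeCompl
  ext r
  simp only [RingHom.comp_apply]
  rw [← IsScalarTower.algebraMap_apply R (Localization.AtPrime p) Rh, restrLeft_apply,
    ← IsScalarTower.algebraMap_apply R Rh Sh, IsScalarTower.algebraMap_apply R S Sh,
    apply_algebraMap_right R S q Rh Sh g h hh]
  congr 2
  rw [Algebra.algebraMap_eq_smul_one, Algebra.algebraMap_eq_smul_one, TensorProduct.smul_tmul]

include hh in
lemma isLocalHom_restrLeft_comp (hg : IsLocalHom g) :
    IsLocalHom ((restrLeft R S Rh Sh g).comp (algebraMap (Localization.AtPrime p) Rh)) :=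
  ⟨fun a ha => by
    obtain ⟨r, s, rfl⟩ := IsLocalization.exists_mk'_eq p.primeCompl a
    set F := (restrLeft R S Rh Sh g).comp (algebraMap (Localization.AtPrime p) Rh) with hF
    have h1 : F (IsLocalization.mk' _ r s) * F (algebraMap R _ (s : R)) = F (algebraMap R _ r) := by
      rw [← map_mul, IsLocalization.mk'_spec]
    have hs : IsUnit (F (algebraMap R _ (s : R))) :=
      (IsLocalization.map_units (Localization.AtPrime p) s).map _
    have hr : IsUnit (F (algebraMap R _ r)) := h1 ▸ ha.mul hs
    have hr' : F (algebraMap R _ r) =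
        g (fromLoc R S q Rh Sh (algebraMap S _ (algebraMap R S r))) := by
      have := DFunLike.congr_fun (restr_agree R S p q Rh Sh g h hh) (algebraMap R _ r)
      rw [← this]
      simp only [RingHom.comp_apply]
      rw [← IsScalarTower.algebraMap_apply R (Localization.AtPrime p) Rh,
        ← IsScalarTower.algebraMap_apply R Rh Sh, IsScalarTower.algebraMap_apply R S Sh,
        apply_algebraMap_right R S q Rh Sh g h hh, fromLoc_algebraMap]
    rw [hr'] at hr
    have h2 : IsUnit (fromLoc R S q Rh Sh (algebraMap S _ (algebraMap R S r))) :=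
      hg.map_nonunit _ hr
    have : IsLocalHom (fromLoc R S q Rh Sh) := isLocalHom_fromLoc R S q Rh Sh
    have h3 : IsUnit (algebraMap S (Localization.AtPrime q) (algebraMap R S r)) :=
      isUnit_of_map_unit (fromLoc R S q Rh Sh) _ h2
    have h4 : algebraMap R S r ∉ q := fun hmem =>
      ((IsLocalization.AtPrime.to_map_mem_maximal_iff (Localization.AtPrime q) q _).mpr hmem) h3
    have h5 : r ∉ p := fun hmem => h4 (by
      rw [‹q.LiesOver p›.over] at hmem
      exact hmem)
    have h6 : IsUnit (algebraMap R (Localization.AtPrime p) r) :=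
      IsLocalization.map_units _ (⟨r, h5⟩ : p.primeCompl)
    have h7 : IsLocalization.mk' (Localization.AtPrime p) r s * algebraMap R _ (s : R) =
        algebraMap R _ r := IsLocalization.mk'_spec _ _ _
    exact isUnit_of_mul_isUnit_left (h7 ▸ h6)⟩

include hh in
/-- Once the two restrictions to `R^h` agree, the maps agree. -/
lemma comp_locTo_eq_of_restr (key : h.comp (algebraMap Rh Sh) = restrLeft R S Rh Sh g) :
    h.comp (locTo R S Rh Sh) = g := by
  apply IsLocalization.ringHom_ext (tensorPrime R S Rh Sh).primeCompl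
  apply Algebra.TensorProduct.ringHom_ext
  · ext y
    simp only [RingHom.comp_apply]
    have := DFunLike.congr_fun key y
    rw [restrLeft_apply] at this
    change h (locTo R S Rh Sh (algebraMap _ _ (y ⊗ₜ[R] (1 : S)))) =
      g (algebraMap _ _ (y ⊗ₜ[R] (1 : S)))
    rw [← this]
    change h (locTo R S Rh Sh (algebraMap _ _ (y ⊗ₜ[R] (1 : S)))) = h (algebraMap Rh Sh y)
    rw [locTo_algebraMap, tensorTo_tmul, map_one, mul_one]
  · ext x
    simp only [RingHom.comp_apply]
    change h (locTo R S Rh Sh (algebraMap _ _ ((1 : Rh) ⊗ₜ[R] x))) = g _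
    rw [locTo_algebraMap, tensorTo_tmul, map_one, one_mul,
      apply_algebraMap_right R S q Rh Sh g h hh]
    rfl

end aux

section hens

variable [hR : Hensel.IsHenselization (Localization.AtPrime p) Rh]

include p in
theorem comp_locTo_eq (T : Type u) [CommRing T] [HenselianLocalRing T]
    (g : Localization.AtPrime (tensorPrime R S Rh Sh) →+* T) (hg : IsLocalHom g) (h : Sh →+* T)
    (hh : h.comp (algebraMap (Localization.AtPrime q) Sh) = g.comp (fromLoc R S q Rh Sh)) :
    h.comp (locTo R S Rh Sh) = g := by
  apply comp_locTo_eq_of_restr R S q Rh Sh g h hh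
  exact (hR.universal T _ (isLocalHom_restrLeft_comp R S p q Rh Sh g h hh hg)).unique
    (restr_agree R S p q Rh Sh g h hh) rfl

variable [hS : Hensel.IsHenselization (Localization.AtPrime q) Sh]

include p q in
theorem exists_ringEquiv_tensor (E : Type u) [CommRing E] [IsLocalRing E]
    [Algebra (Localization.AtPrime (tensorPrime R S Rh Sh)) E]
    [IsLocalHom (algebraMap (Localization.AtPrime (tensorPrime R S Rh Sh)) E)]
    [Hensel.IsHenselization (Localization.AtPrime (tensorPrime R S Rh Sh)) E] :
    ∃ e : E ≃+* Sh, ∀ d : Rh ⊗[R] S,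
      e (algebraMap (Localization.AtPrime (tensorPrime R S Rh Sh)) E (algebraMap _ _ d)) =
        tensorTo R S Rh Sh d := by
  letI : Algebra (Localization.AtPrime (tensorPrime R S Rh Sh)) Sh := (locTo R S Rh Sh).toAlgebra
  haveI : IsLocalHom (algebraMap (Localization.AtPrime (tensorPrime R S Rh Sh)) Sh) :=
    isLocalHom_locTo R S Rh Sh
  letI : Algebra (Localization.AtPrime q) (Localization.AtPrime (tensorPrime R S Rh Sh)) :=
    (fromLoc R S q Rh Sh).toAlgebra
  haveI : IsLocalHom (algebraMap (Localization.AtPrime q)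
      (Localization.AtPrime (tensorPrime R S Rh Sh))) :=
    isLocalHom_fromLoc R S q Rh Sh
  haveI : IsScalarTower (Localization.AtPrime q) (Localization.AtPrime (tensorPrime R S Rh Sh))
      Sh := IsScalarTower.of_algebraMap_eq' (locTo_comp_fromLoc R S q Rh Sh).symm
  haveI : Hensel.IsHenselization (Localization.AtPrime (tensorPrime R S Rh Sh)) Sh :=
    isHenselization_of_factor (Localization.AtPrime q) Sh _
      (fun T _ _ g hg h hh => comp_locTo_eq R S p q Rh Sh T g hg h hh)
  obtain ⟨e⟩ := nonempty_algEquiv_of_isHenselization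
    (Localization.AtPrime (tensorPrime R S Rh Sh)) E Sh
  refine ⟨e.toRingEquiv, fun d => ?_⟩
  change e (algebraMap _ E _) = _
  rw [e.commutes]
  exact locTo_algebraMap R S Rh Sh d

end hens

end

end Groth.Agent.Lib.Helper8.Hzl
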