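import Mathlib
import Groth.Prelude
import Groth.Agent.Lib.Helper8.Hzl.TensorHens
import Groth.Agent.Lib.Helper8.Hzl.Transfer

/-!
# The strict henselization of `S_q` is the strict henselization of a local ring of `R^sh ⊗_R S`
-/

set_option autoImplicit false

open IsLocalRing TensorProduct

universe u

namespace Groth.Agent.Lib.Helper8.Hzl

/-- Strict version of `isHenselization_of_factor`. -/
theorem isStrictHenselization_of_factor (A Ah D : Type u) [CommRing A] [IsLocalRing A]
    [CommRing Ah] [IsLocalRing Ah] [Algebra A Ah] [IsLocalHom (algebraMap A Ah)]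
    [hA : Hensel.IsStrictHenselization A Ah]
    [CommRing D] [IsLocalRing D] [Algebra A D] [IsLocalHom (algebraMap A D)]
    [Algebra D Ah] [IsScalarTower A D Ah] [IsLocalHom (algebraMap D Ah)]
    (H : ∀ (T : Type u) [CommRing T] [HenselianLocalRing T] (g : D →+* T) [IsLocalHom g]
      (τ : ResidueField Ah →+* ResidueField T),
      τ.comp (ResidueField.map (algebraMap D Ah)) = ResidueField.map g →
      ∀ (h : Ah →+* T), h.comp (algebraMap A Ah) = g.comp (algebraMap A D) →
        (∀ x, residue T (h x) = τ (residue Ah x)) → h.comp (algebraMap D Ah) = g) :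
    Hensel.IsStrictHenselization D Ah where
  henselian := hA.henselian
  isSepClosure := by
    have h1 := hA.isSepClosure
    have h2 : IsSepClosed (ResidueField Ah) := h1.sep_closed
    have h3 : Algebra.IsSeparable (ResidueField A) (ResidueField Ah) := h1.separable
    exact ⟨h2, Algebra.isSeparable_tower_top_of_isSeparable (ResidueField A) (ResidueField D)
      (ResidueField Ah)⟩
  universal T _ _ g _ τ hτ := by
    have hτ' : τ.comp (ResidueField.map (algebraMap A Ah)) =
        ResidueField.map (g.comp (algebraMap A D)) := by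
      apply Ideal.Quotient.ringHom_ext
      ext a
      have h1 := DFunLike.congr_fun hτ (residue D (algebraMap A D a))
      simp only [RingHom.comp_apply, ResidueField.map_residue] at h1
      change τ (residue Ah (algebraMap A Ah a)) = residue T (g (algebraMap A D a))
      rw [IsScalarTower.algebraMap_apply A D Ah]
      exact h1
    obtain ⟨h, ⟨hh1, hh2⟩, hu⟩ := hA.universal T (g.comp (algebraMap A D)) τ hτ'
    refine ⟨h, ⟨H T g τ hτ h hh1 hh2, hh2⟩, fun h' hh' => hu h' ⟨?_, hh'.2⟩⟩
    change h'.comp (algebraMap A Ah) = g.comp (algebraMap A D)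
    rw [IsScalarTower.algebraMap_eq A D Ah, ← RingHom.comp_assoc, hh'.1]

section

variable (R : Type u) [CommRing R] (S : Type u) [CommRing S] [Algebra R S]
  (p : Ideal R) [p.IsPrime] (q : Ideal S) [q.IsPrime] [q.LiesOver p]
  (Rh : Type u) [CommRing Rh] [IsLocalRing Rh] [Algebra (Localization.AtPrime p) Rh]
  [IsLocalHom (algebraMap (Localization.AtPrime p) Rh)]
  [Algebra R Rh] [IsScalarTower R (Localization.AtPrime p) Rh]
  (Sh : Type u) [CommRing Sh] [IsLocalRing Sh] [Algebra (Localization.AtPrime q) Sh]
  [IsLocalHom (algebraMap (Localization.AtPrime q) Sh)]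
  [Algebra S Sh] [IsScalarTower S (Localization.AtPrime q) Sh] [Algebra R Sh] [IsScalarTower R S Sh]
  [Algebra Rh Sh] [IsScalarTower R Rh Sh]
  [hR : Hensel.IsStrictHenselization (Localization.AtPrime p) Rh]

include p q in
/-- A map `R^sh → S^sh` over `R → S` is automatically local. -/
theorem isLocalHom_of_strict : IsLocalHom (algebraMap Rh Sh) := by
  have hle : (maximalIdeal Rh).map (algebraMap Rh Sh) ≤ maximalIdeal Sh := by
    rw [← strictHenselization_map_maximalIdeal (Localization.AtPrime p) Rh,
      ← Localization.AtPrime.map_eq_maximalIdeal, Ideal.map_map, Ideal.map_map,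
      Ideal.map_le_iff_le_comap]
    intro r hr
    rw [Ideal.mem_comap]
    simp only [RingHom.comp_apply]
    rw [← IsScalarTower.algebraMap_apply R (Localization.AtPrime p) Rh,
      ← IsScalarTower.algebraMap_apply R Rh Sh, IsScalarTower.algebraMap_apply R S Sh,
      mem_maximalIdeal_algebraMap_iff S q Sh]
    rw [‹q.LiesOver p›.over] at hr
    exact hr
  exact ((local_hom_TFAE (algebraMap Rh Sh)).out 0 2 rfl rfl).mpr hle

include p in
theorem comp_locTo_eq_strict (T : Type u) [CommRing T] [HenselianLocalRing T]
    (g : Localization.AtPrime (tensorPrime R S Rh Sh) →+* T) (hg : IsLocalHom g)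
    (τ : ResidueField Sh →+* ResidueField T)
    (hτ : ∀ d, τ (residue Sh (locTo R S Rh Sh d)) = residue T (g d))
    (h : Sh →+* T)
    (hh : h.comp (algebraMap (Localization.AtPrime q) Sh) = g.comp (fromLoc R S q Rh Sh))
    (hres : ∀ x, residue T (h x) = τ (residue Sh x)) :
    h.comp (locTo R S Rh Sh) = g := by
  apply comp_locTo_eq_of_restr R S q Rh Sh g h hh
  haveI hlocRS : IsLocalHom (algebraMap Rh Sh) := isLocalHom_of_strict R S p q Rh Sh
  haveI hloc := isLocalHom_restrLeft_comp R S p q Rh Sh g h hh hg
  have hagree := restr_agree R S p q Rh Sh g h hh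
  let τ' : ResidueField Rh →+* ResidueField T := τ.comp (ResidueField.map (algebraMap Rh Sh))
  have hτ'0 : τ'.comp (ResidueField.map (algebraMap (Localization.AtPrime p) Rh)) =
      ResidueField.map ((restrLeft R S Rh Sh g).comp (algebraMap (Localization.AtPrime p) Rh)) := by
    apply Ideal.Quotient.ringHom_ext
    ext a
    change τ (residue Sh (algebraMap Rh Sh (algebraMap (Localization.AtPrime p) Rh a))) =
      residue T (restrLeft R S Rh Sh g (algebraMap (Localization.AtPrime p) Rh a))
    rw [← hres]
    exact congrArg (residue T) (DFunLike.congr_fun hagree a)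
  refine (hR.universal T _ τ' hτ'0).unique ⟨hagree, fun y => ?_⟩ ⟨rfl, fun y => ?_⟩
  · change residue T (h (algebraMap Rh Sh y)) = τ (residue Sh (algebraMap Rh Sh y))
    exact hres _
  · change residue T (restrLeft R S Rh Sh g y) = τ (residue Sh (algebraMap Rh Sh y))
    rw [restrLeft_apply, ← hτ, locTo_algebraMap, tensorTo_tmul, map_one, mul_one]

variable [hS : Hensel.IsStrictHenselization (Localization.AtPrime q) Sh]

include p q in
theorem exists_ringEquiv_tensor_strict (E : Type u) [CommRing E] [IsLocalRing E]
    [Algebra (Localization.AtPrime (tensorPrime R S Rh Sh)) E]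
    [IsLocalHom (algebraMap (Localization.AtPrime (tensorPrime R S Rh Sh)) E)]
    [Hensel.IsStrictHenselization (Localization.AtPrime (tensorPrime R S Rh Sh)) E] :
    ∃ e : E ≃+* Sh, ∀ d : Rh ⊗[R] S,
      e (algebraMap (Localization.AtPrime (tensorPrime R S Rh Sh)) E (algebraMap _ _ d)) =
        tensorTo R S Rh Sh d := by
  letI : Algebra (Localization.AtPrime (tensorPrime R S Rh Sh)) Sh := (locTo R S Rh Sh).toAlgebra
  haveI : IsLocalHom (algebraMap (Localization.AtPrime (tensorPrime R S Rh Sh)) Sh) :=
    isLocalHom_locTo R S Rh Sh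
  letI : Algebra (Localization.AtPrime q) (Localization.AtPrime (tensorPrime R S Rh Sh)) :=
    (fromLoc R S q Rh Sh).toAlgebra
  haveI : IsLocalHom (algebraMap (Localization.AtPrime q)
      (Localization.AtPrime (tensorPrime R S Rh Sh))) :=
    isLocalHom_fromLoc R S q Rh Sh
  haveI : IsScalarTower (Localization.AtPrime q) (Localization.AtPrime (tensorPrime R S Rh Sh))
      Sh := IsScalarTower.of_algebraMap_eq' (locTo_comp_fromLoc R S q Rh Sh).symm
  haveI : Hensel.IsStrictHenselization (Localization.AtPrime (tensorPrime R S Rh Sh)) Sh :=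
    isStrictHenselization_of_factor (Localization.AtPrime q) Sh _
      (fun T _ _ g hg τ hτ h hh hres =>
        comp_locTo_eq_strict R S p q Rh Sh T g hg τ
          (fun d => DFunLike.congr_fun hτ (residue _ d)) h hh hres)
  obtain ⟨e⟩ := nonempty_algEquiv_of_isStrictHenselization
    (Localization.AtPrime (tensorPrime R S Rh Sh)) E Sh
  refine ⟨e.toRingEquiv, fun d => ?_⟩
  change e (algebraMap _ E _) = _
  rw [e.commutes]
  exact locTo_algebraMap R S Rh Sh d

end

end Groth.Agent.Lib.Helper8.Hzl
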