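import Mathlib
import Groth.Prelude
import Groth.Agent.Lib.Helper8.Hzl.TensorSHens
import Groth.Agent.Lib.Helper8.Hzl.QuasiFiniteLoc
import Groth.Agent.S0505

/-!
# Henselizations at quasi-finite points are finite
-/

set_option autoImplicit false

open IsLocalRing TensorProduct

universe u

namespace Groth.Agent.Lib.Helper8.Hzl

section

variable (R : Type u) [CommRing R] (S : Type u) [CommRing S] [Algebra R S]
  (p : Ideal R) [p.IsPrime] (q : Ideal S) [q.IsPrime] [q.LiesOver p]
  (Rh : Type u) [CommRing Rh] [IsLocalRing Rh] [Algebra (Localization.AtPrime p) Rh]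
  [IsLocalHom (algebraMap (Localization.AtPrime p) Rh)]
  [Algebra R Rh] [IsScalarTower R (Localization.AtPrime p) Rh]
  (Sh : Type u) [CommRing Sh] [IsLocalRing Sh] [Algebra (Localization.AtPrime q) Sh]
  [IsLocalHom (algebraMap (Localization.AtPrime q) Sh)]
  [Algebra S Sh] [IsScalarTower S (Localization.AtPrime q) Sh] [Algebra R Sh] [IsScalarTower R S Sh]
  [Algebra Rh Sh] [IsScalarTower R Rh Sh]

include p q in
/-- A map `R^h → S^h` over `R → S` is automatically local when `𝔪 R^h` is the maximal ideal. -/
theorem isLocalHom_of_map_maximalIdeal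
    (hmax : (maximalIdeal (Localization.AtPrime p)).map (algebraMap (Localization.AtPrime p) Rh) =
      maximalIdeal Rh) : IsLocalHom (algebraMap Rh Sh) := by
  have hle : (maximalIdeal Rh).map (algebraMap Rh Sh) ≤ maximalIdeal Sh := by
    rw [← hmax, ← Localization.AtPrime.map_eq_maximalIdeal, Ideal.map_map, Ideal.map_map,
      Ideal.map_le_iff_le_comap]
    intro r hr
    rw [Ideal.mem_comap]
    simp only [RingHom.comp_apply]
    rw [← IsScalarTower.algebraMap_apply R (Localization.AtPrime p) Rh,
      ← IsScalarTower.algebraMap_apply R Rh Sh, IsScalarTower.algebraMap_apply R S Sh,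
      mem_maximalIdeal_algebraMap_iff S q Sh]
    rw [‹q.LiesOver p›.over] at hr
    exact hr
  exact ((local_hom_TFAE (algebraMap Rh Sh)).out 0 2 rfl rfl).mpr hle

lemma liesOver_tensorPrime [IsLocalHom (algebraMap Rh Sh)] :
    (tensorPrime R S Rh Sh).LiesOver (maximalIdeal Rh) := ⟨by
  ext y
  rw [Ideal.under, Ideal.mem_comap, Algebra.TensorProduct.algebraMap_apply]
  change _ ↔ tensorTo R S Rh Sh (algebraMap Rh Rh y ⊗ₜ[R] (1 : S)) ∈ maximalIdeal Sh
  rw [tensorTo_tmul, map_one, mul_one]
  change _ ↔ algebraMap Rh Sh y ∈ maximalIdeal Sh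
  constructor
  · intro h
    exact map_nonunit _ _ h
  · intro h
    by_contra hy
    rw [mem_maximalIdeal, mem_nonunits_iff, not_not] at hy
    exact h (hy.map _)⟩

end

section

variable (R : Type u) [CommRing R] (S : Type u) [CommRing S] [Algebra R S] [Algebra.FiniteType R S]
  (p : Ideal R) [p.IsPrime] (q : Ideal S) [q.IsPrime] [q.LiesOver p] [Algebra.QuasiFiniteAt R q]
  (Rh : Type u) [CommRing Rh] [HenselianLocalRing Rh] [Algebra (Localization.AtPrime p) Rh]
  [IsLocalHom (algebraMap (Localization.AtPrime p) Rh)]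
  [Algebra R Rh] [IsScalarTower R (Localization.AtPrime p) Rh]
  (Sh : Type u) [CommRing Sh] [IsLocalRing Sh] [Algebra (Localization.AtPrime q) Sh]
  [IsLocalHom (algebraMap (Localization.AtPrime q) Sh)]
  [Algebra S Sh] [IsScalarTower S (Localization.AtPrime q) Sh] [Algebra R Sh] [IsScalarTower R S Sh]
  [Algebra Rh Sh] [IsScalarTower R Rh Sh] [IsLocalHom (algebraMap Rh Sh)]

include q in
/-- The local ring of `R^h ⊗_R S` at the prime cut out by `S^h` is finite over `R^h` and
henselian. -/
theorem finite_localization_tensorPrime :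
    Module.Finite Rh (Localization.AtPrime (tensorPrime R S Rh Sh)) ∧
      HenselianLocalRing (Localization.AtPrime (tensorPrime R S Rh Sh)) := by
  haveI := liesOver_tensorPrime R S Rh Sh
  haveI : Algebra.QuasiFiniteAt Rh (tensorPrime R S Rh Sh) :=
    Algebra.QuasiFiniteAt.baseChange q (tensorPrime R S Rh Sh) (comap_tensorPrime R S q Rh Sh)
  obtain ⟨J, hfin, hlocJ, hlocz⟩ :=
    exists_finite_quotient_isLocalization Rh (Rh ⊗[R] S) (tensorPrime R S Rh Sh)
  let eD : Localization.AtPrime (tensorPrime R S Rh Sh) ≃ₐ[Rh ⊗[R] S] (Rh ⊗[R] S) ⧸ J :=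
    IsLocalization.algEquiv (tensorPrime R S Rh Sh).primeCompl _ _
  have hfinD : Module.Finite Rh (Localization.AtPrime (tensorPrime R S Rh Sh)) :=
    Module.Finite.equiv (eD.restrictScalars Rh).symm.toLinearEquiv
  exact ⟨hfinD, Groth.Agent.S0505.result Rh _⟩

end

end Groth.Agent.Lib.Helper8.Hzl

namespace Groth.Agent.Lib.Helper8.Hzl

open IsLocalRing TensorProduct

section

variable (R : Type u) [CommRing R] (S : Type u) [CommRing S] [Algebra R S] [Algebra.FiniteType R S]
  (p : Ideal R) [p.IsPrime] (q : Ideal S) [q.IsPrime] [q.LiesOver p] [Algebra.QuasiFiniteAt R q]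
  (Rh : Type u) [CommRing Rh] [IsLocalRing Rh] [Algebra (Localization.AtPrime p) Rh]
  [IsLocalHom (algebraMap (Localization.AtPrime p) Rh)]
  [Algebra R Rh] [IsScalarTower R (Localization.AtPrime p) Rh]
  (Sh : Type u) [CommRing Sh] [IsLocalRing Sh] [Algebra (Localization.AtPrime q) Sh]
  [IsLocalHom (algebraMap (Localization.AtPrime q) Sh)]
  [Algebra S Sh] [IsScalarTower S (Localization.AtPrime q) Sh] [Algebra R Sh] [IsScalarTower R S Sh]
  [Algebra Rh Sh] [IsScalarTower R Rh Sh]

/-- A ring isomorphism from the local ring of the tensor product compatible with the maps from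
the tensor product transports finiteness over `R^h`. -/
lemma finite_of_ringEquiv_tensor
    (hfin : Module.Finite Rh (Localization.AtPrime (tensorPrime R S Rh Sh)))
    (e : Localization.AtPrime (tensorPrime R S Rh Sh) ≃+* Sh)
    (he : ∀ d : Rh ⊗[R] S, e (algebraMap _ _ d) = tensorTo R S Rh Sh d) :
    Module.Finite Rh Sh := by
  let l : Localization.AtPrime (tensorPrime R S Rh Sh) →ₗ[Rh] Sh :=
    { toFun := e
      map_add' := map_add e
      map_smul' := fun y x => by
        rw [Algebra.smul_def, map_mul, RingHom.id_apply, Algebra.smul_def]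
        congr 1
        rw [IsScalarTower.algebraMap_apply Rh (Rh ⊗[R] S)
          (Localization.AtPrime (tensorPrime R S Rh Sh)), Algebra.TensorProduct.algebraMap_apply,
          he, tensorTo_tmul, map_one, mul_one]
        rfl }
  exact Module.Finite.of_surjective l e.surjective

include p q in
/-- The henselization at a quasi-finite point is finite over the henselization of the base. -/
theorem finite_hens_of_quasiFiniteAt [hR : Hensel.IsHenselization (Localization.AtPrime p) Rh]
    [hS : Hensel.IsHenselization (Localization.AtPrime q) Sh] : Module.Finite Rh Sh := by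
  haveI : HenselianLocalRing Rh := hR.henselian
  haveI : IsLocalHom (algebraMap Rh Sh) := isLocalHom_of_map_maximalIdeal R S p q Rh Sh
    (henselization_map_maximalIdeal (Localization.AtPrime p) Rh)
  obtain ⟨hfin, hhens⟩ := finite_localization_tensorPrime R S q Rh Sh
  haveI : IsLocalHom (algebraMap (Localization.AtPrime (tensorPrime R S Rh Sh))
      (Localization.AtPrime (tensorPrime R S Rh Sh))) := ⟨fun a ha => ha⟩
  haveI : Hensel.IsHenselization (Localization.AtPrime (tensorPrime R S Rh Sh))
      (Localization.AtPrime (tensorPrime R S Rh Sh)) :=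
    ⟨hhens, fun T _ _ f hf => ⟨f, RingHom.comp_id f, fun g hg => by rw [← hg]; rfl⟩⟩
  obtain ⟨e, he⟩ := exists_ringEquiv_tensor R S p q Rh Sh
    (Localization.AtPrime (tensorPrime R S Rh Sh))
  exact finite_of_ringEquiv_tensor R S Rh Sh hfin e he

end

end Groth.Agent.Lib.Helper8.Hzl

namespace Groth.Agent.Lib.Helper8.Hzl

open IsLocalRing TensorProduct

section

variable (R : Type u) [CommRing R] (S : Type u) [CommRing S] [Algebra R S] [Algebra.FiniteType R S]
  (p : Ideal R) [p.IsPrime] (q : Ideal S) [q.IsPrime] [q.LiesOver p] [Algebra.QuasiFiniteAt R q]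
  (Rh : Type u) [CommRing Rh] [IsLocalRing Rh] [Algebra (Localization.AtPrime p) Rh]
  [IsLocalHom (algebraMap (Localization.AtPrime p) Rh)]
  [Algebra R Rh] [IsScalarTower R (Localization.AtPrime p) Rh]
  (Sh : Type u) [CommRing Sh] [IsLocalRing Sh] [Algebra (Localization.AtPrime q) Sh]
  [IsLocalHom (algebraMap (Localization.AtPrime q) Sh)]
  [Algebra S Sh] [IsScalarTower S (Localization.AtPrime q) Sh] [Algebra R Sh] [IsScalarTower R S Sh]
  [Algebra Rh Sh] [IsScalarTower R Rh Sh] [IsLocalHom (algebraMap Rh Sh)]

lemma isLocalHom_algebraMap_localization_tensorPrime :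
    IsLocalHom (algebraMap Rh (Localization.AtPrime (tensorPrime R S Rh Sh))) := ⟨fun y hy => by
  haveI := liesOver_tensorPrime R S Rh Sh
  rw [IsScalarTower.algebraMap_apply Rh (Rh ⊗[R] S) (Localization.AtPrime (tensorPrime R S Rh Sh)),
    IsLocalization.AtPrime.isUnit_to_map_iff _ (tensorPrime R S Rh Sh)] at hy
  by_contra hy'
  have h1 : y ∈ maximalIdeal Rh := hy'
  rw [(tensorPrime R S Rh Sh).over_def (maximalIdeal Rh)] at h1
  exact hy h1⟩

include p q in
/-- The strict henselization at a quasi-finite point is finite over the strict henselization of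
the base, with finite purely inseparable residue field extension. -/
theorem finite_shens_of_quasiFiniteAt
    [hR : Hensel.IsStrictHenselization (Localization.AtPrime p) Rh]
    [hS : Hensel.IsStrictHenselization (Localization.AtPrime q) Sh] :
    Module.Finite Rh Sh ∧ Module.Finite (ResidueField Rh) (ResidueField Sh) ∧
      IsPurelyInseparable (ResidueField Rh) (ResidueField Sh) := by
  haveI : HenselianLocalRing Rh := hR.henselian
  haveI : IsSepClosed (ResidueField Rh) := hR.isSepClosure.sep_closed
  obtain ⟨hfin, hhens⟩ := finite_localization_tensorPrime R S q Rh Sh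
  haveI := isLocalHom_algebraMap_localization_tensorPrime R S Rh Sh
  haveI : Module.Finite (ResidueField Rh)
      (ResidueField (Localization.AtPrime (tensorPrime R S Rh Sh))) := inferInstance
  haveI : Algebra.IsAlgebraic (ResidueField Rh)
      (ResidueField (Localization.AtPrime (tensorPrime R S Rh Sh))) :=
    Algebra.IsAlgebraic.of_finite _ _
  haveI : IsSepClosed (ResidueField (Localization.AtPrime (tensorPrime R S Rh Sh))) :=
    Algebra.IsAlgebraic.isSepClosed (F := ResidueField Rh)
  haveI : IsLocalHom (algebraMap (Localization.AtPrime (tensorPrime R S Rh Sh))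
      (Localization.AtPrime (tensorPrime R S Rh Sh))) := ⟨fun a ha => ha⟩
  have halg : (IsLocalRing.ResidueField.instAlgebra
      (R := Localization.AtPrime (tensorPrime R S Rh Sh))
      (S := Localization.AtPrime (tensorPrime R S Rh Sh))) = Algebra.id _ :=
    Algebra.algebra_ext _ _ (fun x => by
      obtain ⟨x, rfl⟩ := residue_surjective x
      rfl)
  have hsep : @Algebra.IsSeparable (ResidueField (Localization.AtPrime (tensorPrime R S Rh Sh)))
      (ResidueField (Localization.AtPrime (tensorPrime R S Rh Sh))) _ _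
      (IsLocalRing.ResidueField.instAlgebra
        (R := Localization.AtPrime (tensorPrime R S Rh Sh))
        (S := Localization.AtPrime (tensorPrime R S Rh Sh))) := by
    rw [halg]
    infer_instance
  haveI : Hensel.IsStrictHenselization (Localization.AtPrime (tensorPrime R S Rh Sh))
      (Localization.AtPrime (tensorPrime R S Rh Sh)) :=
    ⟨hhens, @IsSepClosure.mk _ _ _ _ (IsLocalRing.ResidueField.instAlgebra
        (R := Localization.AtPrime (tensorPrime R S Rh Sh))
        (S := Localization.AtPrime (tensorPrime R S Rh Sh))) inferInstance hsep,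
      fun T _ _ f _ τ hτ =>
      ⟨f, ⟨RingHom.comp_id f, fun x => (DFunLike.congr_fun hτ (residue _ x)).symm⟩,
        fun g hg => by rw [← hg.1]; rfl⟩⟩
  obtain ⟨e, he⟩ := exists_ringEquiv_tensor_strict R S p q Rh Sh
    (Localization.AtPrime (tensorPrime R S Rh Sh))
  haveI hfinSh : Module.Finite Rh Sh := finite_of_ringEquiv_tensor R S Rh Sh hfin e he
  haveI : Module.Finite (ResidueField Rh) (ResidueField Sh) := inferInstance
  haveI : Algebra.IsAlgebraic (ResidueField Rh) (ResidueField Sh) :=
    Algebra.IsAlgebraic.of_finite _ _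
  exact ⟨hfinSh, inferInstance, inferInstance⟩

end

end Groth.Agent.Lib.Helper8.Hzl
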