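import Mathlib
import Groth.Agent.Lib.Helper8.EtaleReduced
import Groth.Agent.Lib.Helper8.Hzl.Transfer

/-!
# Reducedness of (strict) henselizations
-/

open IsLocalRing TensorProduct Polynomial

universe u

namespace Groth.Agent.Lib.Helper8.Hzl

variable {R : Type u} [CommRing R] {Ω : Type u} [Field Ω] [Algebra R Ω]

instance [IsReduced R] (i : Idx R Ω) : IsReduced i.E := isReduced_standardEtalePair i.P

instance [IsReduced R] (i : Idx R Ω) : IsReduced i.B :=
  inferInstanceAs (IsReduced (Localization i.q.primeCompl))

instance [IsReduced R] : IsReduced (Hz R Ω) := by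
  refine ⟨fun x hx => ?_⟩
  obtain ⟨N, hN⟩ := hx
  obtain ⟨i, b, rfl⟩ := exists_ofHom x
  rw [← map_pow] at hN
  obtain ⟨j, hij, hj⟩ := Ring.DirectLimit.of.zero_exact hN
  rw [trR_apply, map_pow] at hj
  have h1 : Idx.tr i j hij b = 0 := IsNilpotent.eq_zero ⟨N, hj⟩
  rw [← ofHom_tr i j hij, h1, map_zero]

section

variable (R : Type u) [CommRing R] [IsLocalRing R]
  (S : Type u) [CommRing S] [IsLocalRing S] [Algebra R S] [IsLocalHom (algebraMap R S)]

theorem henselization_isReduced_iff [Hensel.IsHenselization R S] :
    IsReduced R ↔ IsReduced S := by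
  obtain ⟨e⟩ := nonempty_algEquiv_hens R S
  constructor
  · intro h
    exact isReduced_of_injective e.toAlgHom e.injective
  · intro h
    have := henselization_faithfullyFlat R S
    exact isReduced_of_injective (algebraMap R S) (FaithfulSMul.algebraMap_injective R S)

theorem strictHenselization_isReduced_iff [Hensel.IsStrictHenselization R S] :
    IsReduced R ↔ IsReduced S := by
  obtain ⟨e⟩ := nonempty_algEquiv_shens R S
  constructor
  · intro h
    exact isReduced_of_injective e.toAlgHom e.injective
  · intro h
    have := strictHenselization_faithfullyFlat R S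
    exact isReduced_of_injective (algebraMap R S) (FaithfulSMul.algebraMap_injective R S)

end

end Groth.Agent.Lib.Helper8.Hzl
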