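import Mathlib
import Groth.Agent.Lib.Helper8.FlatEtale
import Groth.Agent.Lib.Helper8.Hzl.IndEtaleLike

/-!
# Modules over an ind-étale-like algebra: flatness over the base implies flatness
-/

set_option autoImplicit false
universe u
open IsLocalRing TensorProduct

namespace Groth.Agent.Lib.Helper8.Hzl

variable {R S : Type u} [CommRing R] [CommRing S] [Algebra R S]

/-- Finitely many elements come from a common étale algebra, with a common denominator. -/
theorem IndEtaleLike.exists_finite (h : IndEtaleLike R S) : ∀ {l : ℕ} (x : Fin l → S),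
    ∃ (E : Type u) (_ : CommRing E) (_ : Algebra R E) (_ : Algebra.Etale R E)
      (ι : E →ₐ[R] S) (e : Fin l → E) (t : E), IsUnit (ι t) ∧ ∀ k, x k * ι t = ι (e k) := by
  intro l
  induction l with
  | zero =>
    intro x
    exact ⟨R, inferInstance, inferInstance, inferInstance, Algebra.ofId R S, Fin.elim0, 1,
      by simp, fun k => Fin.elim0 k⟩
  | succ l ih =>
    intro x
    obtain ⟨E, _, _, _, ι, e, t, ht, he⟩ := ih (fun k => x k.succ)
    obtain ⟨E', _, _, _, ι', e', t', ht', he'⟩ := h (x 0)
    have : Algebra.Etale R (E ⊗[R] E') := Algebra.Etale.comp R E _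
    refine ⟨E ⊗[R] E', inferInstance, inferInstance, inferInstance,
      Algebra.TensorProduct.lift ι ι' (fun _ _ => Commute.all _ _),
      Fin.cons (t ⊗ₜ e') (fun k => e k ⊗ₜ t'), t ⊗ₜ t', ?_, ?_⟩
    · rw [Algebra.TensorProduct.lift_tmul]
      exact ht.mul ht'
    · intro k
      rw [Algebra.TensorProduct.lift_tmul]
      refine Fin.cases ?_ (fun k => ?_) k
      · rw [Fin.cons_zero, Algebra.TensorProduct.lift_tmul, ← he']
        ring
      · rw [Fin.cons_succ, Algebra.TensorProduct.lift_tmul, ← he k]
        ring

/-- A module over an ind-étale-like algebra which is flat over the base is flat over the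
algebra. -/
theorem IndEtaleLike.flat_of_flat (h : IndEtaleLike R S) (M : Type u) [AddCommGroup M]
    [Module R M] [Module S M] [IsScalarTower R S M] [Module.Flat R M] : Module.Flat S M := by
  apply Module.Flat.of_forall_isTrivialRelation
  intro l f x hfx
  obtain ⟨E, _, _, _, ι, e, t, ht, he⟩ := h.exists_finite f
  letI : Module E M := Module.compHom M ι.toRingHom
  have hsm : ∀ (c : E) (m : M), c • m = ι c • m := fun c m => rfl
  have : IsScalarTower R E M := ⟨fun r c m => by
    rw [hsm, hsm, map_smul, smul_assoc]⟩
  have : Module.Flat E M := flat_of_flat_of_unramified R E M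
  have hrel : ∑ i, e i • x i = 0 := by
    have h1 : ∑ i, e i • x i = ι t • ∑ i, f i • x i := by
      rw [Finset.smul_sum]
      refine Finset.sum_congr rfl fun i _ => ?_
      rw [hsm, ← he, mul_comm, mul_smul]
    rw [h1, hfx, smul_zero]
  obtain ⟨κ, a, y, hy, ha⟩ :=
    Module.Flat.isTrivialRelation_of_sum_smul_eq_zero (R := E) (M := M) hrel
  refine ⟨κ, fun i j => ι (a i j), y, fun i => ?_, fun j => ?_⟩
  · rw [hy i]
    exact Finset.sum_congr rfl fun j _ => hsm _ _
  · have h2 : ι t * ∑ i, f i * ι (a i j) = 0 := by
      rw [Finset.mul_sum]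
      have h3 := congrArg ι (ha j)
      rw [map_sum, map_zero] at h3
      rw [← h3]
      refine Finset.sum_congr rfl fun i _ => ?_
      rw [map_mul, ← he]
      ring
    exact (ht.mul_right_eq_zero).mp h2

end Groth.Agent.Lib.Helper8.Hzl
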