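import Mathlib
import Groth.Prelude
import Groth.Agent.S0505
import Groth.Agent.Lib.Helper3.HenselColimit
import Groth.Agent.Lib.Helper8.Hzl.Transfer

/-!
# Integral local algebras over henselian local rings; henselization of an integral local algebra
-/

set_option autoImplicit false

open IsLocalRing TensorProduct

universe u

namespace Groth.Agent.Lib.Helper8.Hzl

/-- A local ring integral over a henselian local ring is henselian. -/
theorem henselianLocalRing_of_isIntegral (S T : Type u) [CommRing S] [HenselianLocalRing S]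
    [CommRing T] [IsLocalRing T] [Algebra S T] [Algebra.IsIntegral S T] :
    HenselianLocalRing T := by
  classical
  let Rj : Finset T → Subalgebra S T := fun j => Algebra.adjoin S (j : Set T)
  have hint : ∀ j, Algebra.IsIntegral (Rj j) T := fun j =>
    Algebra.IsIntegral.tower_top (R := S)
  have hlh : ∀ j, IsLocalHom (algebraMap (Rj j) T) := fun j => inferInstance
  have hloc : ∀ j, IsLocalRing (Rj j) := fun j => (algebraMap (Rj j) T).domain_isLocalRing
  have hfin : ∀ j, Module.Finite S (Rj j) := fun j =>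
    Algebra.finite_adjoin_of_finite_of_isIntegral j.finite_toSet
      (fun x _ => Algebra.IsIntegral.isIntegral x)
  have hhens : ∀ j, HenselianLocalRing (Rj j) := fun j => Groth.Agent.S0505.result S (Rj j)
  refine Groth.Agent.Lib.Helper3.henselianLocalRing_of_directed (fun j => Rj j)
    (fun j => (Rj j).val.toRingHom) ?_ ?_ ?_
  · intro x
    exact ⟨{x}, ⟨x, Algebra.subset_adjoin (by simp)⟩, rfl⟩
  · intro j₁ j₂
    have h1 : Rj j₁ ≤ Rj (j₁ ∪ j₂) := Algebra.adjoin_mono (by simp)
    have h2 : Rj j₂ ≤ Rj (j₁ ∪ j₂) := Algebra.adjoin_mono (by simp)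
    refine ⟨j₁ ∪ j₂, (Subalgebra.inclusion h1).toRingHom, (Subalgebra.inclusion h2).toRingHom,
      ?_, ?_, rfl, rfl⟩
    · have : IsLocalHom (((Rj (j₁ ∪ j₂)).val.toRingHom).comp
          (Subalgebra.inclusion h1).toRingHom) := hlh j₁
      exact isLocalHom_of_comp _ ((Rj (j₁ ∪ j₂)).val.toRingHom)
    · have : IsLocalHom (((Rj (j₁ ∪ j₂)).val.toRingHom).comp
          (Subalgebra.inclusion h2).toRingHom) := hlh j₂
      exact isLocalHom_of_comp _ ((Rj (j₁ ∪ j₂)).val.toRingHom)
  · intro j y hy
    refine ⟨j, RingHom.id _, isLocalHom_id _, rfl, ?_⟩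
    exact Subtype.ext hy

section tensor

attribute [local instance] Algebra.TensorProduct.rightAlgebra

variable (A B S : Type u) [CommRing A] [IsLocalRing A]
  [CommRing B] [IsLocalRing B] [Algebra A B] [IsLocalHom (algebraMap A B)] [Algebra.IsIntegral A B]
  [CommRing S] [IsLocalRing S] [Algebra A S] [IsLocalHom (algebraMap A S)]

instance isIntegral_right : Algebra.IsIntegral S (B ⊗[A] S) where
  isIntegral p := p.induction_on isIntegral_zero (fun b s => by
    have h1 : IsIntegral S (b ⊗ₜ[A] (1 : S)) :=
      (Algebra.IsIntegral.isIntegral (R := A) b).map_of_comp_eq (algebraMap A S)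
        (Algebra.TensorProduct.includeLeftRingHom (R := A) (A := B) (B := S))
        (by
          ext a
          change (1 : B) ⊗ₜ[A] algebraMap A S a = algebraMap A B a ⊗ₜ[A] (1 : S)
          rw [Algebra.algebraMap_eq_smul_one, Algebra.algebraMap_eq_smul_one,
            TensorProduct.smul_tmul])
    have h2 : b ⊗ₜ[A] s = s • (b ⊗ₜ[A] (1 : S)) := by
      rw [Algebra.smul_def, Algebra.TensorProduct.right_algebraMap_apply]
      simp
    rw [h2]
    exact h1.smul s) (fun _ _ => IsIntegral.add)

variable [hS : Hensel.IsHenselization A S]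

include hS in
theorem exists_sub_tmul_mem (t : B ⊗[A] S) :
    ∃ b : B, t - b ⊗ₜ[A] (1 : S) ∈ (maximalIdeal S).map (algebraMap S (B ⊗[A] S)) := by
  induction t using TensorProduct.induction_on with
  | zero => exact ⟨0, by simp⟩
  | tmul b s =>
    obtain ⟨y, hy⟩ := (henselization_residue_bijective A S).2 (residue S s)
    obtain ⟨a, rfl⟩ := residue_surjective y
    rw [ResidueField.map_residue] at hy
    have hm : s - algebraMap A S a ∈ maximalIdeal S := by
      rw [← Ideal.Quotient.eq_zero_iff_mem]
      change residue S (s - algebraMap A S a) = 0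
      rw [map_sub, hy, sub_self]
    refine ⟨a • b, ?_⟩
    have : b ⊗ₜ[A] s - (a • b) ⊗ₜ[A] (1 : S) =
        (b ⊗ₜ[A] (1 : S)) * algebraMap S (B ⊗[A] S) (s - algebraMap A S a) := by
      rw [Algebra.TensorProduct.right_algebraMap_apply, Algebra.TensorProduct.tmul_mul_tmul, mul_one,
        one_mul, TensorProduct.tmul_sub, TensorProduct.smul_tmul, Algebra.algebraMap_eq_smul_one]
    rw [this]
    exact Ideal.mul_mem_left _ _ (Ideal.mem_map_of_mem _ hm)
  | add x y hx hy =>
    obtain ⟨b₁, h₁⟩ := hx
    obtain ⟨b₂, h₂⟩ := hy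
    refine ⟨b₁ + b₂, ?_⟩
    have : x + y - (b₁ + b₂) ⊗ₜ[A] (1 : S) = (x - b₁ ⊗ₜ[A] (1 : S)) + (y - b₂ ⊗ₜ[A] (1 : S)) := by
      rw [TensorProduct.add_tmul]; ring
    rw [this]
    exact add_mem h₁ h₂

include hS in
theorem comap_left_eq_of_isMaximal (M : Ideal (B ⊗[A] S)) [hM : M.IsMaximal] :
    M.comap (algebraMap B (B ⊗[A] S)) = maximalIdeal B := by
  have h1 : (M.comap (algebraMap S (B ⊗[A] S))).IsMaximal :=
    Ideal.isMaximal_comap_of_isIntegral_of_isMaximal M
  have h2 : M.comap (algebraMap S (B ⊗[A] S)) = maximalIdeal S := eq_maximalIdeal h1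
  have h3 : (M.comap (algebraMap B (B ⊗[A] S))).comap (algebraMap A B) = maximalIdeal A := by
    rw [Ideal.comap_comap, ← IsScalarTower.algebraMap_eq,
      IsScalarTower.algebraMap_eq A S (B ⊗[A] S), ← Ideal.comap_comap, h2]
    exact IsLocalRing.maximalIdeal_comap (algebraMap A S)
  have h4 : ((M.comap (algebraMap B (B ⊗[A] S))).comap (algebraMap A B)).IsMaximal := by
    rw [h3]; infer_instance
  exact eq_maximalIdeal (Ideal.isMaximal_of_isIntegral_of_isMaximal_comap _ h4)

include hS in
theorem mem_iff_of_isMaximal (M : Ideal (B ⊗[A] S)) [hM : M.IsMaximal] (t : B ⊗[A] S) (b : B)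
    (hb : t - b ⊗ₜ[A] (1 : S) ∈ (maximalIdeal S).map (algebraMap S (B ⊗[A] S))) :
    t ∈ M ↔ b ∈ maximalIdeal B := by
  have h1 : (M.comap (algebraMap S (B ⊗[A] S))).IsMaximal :=
    Ideal.isMaximal_comap_of_isIntegral_of_isMaximal M
  have h2 : M.comap (algebraMap S (B ⊗[A] S)) = maximalIdeal S := eq_maximalIdeal h1
  have h3 : (maximalIdeal S).map (algebraMap S (B ⊗[A] S)) ≤ M := by
    rw [Ideal.map_le_iff_le_comap, h2]
  have h4 : t - b ⊗ₜ[A] (1 : S) ∈ M := h3 hb
  rw [← comap_left_eq_of_isMaximal A B S M, Ideal.mem_comap,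
    Algebra.TensorProduct.algebraMap_apply]
  simp only [Algebra.algebraMap_self, RingHom.id_apply]
  constructor
  · intro ht
    have := M.sub_mem ht h4
    rwa [sub_sub_cancel] at this
  · intro hb'
    have := M.add_mem h4 hb'
    rwa [sub_add_cancel] at this

include hS in
theorem isLocalRing_tensor : IsLocalRing (B ⊗[A] S) := by
  haveI := henselization_faithfullyFlat A S
  haveI : Nontrivial (B ⊗[A] S) := Module.FaithfullyFlat.rTensor_nontrivial A S B
  obtain ⟨M, hM⟩ := Ideal.exists_maximal (B ⊗[A] S)
  refine IsLocalRing.of_unique_max_ideal ⟨M, hM, fun M' hM' => ?_⟩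
  ext t
  obtain ⟨b, hb⟩ := exists_sub_tmul_mem A B S t
  rw [mem_iff_of_isMaximal A B S M' t b hb, mem_iff_of_isMaximal A B S M t b hb]

include hS in
theorem isLocalHom_algebraMap_tensor : IsLocalHom (algebraMap B (B ⊗[A] S)) := by
  haveI := isLocalRing_tensor A B S
  refine ⟨fun b hb => ?_⟩
  by_contra hnu
  have hbm : b ∈ maximalIdeal B := (mem_maximalIdeal b).mpr hnu
  rw [← comap_left_eq_of_isMaximal A B S (maximalIdeal (B ⊗[A] S)), Ideal.mem_comap] at hbm
  exact ((mem_maximalIdeal _).mp hbm) hb

include hS in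
theorem isHenselization_tensor [IsLocalRing (B ⊗[A] S)] [IsLocalHom (algebraMap B (B ⊗[A] S))] :
    Hensel.IsHenselization B (B ⊗[A] S) where
  henselian := by
    haveI := hS.henselian
    exact henselianLocalRing_of_isIntegral S (B ⊗[A] S)
  universal T _ _ g hg := by
    have hloc : IsLocalHom (g.comp (algebraMap A B)) := by
      have := hg
      exact RingHom.isLocalHom_comp _ _
    obtain ⟨h₀, hh₀, hu⟩ := hS.universal T (g.comp (algebraMap A B)) hloc
    letI : Algebra A T := (g.comp (algebraMap A B)).toAlgebra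
    let gA : B →ₐ[A] T := { g with commutes' := fun a => rfl }
    let hA : S →ₐ[A] T := { h₀ with commutes' := fun a => congr($hh₀ a) }
    let h : B ⊗[A] S →ₐ[A] T := Algebra.TensorProduct.lift gA hA (fun _ _ => Commute.all _ _)
    refine ⟨h.toRingHom, ?_, fun h' hh' => ?_⟩
    · ext b
      change h (algebraMap B (B ⊗[A] S) b) = g b
      rw [Algebra.TensorProduct.algebraMap_apply]
      simp only [Algebra.algebraMap_self, RingHom.id_apply, h, Algebra.TensorProduct.lift_tmul,
        map_one, mul_one]
      rfl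
    · have hS' : h'.comp (algebraMap S (B ⊗[A] S)) = h₀ := by
        apply hu
        rw [RingHom.comp_assoc, ← IsScalarTower.algebraMap_eq,
          IsScalarTower.algebraMap_eq A B (B ⊗[A] S), ← RingHom.comp_assoc, hh']
      refine RingHom.ext fun t => ?_
      induction t using TensorProduct.induction_on with
      | zero => simp
      | tmul b s =>
        have e1 : b ⊗ₜ[A] s = algebraMap B (B ⊗[A] S) b * algebraMap S (B ⊗[A] S) s := by
          rw [Algebra.TensorProduct.algebraMap_apply, Algebra.TensorProduct.right_algebraMap_apply]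
          simp
        rw [e1, map_mul, map_mul]
        have e2 : h' (algebraMap B (B ⊗[A] S) b) = g b := congr($hh' b)
        have e3 : h' (algebraMap S (B ⊗[A] S) s) = h₀ s := congr($hS' s)
        have e4 : h.toRingHom (algebraMap B (B ⊗[A] S) b) = g b := by
          change h (algebraMap B (B ⊗[A] S) b) = g b
          rw [Algebra.TensorProduct.algebraMap_apply]
          simp only [Algebra.algebraMap_self, RingHom.id_apply, h,
            Algebra.TensorProduct.lift_tmul, map_one, mul_one]
          rfl
        have e5 : h.toRingHom (algebraMap S (B ⊗[A] S) s) = h₀ s := by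
          change h (algebraMap S (B ⊗[A] S) s) = h₀ s
          rw [Algebra.TensorProduct.right_algebraMap_apply]
          simp only [h, Algebra.TensorProduct.lift_tmul, map_one, one_mul]
          rfl
        rw [e2, e3, e4, e5]
      | add x y hx hy => rw [map_add, map_add, hx, hy]

end tensor

end Groth.Agent.Lib.Helper8.Hzl
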