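import Mathlib
import Groth.Agent.Lib.Helper8.Hzl.Colimit

/-!
# The filtered category of pointed standard étale algebras
-/

set_option autoImplicit false

open IsLocalRing TensorProduct CategoryTheory

universe u

namespace Groth.Agent.Lib.Helper8.Hzl

variable {R : Type u} [CommRing R] {Ω : Type u} [Field Ω] [Algebra R Ω]

/-- Every étale algebra with an `Ω`-point maps, compatibly with the points, to a pointed standard
étale algebra (a principal localization of it). -/
theorem exists_dominating' (E : Type u) [CommRing E] [Algebra R E] [Algebra.Etale R E]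
    (χ : E →ₐ[R] Ω) : ∃ (k : Idx R Ω) (φ : E →ₐ[R] k.E), ∀ e, k.χ (φ e) = χ e := by
  let Q : Ideal E := RingHom.ker χ.toRingHom
  have hQ : Q.IsPrime := RingHom.ker_isPrime _
  obtain ⟨f, hfQ, hf⟩ := Algebra.IsEtaleAt.exists_isStandardEtale (R := R) Q
  have hχf : IsUnit (χ f) := IsUnit.mk0 _ (fun h => hfQ (RingHom.mem_ker.mpr h))
  let χf : Localization.Away f →ₐ[R] Ω := IsLocalization.Away.liftAlgHom f (f := χ) hχf
  have hχf' : ∀ e, χf (algebraMap E _ e) = χ e := fun e => by
    simp [χf, IsLocalization.Away.lift_eq]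
  obtain ⟨pr⟩ := hf.nonempty_standardEtalePresentation
  let k : Idx R Ω := ⟨pr.P, χf pr.x, pr.hasMap.map χf⟩
  have hk : k.χ = χf.comp pr.equivRing.symm.toAlgHom := by
    apply StandardEtalePair.hom_ext
    simp [Idx.χ, k]
  refine ⟨k, pr.equivRing.toAlgHom.comp (IsScalarTower.toAlgHom R E (Localization.Away f)),
    fun e => ?_⟩
  simp only [AlgHom.comp_apply, IsScalarTower.coe_toAlgHom', hk]
  simp [hχf']

variable (R Ω) in
/-- The category of pointed standard étale algebras (a wrapper around `Idx`, which carries a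
preorder). -/
structure Nbhd where
  /-- the underlying pointed standard étale pair -/
  idx : Idx R Ω

namespace Nbhd

/-- Morphisms: algebra maps compatible with the points. -/
structure Hom (i j : Nbhd R Ω) : Type u where
  /-- the underlying algebra map -/
  toAlgHom : i.idx.E →ₐ[R] j.idx.E
  /-- compatibility with the points -/
  comm : ∀ e, j.idx.χ (toAlgHom e) = i.idx.χ e

lemma Hom.ext' {i j : Nbhd R Ω} (f g : Hom i j) (h : f.toAlgHom = g.toAlgHom) : f = g := by
  cases f; cases g; cases h; rfl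

/-- identity -/
noncomputable def Hom.id (i : Nbhd R Ω) : Hom i i := ⟨AlgHom.id R _, fun _ => rfl⟩

/-- composition -/
noncomputable def Hom.comp {i j k : Nbhd R Ω} (f : Hom i j) (g : Hom j k) : Hom i k :=
  ⟨g.toAlgHom.comp f.toAlgHom, fun e => by rw [AlgHom.comp_apply, g.comm, f.comm]⟩

lemma Hom.id_comp {i j : Nbhd R Ω} (f : Hom i j) : (Hom.id i).comp f = f :=
  Hom.ext' _ _ (AlgHom.comp_id _)

lemma Hom.comp_id {i j : Nbhd R Ω} (f : Hom i j) : f.comp (Hom.id j) = f :=
  Hom.ext' _ _ (AlgHom.id_comp _)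

lemma Hom.assoc {i j k l : Nbhd R Ω} (f : Hom i j) (g : Hom j k) (h : Hom k l) :
    (f.comp g).comp h = f.comp (g.comp h) :=
  Hom.ext' _ _ (AlgHom.comp_assoc _ _ _).symm

noncomputable instance : SmallCategory (Nbhd R Ω) where
  Hom := Hom
  id := Hom.id
  comp := Hom.comp
  id_comp := Hom.id_comp
  comp_id := Hom.comp_id
  assoc := Hom.assoc

lemma hom_ext {i j : Nbhd R Ω} (f g : i ⟶ j) (h : f.toAlgHom = g.toAlgHom) : f = g :=
  Hom.ext' f g h

lemma comp_val {i j k : Nbhd R Ω} (f : i ⟶ j) (g : j ⟶ k) :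
    (f ≫ g).toAlgHom = g.toAlgHom.comp f.toAlgHom := rfl

lemma id_val (i : Nbhd R Ω) : (𝟙 i : i ⟶ i).toAlgHom = AlgHom.id R _ := rfl

instance : Nonempty (Nbhd R Ω) := ⟨⟨Classical.arbitrary _⟩⟩

/-- Localizing at an element not vanishing at the point, and dominating by a standard étale
algebra. -/
lemma exists_hom_away (j : Nbhd R Ω) (s : j.idx.E) (hs : j.idx.χ s ≠ 0) :
    ∃ (k : Nbhd R Ω) (m : j ⟶ k), ∀ y : j.idx.E, s * y = 0 → m.toAlgHom y = 0 := by
  have hu : IsUnit (j.idx.χ s) := IsUnit.mk0 _ hs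
  let χs : Localization.Away s →ₐ[R] Ω := IsLocalization.Away.liftAlgHom s (f := j.idx.χ) hu
  have hχs : ∀ e, χs (algebraMap j.idx.E _ e) = j.idx.χ e := fun e => by
    simp [χs, IsLocalization.Away.lift_eq]
  have : Algebra.Etale R (Localization.Away s) := Algebra.Etale.comp R j.idx.E _
  obtain ⟨k, φ, hφ⟩ := exists_dominating' (Localization.Away s) χs
  refine ⟨⟨k⟩, ⟨φ.comp (IsScalarTower.toAlgHom R j.idx.E (Localization.Away s)), fun e => ?_⟩,
    fun y hy => ?_⟩
  · simp only [AlgHom.comp_apply, IsScalarTower.coe_toAlgHom', hφ, hχs]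
  · change φ (algebraMap j.idx.E (Localization.Away s) y) = 0
    have h1 : algebraMap j.idx.E (Localization.Away s) y = 0 := by
      have h2 := congrArg (algebraMap j.idx.E (Localization.Away s)) hy
      rw [map_mul, map_zero] at h2
      exact ((IsLocalization.Away.algebraMap_isUnit (S := Localization.Away s) s).mul_right_eq_zero).mp h2
    rw [h1, map_zero]

instance : IsFilteredOrEmpty (Nbhd R Ω) where
  cocone_objs i j := by
    have : Algebra.Etale R (i.idx.E ⊗[R] j.idx.E) := Algebra.Etale.comp R i.idx.E _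
    let χij : i.idx.E ⊗[R] j.idx.E →ₐ[R] Ω :=
      Algebra.TensorProduct.lift i.idx.χ j.idx.χ (fun _ _ => Commute.all _ _)
    obtain ⟨k, φ, hφ⟩ := exists_dominating' (i.idx.E ⊗[R] j.idx.E) χij
    exact ⟨⟨k⟩, ⟨φ.comp Algebra.TensorProduct.includeLeft, fun e => by simp [hφ, χij]⟩,
      ⟨φ.comp Algebra.TensorProduct.includeRight, fun e => by simp [hφ, χij]⟩, trivial⟩
  cocone_maps i j f g := by
    classical
    -- the two maps agree in the local ring
    let c : j.idx.E →ₐ[R] j.idx.B := IsScalarTower.toAlgHom R j.idx.E j.idx.B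
    have hc : c.comp f.toAlgHom = c.comp g.toAlgHom := by
      apply Idx.algHom_ext_χ
      intro e
      simp only [AlgHom.comp_apply, c, IsScalarTower.coe_toAlgHom', Idx.χB_algebraMap, f.comm, g.comm]
    obtain ⟨G, hG⟩ := (Algebra.FiniteType.out : (⊤ : Subalgebra R i.idx.E).FG)
    have hex : ∀ x : i.idx.E, ∃ s : j.idx.q.primeCompl, (s : j.idx.E) * (f.toAlgHom x - g.toAlgHom x) = 0 := by
      intro x
      have h1 : algebraMap j.idx.E j.idx.B (f.toAlgHom x - g.toAlgHom x) = 0 := by
        rw [map_sub, sub_eq_zero]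
        exact DFunLike.congr_fun hc x
      obtain ⟨s, hs⟩ := (IsLocalization.map_eq_zero_iff j.idx.q.primeCompl j.idx.B _).mp h1
      exact ⟨s, hs⟩
    choose σ hσ using hex
    let s : j.idx.q.primeCompl := ∏ x ∈ G, σ x
    have hs : ∀ x ∈ G, (s : j.idx.E) * (f.toAlgHom x - g.toAlgHom x) = 0 := by
      intro x hx
      have h1 : (s : j.idx.E) = (∏ y ∈ G.erase x, (σ y : j.idx.E)) * σ x := by
        simp only [s, Submonoid.coe_finsetProd]
        rw [Finset.prod_erase_mul _ _ hx]
      rw [h1, mul_assoc, hσ, mul_zero]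
    have hsχ : j.idx.χ (s : j.idx.E) ≠ 0 := fun h => s.2 (j.idx.mem_q.mpr h)
    obtain ⟨k, m, hm⟩ := exists_hom_away j (s : j.idx.E) hsχ
    refine ⟨k, m, ?_⟩
    apply hom_ext
    rw [comp_val, comp_val]
    apply AlgHom.ext_of_adjoin_eq_top hG
    intro x hx
    have h2 := hm _ (hs x hx)
    rw [map_sub, sub_eq_zero] at h2
    exact h2

instance : IsFiltered (Nbhd R Ω) where

end Nbhd

end Groth.Agent.Lib.Helper8.Hzl
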