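import Mathlib
import Groth.Prelude
import Groth.Agent.Lib.Helper8.Hzl.Nbhd
import Groth.Agent.Lib.Helper8.Hzl.Flat
import Groth.Agent.Lib.Helper8.Hzl.IndEtaleFlat

/-!
# The colimit `Hz R Ω` is ind-étale over `R` in the categorical sense
-/

set_option autoImplicit false

open IsLocalRing TensorProduct CategoryTheory Limits

universe u

namespace Groth.Agent.Lib.Helper8.Hzl

/-- A cocone over a filtered diagram of rings under `R` is a colimit as soon as it is one on
underlying sets. -/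
noncomputable def isColimitOfConcrete {R : CommRingCat.{u}} {J : Type u} [SmallCategory J]
    [IsFiltered J] (D : J ⥤ Under R) (c : Cocone D)
    (hsurj : ∀ x : c.pt.right, ∃ (j : J) (y : (D.obj j).right), x = (c.ι.app j).right y)
    (hinj : ∀ (i j : J) (x : (D.obj i).right) (y : (D.obj j).right),
      (c.ι.app i).right x = (c.ι.app j).right y →
        ∃ (k : J) (f : i ⟶ k) (g : j ⟶ k), (D.map f).right x = (D.map g).right y) :
    IsColimit c := by
  have : ReflectsColimit D (Under.forget R ⋙ forget CommRingCat) :=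
    reflectsColimit_of_reflectsIsomorphisms _ _
  apply isColimitOfReflects (Under.forget R ⋙ forget CommRingCat)
  exact Types.FilteredColimit.isColimitOf _ _ hsurj hinj

variable {R : Type u} [CommRing R] {Ω : Type u} [Field Ω] [Algebra R Ω]

/-- The local rings `B_i` are ind-étale-like over `R`. -/
theorem Idx.indEtaleLike_B (i : Idx R Ω) : IndEtaleLike R i.B := by
  intro b
  obtain ⟨e, t, rfl⟩ := IsLocalization.exists_mk'_eq i.q.primeCompl b
  refine ⟨i.E, inferInstance, inferInstance, inferInstance,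
    IsScalarTower.toAlgHom R i.E i.B, e, t, ?_, ?_⟩
  · exact IsLocalization.map_units i.B t
  · simp only [IsScalarTower.coe_toAlgHom']
    rw [IsLocalization.mk'_spec]

/-- The structure maps of the colimit are injective. -/
theorem ofHom_injective (i : Idx R Ω) : Function.Injective (ofHom R Ω i) := by
  letI : Algebra i.B (Hz R Ω) := (ofHom R Ω i).toAlgebra
  have hsm : ∀ (b : i.B) (x : Hz R Ω), b • x = ofHom R Ω i b * x := fun b x => rfl
  have : IsScalarTower R i.B (Hz R Ω) := IsScalarTower.of_algebraMap_eq (fun r => algebraMap_eq i r)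
  have : Module.Flat i.B (Hz R Ω) := i.indEtaleLike_B.flat_of_flat (Hz R Ω)
  have : IsLocalHom (algebraMap i.B (Hz R Ω)) := ⟨fun b hb => by
    rw [i.isUnit_iff]
    have := (isUnit_iff _).mp hb
    rwa [show algebraMap i.B (Hz R Ω) b = ofHom R Ω i b from rfl, χS_ofHom] at this⟩
  have : Module.FaithfullyFlat i.B (Hz R Ω) := Module.FaithfullyFlat.of_flat_of_isLocalHom
  exact FaithfulSMul.algebraMap_injective i.B (Hz R Ω)

namespace Nbhd

/-- The canonical map from the étale algebra to the colimit. -/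
noncomputable def toHz (i : Nbhd R Ω) : i.idx.E →ₐ[R] Hz R Ω :=
  (ofAlg i.idx).comp (IsScalarTower.toAlgHom R i.idx.E i.idx.B)

lemma toHz_apply (i : Nbhd R Ω) (e : i.idx.E) :
    toHz i e = ofHom R Ω i.idx (algebraMap i.idx.E i.idx.B e) := rfl

lemma χS_toHz (i : Nbhd R Ω) (e : i.idx.E) : χS R Ω (toHz i e) = i.idx.χ e := by
  rw [toHz_apply, χS_ofHom, Idx.χB_algebraMap]

lemma toHz_comp {i k : Nbhd R Ω} (f : i ⟶ k) (e : i.idx.E) :
    toHz k (f.toAlgHom e) = toHz i e := by
  obtain ⟨h, hh⟩ := Idx.exists_le_of_algHom i.idx k.idx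
    ((IsScalarTower.toAlgHom R k.idx.E k.idx.B).comp f.toAlgHom)
    (fun e => by
      simp only [AlgHom.comp_apply, IsScalarTower.coe_toAlgHom', Idx.χB_algebraMap, f.comm])
  rw [toHz_apply, toHz_apply, ← ofHom_tr i.idx k.idx h, hh]
  rfl

lemma toHz_eq_zero {i : Nbhd R Ω} (y : i.idx.E) (hy : toHz i y = 0) :
    ∃ (k : Nbhd R Ω) (m : i ⟶ k), m.toAlgHom y = 0 := by
  have h1 : algebraMap i.idx.E i.idx.B y = 0 := by
    apply ofHom_injective i.idx
    rw [map_zero]
    exact hy
  obtain ⟨s, hs⟩ := (IsLocalization.map_eq_zero_iff i.idx.q.primeCompl i.idx.B _).mp h1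
  have hsχ : i.idx.χ (s : i.idx.E) ≠ 0 := fun h => s.2 (i.idx.mem_q.mpr h)
  obtain ⟨k, m, hm⟩ := exists_hom_away i (s : i.idx.E) hsχ
  exact ⟨k, m, hm y hs⟩

lemma toHz_inj (i j : Nbhd R Ω) (x : i.idx.E) (y : j.idx.E) (h : toHz i x = toHz j y) :
    ∃ (k : Nbhd R Ω) (f : i ⟶ k) (g : j ⟶ k), f.toAlgHom x = g.toAlgHom y := by
  obtain ⟨k₀, f₀, g₀, -⟩ := IsFilteredOrEmpty.cocone_objs i j
  have h0 : toHz k₀ (f₀.toAlgHom x - g₀.toAlgHom y) = 0 := by
    rw [map_sub, toHz_comp, toHz_comp, h, sub_self]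
  obtain ⟨k, m, hm⟩ := toHz_eq_zero _ h0
  refine ⟨k, f₀ ≫ m, g₀ ≫ m, ?_⟩
  rw [comp_val, comp_val, AlgHom.comp_apply, AlgHom.comp_apply]
  rw [map_sub, sub_eq_zero] at hm
  exact hm

lemma toHz_surj (x : Hz R Ω) : ∃ (k : Nbhd R Ω) (z : k.idx.E), x = toHz k z := by
  obtain ⟨i, b, rfl⟩ := exists_ofHom x
  obtain ⟨e, t, rfl⟩ := IsLocalization.exists_mk'_eq i.q.primeCompl b
  have hu : IsUnit (i.χ (t : i.E)) := i.isUnit_χ t
  let χt : Localization.Away (t : i.E) →ₐ[R] Ω :=
    IsLocalization.Away.liftAlgHom (t : i.E) (f := i.χ) hu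
  have hχt : ∀ e, χt (algebraMap i.E _ e) = i.χ e := fun e => by
    simp [χt, IsLocalization.Away.lift_eq]
  have : Algebra.Etale R (Localization.Away (t : i.E)) := Algebra.Etale.comp R i.E _
  obtain ⟨k, φ, hφ⟩ := exists_dominating' (Localization.Away (t : i.E)) χt
  let m : (⟨i⟩ : Nbhd R Ω) ⟶ ⟨k⟩ :=
    ⟨φ.comp (IsScalarTower.toAlgHom R i.E (Localization.Away (t : i.E))), fun e => by
      simp only [AlgHom.comp_apply, IsScalarTower.coe_toAlgHom', hφ, hχt]⟩
  let z : k.E := φ (IsLocalization.Away.invSelf (t : i.E) * algebraMap i.E _ e)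
  refine ⟨⟨k⟩, z, ?_⟩
  have h1 : m.toAlgHom (t : i.E) * z = m.toAlgHom e := by
    change φ (algebraMap i.E _ (t : i.E)) * φ _ = φ (algebraMap i.E _ e)
    rw [← map_mul, ← mul_assoc, IsLocalization.Away.mul_invSelf, one_mul]
  have h2 : toHz (⟨i⟩ : Nbhd R Ω) (t : i.E) * toHz ⟨k⟩ z = toHz (⟨i⟩ : Nbhd R Ω) e := by
    rw [← toHz_comp m, ← toHz_comp m e, ← map_mul, h1]
  have h3 : toHz (⟨i⟩ : Nbhd R Ω) (t : i.E) * ofHom R Ω i (IsLocalization.mk' i.B e t) =
      toHz (⟨i⟩ : Nbhd R Ω) e := by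
    rw [toHz_apply, toHz_apply, ← map_mul, mul_comm, IsLocalization.mk'_spec]
  have hunit : IsUnit (toHz (⟨i⟩ : Nbhd R Ω) (t : i.E)) := by
    rw [isUnit_iff, χS_toHz]
    exact hu.ne_zero
  exact hunit.mul_left_cancel (h3.trans h2.symm)

variable (R Ω) in
/-- The diagram of étale algebras. -/
noncomputable def diagram : Nbhd R Ω ⥤ Under (CommRingCat.of R) where
  obj i := Under.mk (CommRingCat.ofHom (algebraMap R i.idx.E))
  map f := Under.homMk (CommRingCat.ofHom f.toAlgHom.toRingHom) (by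
    ext r
    exact f.toAlgHom.commutes r)
  map_id i := by
    ext x
    rfl
  map_comp f g := by
    ext x
    rfl

variable (R Ω) in
/-- The cocone with vertex the colimit. -/
noncomputable def cocone : Cocone (diagram R Ω) where
  pt := Under.mk (CommRingCat.ofHom (algebraMap R (Hz R Ω)))
  ι :=
    { app := fun i => Under.homMk (CommRingCat.ofHom (toHz i).toRingHom) (by
        ext r
        exact (toHz i).commutes r)
      naturality := fun i k f => by
        ext x
        exact toHz_comp f x }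

variable (R Ω) in
/-- The cocone is a colimit. -/
noncomputable def isColimitCocone : IsColimit (cocone R Ω) :=
  isColimitOfConcrete _ _ (fun x => toHz_surj x)
    (fun i j x y h => toHz_inj i j x y h)

end Nbhd

variable (R Ω) in
/-- The colimit is ind-étale. -/
theorem isIndEtale_Hz : EtPBC.IsIndEtale R (Hz R Ω) := by
  refine ⟨Nbhd R Ω, inferInstance, inferInstance, Nbhd.diagram R Ω, Nbhd.cocone R Ω,
    Nbhd.isColimitCocone R Ω, fun i => ?_, ⟨Iso.refl _⟩⟩
  have h : ((Nbhd.diagram R Ω).obj i).hom.hom.toAlgebra =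
      (inferInstance : Algebra R i.idx.E) := by
    apply Algebra.algebra_ext
    intro r
    rfl
  rw [h]
  exact (inferInstance : Algebra.Etale R i.idx.E)

end Groth.Agent.Lib.Helper8.Hzl

namespace Groth.Agent.Lib.Helper8.Hzl

open CategoryTheory Limits

/-- Ind-étaleness is invariant under isomorphism of algebras. -/
theorem isIndEtale_of_algEquiv {A B B' : Type u} [CommRing A] [CommRing B] [CommRing B']
    [Algebra A B] [Algebra A B'] (h : EtPBC.IsIndEtale A B) (e : B ≃ₐ[A] B') :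
    EtPBC.IsIndEtale A B' := by
  obtain ⟨J, hJ, hJf, D, c, hc, hD, ⟨i⟩⟩ := h
  refine ⟨J, hJ, hJf, D, c, hc, hD, ⟨i ≪≫ ?_⟩⟩
  refine Under.isoMk e.toRingEquiv.toCommRingCatIso ?_
  ext a
  exact e.commutes a

end Groth.Agent.Lib.Helper8.Hzl
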