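import Mathlib
import Groth.Agent.Lib.Helper8.EtaleReduced
import Groth.Agent.Lib.Helper8.Hzl.Transfer

/-!
# The nilradical of (strict) henselizations
-/

open IsLocalRing TensorProduct Polynomial

universe u

namespace Groth.Agent.Lib.Helper8.Hzl

variable {R : Type u} [CommRing R] {Ω : Type u} [Field Ω] [Algebra R Ω]

lemma Idx.nilradical_B_le (i : Idx R Ω) :
    nilradical i.B ≤ (nilradical R).map (algebraMap R i.B) := by
  intro b hb
  obtain ⟨N, hN⟩ := mem_nilradical.mp hb
  obtain ⟨e, s, rfl⟩ := IsLocalization.exists_mk'_eq i.q.primeCompl b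
  rw [← IsLocalization.mk'_pow, IsLocalization.mk'_eq_zero_iff] at hN
  obtain ⟨t, ht⟩ := hN
  have h1 : ((t : i.E) * e) ^ (N + 1) = 0 := by
    have : ((t : i.E) * e) ^ (N + 1) = (t : i.E) ^ N * e * ((t : i.E) * e ^ N) := by ring
    rw [this, ht, mul_zero]
  have h2 : (t : i.E) * e ∈ (nilradical R).map (algebraMap R i.E) :=
    nilradical_standardEtalePair_le i.P (mem_nilradical.mpr ⟨_, h1⟩)
  have h3 : IsLocalization.mk' i.B e s = IsLocalization.mk' i.B ((t : i.E) * e) (t * s) := by
    rw [IsLocalization.mk'_eq_iff_eq]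
    congr 1
    simp only [Submonoid.coe_mul]
    ring
  rw [h3, IsLocalization.mk'_eq_mul_mk'_one]
  apply Ideal.mul_mem_right
  have h4 := Ideal.mem_map_of_mem (algebraMap i.E i.B) h2
  rwa [Ideal.map_map, ← IsScalarTower.algebraMap_eq] at h4

theorem nilradical_eq : nilradical (Hz R Ω) = (nilradical R).map (algebraMap R (Hz R Ω)) := by
  apply le_antisymm
  · intro x hx
    obtain ⟨N, hN⟩ := mem_nilradical.mp hx
    obtain ⟨i, b, rfl⟩ := exists_ofHom x
    rw [← map_pow] at hN
    obtain ⟨j, hij, hj⟩ := Ring.DirectLimit.of.zero_exact hN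
    rw [trR_apply, map_pow] at hj
    have h1 : Idx.tr i j hij b ∈ (nilradical R).map (algebraMap R j.B) :=
      j.nilradical_B_le (mem_nilradical.mpr ⟨N, hj⟩)
    have h2 := Ideal.mem_map_of_mem (ofHom R Ω j) h1
    rw [Ideal.map_map, ofHom_tr] at h2
    have hc : (ofHom R Ω j).comp (algebraMap R j.B) = algebraMap R (Hz R Ω) :=
      RingHom.ext fun r => (algebraMap_eq j r).symm
    rwa [hc] at h2
  · rw [Ideal.map_le_iff_le_comap]
    intro r hr
    rw [Ideal.mem_comap, mem_nilradical]
    exact (mem_nilradical.mp hr).map _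

section

variable (R : Type u) [CommRing R] [IsLocalRing R]
  (S : Type u) [CommRing S] [IsLocalRing S] [Algebra R S] [IsLocalHom (algebraMap R S)]

lemma nilradical_eq_of_algEquiv {S' : Type u} [CommRing S'] [Algebra R S'] (e : S ≃ₐ[R] S')
    (h : nilradical S' = (nilradical R).map (algebraMap R S')) :
    (nilradical R).map (algebraMap R S) = nilradical S := by
  apply le_antisymm
  · rw [Ideal.map_le_iff_le_comap]
    intro r hr
    rw [Ideal.mem_comap, mem_nilradical]
    exact (mem_nilradical.mp hr).map _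
  · exact nilradical_le_map_of_algEquiv e h.le

theorem henselization_nilradical [Hensel.IsHenselization R S] :
    (nilradical R).map (algebraMap R S) = nilradical S := by
  obtain ⟨e⟩ := nonempty_algEquiv_hens R S
  exact nilradical_eq_of_algEquiv R S e nilradical_eq

theorem strictHenselization_nilradical [Hensel.IsStrictHenselization R S] :
    (nilradical R).map (algebraMap R S) = nilradical S := by
  obtain ⟨e⟩ := nonempty_algEquiv_shens R S
  exact nilradical_eq_of_algEquiv R S e nilradical_eq

end

end Groth.Agent.Lib.Helper8.Hzl
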