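import Mathlib
import Groth.Prelude
import Groth.Agent.Lib.Helper8.Hzl.Transfer
import Groth.Agent.Lib.Helper8.EtaleToFlat

/-!
# A strict henselization is the directed union of its essentially étale local subalgebras
(no Noetherian hypothesis)
-/

set_option autoImplicit false

open IsLocalRing TensorProduct

universe u

namespace Groth.Agent.Lib.Helper8.Hzl

section general

variable {R : Type u} [CommRing R] {Ω : Type u} [Field Ω] [Algebra R Ω]

/-- The colimit is flat over each local-étale stage (no Noetherian hypothesis). -/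
theorem flat_ofAlg (i : Idx R Ω) : (ofAlg i).toRingHom.Flat := by
  let ρ : i.E →ₐ[R] Hz R Ω := (ofAlg i).comp (IsScalarTower.toAlgHom R i.E i.B)
  have hρ : ρ.toRingHom.Flat := EtaleToFlat.flat_of_algHom R i.E (Hz R Ω) ρ
  letI algE : Algebra i.E (Hz R Ω) := ρ.toRingHom.toAlgebra
  letI algB : Algebra i.B (Hz R Ω) := (ofAlg i).toRingHom.toAlgebra
  haveI : IsScalarTower i.E i.B (Hz R Ω) := IsScalarTower.of_algebraMap_eq (fun e => rfl)
  have h1 : Module.Flat i.E (Hz R Ω) := RingHom.flat_algebraMap_iff.mp hρ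
  have h2 : Module.Flat i.B (Hz R Ω) :=
    (Module.flat_iff_of_isLocalization i.B i.q.primeCompl (Hz R Ω)).mpr h1
  exact RingHom.flat_algebraMap_iff.mpr h2

theorem isUnit_of_isUnit_ofAlg (i : Idx R Ω) (b : i.B) (h : IsUnit (ofAlg i b)) : IsUnit b := by
  rw [ofAlg_apply, isUnit_iff, χS_ofHom] at h
  exact (i.isUnit_iff b).mpr h

theorem ofAlg_injective (i : Idx R Ω) : Function.Injective (ofAlg i) := by
  letI algB : Algebra i.B (Hz R Ω) := (ofAlg i).toRingHom.toAlgebra
  have h2 : Module.Flat i.B (Hz R Ω) := RingHom.flat_algebraMap_iff.mp (flat_ofAlg i)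
  haveI : IsLocalHom (algebraMap i.B (Hz R Ω)) := ⟨fun b hb => isUnit_of_isUnit_ofAlg i b hb⟩
  have hff : Module.FaithfullyFlat i.B (Hz R Ω) := Module.FaithfullyFlat.of_flat_of_isLocalHom
  exact FaithfulSMul.algebraMap_injective i.B (Hz R Ω)

theorem Idx.comap_q_eq [IsLocalRing R] [IsLocalHom (algebraMap R Ω)] (i : Idx R Ω) :
    i.q.comap (algebraMap R i.E) = maximalIdeal R := by
  ext a
  rw [Ideal.mem_comap, Idx.mem_q, AlgHom.commutes, mem_maximalIdeal, mem_nonunits_iff]
  constructor
  · intro h hu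
    exact (hu.map (algebraMap R Ω)).ne_zero h
  · intro h
    by_contra h0
    exact h (isUnit_of_map_unit (algebraMap R Ω) a (IsUnit.mk0 _ h0))

/-- Any finite subset of the colimit comes from a single stage. -/
theorem exists_ofAlg_finset (s : Finset (Hz R Ω)) :
    ∃ k : Idx R Ω, ∀ x ∈ s, ∃ b : k.B, ofAlg k b = x := by
  classical
  choose i b hb using fun x : Hz R Ω => exists_ofHom x
  obtain ⟨k, hk⟩ := Finset.exists_le (s.image i)
  refine ⟨k, fun x hx => ?_⟩
  have hle : i x ≤ k := hk _ (Finset.mem_image_of_mem _ hx)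
  exact ⟨Idx.tr (i x) k hle (b x), by rw [ofAlg_apply, ofHom_tr, hb]⟩

end general

section strict

variable (A S : Type u) [CommRing A] [IsLocalRing A] [CommRing S] [IsLocalRing S] [Algebra A S]
  [IsLocalHom (algebraMap A S)] [Hensel.IsStrictHenselization A S]

/-- Every finite subset of a strict henselization lies in an essentially étale local subalgebra
with local inclusion. -/
theorem exists_essEtale_subalgebra (s : Finset S) :
    ∃ E : Subalgebra A S, (s : Set S) ⊆ (E : Set S) ∧
      ∃ _ : IsLocalRing E, IsLocalHom (algebraMap E S) ∧ EGA4loc.IsEssentiallyEtale A E := by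
  classical
  obtain ⟨e⟩ := nonempty_algEquiv_shens A S
  obtain ⟨k, hk⟩ := exists_ofAlg_finset (s.image e)
  let ρ : k.B →ₐ[A] S := (e.symm : SHens A →ₐ[A] S).comp (ofAlg k)
  have hρinj : Function.Injective ρ := e.symm.injective.comp (ofAlg_injective k)
  have hρloc : ∀ b : k.B, IsUnit (ρ b) → IsUnit b := fun b hb => by
    apply isUnit_of_isUnit_ofAlg k b
    have := hb.map e
    simpa [ρ] using this
  let eE : k.B ≃ₐ[A] ρ.range := AlgEquiv.ofInjective ρ hρinj
  have hloc : IsLocalRing ρ.range := eE.toRingEquiv.isLocalRing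
  refine ⟨ρ.range, fun x hx => ?_, hloc, ⟨fun y hy => ?_⟩, ?_⟩
  · obtain ⟨b, hb⟩ := hk (e x) (Finset.mem_image_of_mem _ hx)
    exact ⟨b, by simp [ρ, hb]⟩
  · obtain ⟨b, hb⟩ := eE.surjective y
    have h1 : (algebraMap ρ.range S) y = ρ b := by
      rw [← hb]; rfl
    rw [h1] at hy
    rw [← hb]
    exact (hρloc b hy).map eE
  · exact ⟨k.E, inferInstance, inferInstance, k.q, inferInstance, inferInstance, k.comap_q_eq,
      ⟨eE.symm⟩⟩

end strict

end Groth.Agent.Lib.Helper8.Hzl
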