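import Mathlib
import Groth.Prelude
import Groth.Agent.Lib.Helper8.Hzl.Main
import Groth.Agent.Lib.Helper8.Hzl.Union
import Groth.Agent.Lib.Helper8.BranchSum

/-!
# (Strict) henselization of a localization `A = R_p` as a colimit of pointed étale `R`-algebras

For a ring `R`, a prime `p`, a local ring `A` which is a localization of `R` at `p`, the colimits
`Hz R (ResidueField A)` and `Hz R (Ωs A)` of pointed standard étale `R`-algebras are a
henselization and a strict henselization of `A`.
-/

set_option autoImplicit false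

open IsLocalRing
open scoped Polynomial

universe u

namespace Groth.Agent.Lib.Helper8.Hzl

namespace AtPrimeGen

section scale

theorem eval_derivative_scaleRoots {K : Type*} [CommRing K] (P : K[X]) (s x : K) :
    (P.scaleRoots s).derivative.eval (s * x) =
      s ^ (P.natDegree - 1) * P.derivative.eval x := by
  have h1 : ((P.scaleRoots s).sum fun n a => a * (n : K) * (s * x) ^ (n - 1)) =
      ∑ n ∈ Finset.range (P.natDegree + 1),
        (P.scaleRoots s).coeff n * (n : K) * (s * x) ^ (n - 1) :=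
    Polynomial.sum_over_range' _ (fun n => by simp) _
      (by rw [Polynomial.natDegree_scaleRoots]; exact Nat.lt_succ_self _)
  have h2 : (P.sum fun n a => a * (n : K) * x ^ (n - 1)) =
      ∑ n ∈ Finset.range (P.natDegree + 1), P.coeff n * (n : K) * x ^ (n - 1) :=
    Polynomial.sum_over_range' _ (fun n => by simp) _ (Nat.lt_succ_self _)
  rw [Polynomial.derivative_eval, Polynomial.derivative_eval, h1, h2, Finset.mul_sum]
  refine Finset.sum_congr rfl fun n hn => ?_
  rw [Polynomial.coeff_scaleRoots]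
  rcases Nat.eq_zero_or_pos n with rfl | hpos
  · simp
  · have hn' : n ≤ P.natDegree := Nat.lt_succ_iff.mp (Finset.mem_range.mp hn)
    have e : P.natDegree - 1 = (P.natDegree - n) + (n - 1) := by omega
    rw [e, pow_add, mul_pow]
    ring

end scale

section pointwise

variable {R : Type u} [CommRing R] {Ω : Type u} [Field Ω] [Algebra R Ω]

/-- Pointwise version of `χS_surjective`. -/
theorem exists_χS_eq_of_simple_root (ω : Ω) (P : R[X]) (hP : P.Monic)
    (h0 : Polynomial.aeval ω P = 0) (h1 : Polynomial.aeval ω (Polynomial.derivative P) ≠ 0) :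
    ∃ y : Hz R Ω, χS R Ω y = ω := by
  let pr : StandardEtalePair R := ⟨P, hP, Polynomial.derivative P, 1, 0, 1, by simp⟩
  let i : Idx R Ω := ⟨pr, ω, h0, IsUnit.mk0 _ h1⟩
  refine ⟨ofHom R Ω i (algebraMap i.E i.B pr.X), ?_⟩
  rw [χS_ofHom, Idx.χB_algebraMap]
  exact pr.lift_X _ _

/-- The image of the point is closed under inverses. -/
theorem exists_χS_eq_inv (y : Hz R Ω) (hy : χS R Ω y ≠ 0) :
    ∃ z : Hz R Ω, χS R Ω z = (χS R Ω y)⁻¹ := by
  obtain ⟨v, hv⟩ := (Hzl.isUnit_iff y).mpr hy
  refine ⟨(↑v⁻¹ : Hz R Ω), ?_⟩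
  have h : χS R Ω (↑v⁻¹ : Hz R Ω) * χS R Ω y = 1 := by
    rw [← hv, ← map_mul, Units.inv_mul, map_one]
  exact eq_inv_of_mul_eq_one_left h

/-- Finitely many minimal primes of the colimit are separated at a finite stage. -/
theorem exists_idx_natCast_le_encard (n : ℕ)
    (hn : (n : ℕ∞) ≤ (minimalPrimes (Hz R Ω)).encard) :
    ∃ k : Idx R Ω, (n : ℕ∞) ≤ (minimalPrimes k.B).encard := by
  classical
  obtain ⟨t, ht, htn⟩ := Set.exists_subset_encard_eq hn
  have htfin : t.Finite := Set.finite_of_encard_eq_coe htn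
  have hsep : ∀ Q Q' : Ideal (Hz R Ω), ∃ x : Hz R Ω,
      Q ∈ t → Q' ∈ t → Q ≠ Q' → x ∈ Q ∧ x ∉ Q' := by
    intro Q Q'
    by_cases h : Q ∈ t ∧ Q' ∈ t ∧ Q ≠ Q'
    · obtain ⟨hQ, hQ', hne⟩ := h
      have hnle : ¬ Q ≤ Q' := by
        intro hle
        have hQm := ht hQ
        have hQ'm := ht hQ'
        exact hne (le_antisymm hle (hQ'm.2 ⟨hQm.1.1, bot_le⟩ hle))
      obtain ⟨x, hx, hx'⟩ := SetLike.not_le_iff_exists.mp hnle
      exact ⟨x, fun _ _ _ => ⟨hx, hx'⟩⟩
    · exact ⟨0, fun h1 h2 h3 => (h ⟨h1, h2, h3⟩).elim⟩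
  choose f hf using hsep
  obtain ⟨k, hk⟩ := exists_ofAlg_finset
    ((htfin.toFinset ×ˢ htfin.toFinset).image (fun pr => f pr.1 pr.2))
  refine ⟨k, ?_⟩
  letI algB : Algebra k.B (Hz R Ω) := (ofAlg k).toRingHom.toAlgebra
  haveI : Module.Flat k.B (Hz R Ω) := RingHom.flat_algebraMap_iff.mp (flat_ofAlg k)
  have hmaps : ∀ Q ∈ t, Q.comap (algebraMap k.B (Hz R Ω)) ∈ minimalPrimes k.B := fun Q hQ =>
    BranchSum.comap_mem_minimalPrimes k.B (Hz R Ω) (ht hQ)
  have hinj : Set.InjOn (Ideal.comap (algebraMap k.B (Hz R Ω))) t := by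
    intro Q hQ Q' hQ' heq
    by_contra hne
    obtain ⟨hx, hx'⟩ := hf Q Q' hQ hQ' hne
    obtain ⟨b, hb⟩ := hk (f Q Q') (Finset.mem_image.mpr ⟨(Q, Q'),
      Finset.mem_product.mpr ⟨htfin.mem_toFinset.mpr hQ, htfin.mem_toFinset.mpr hQ'⟩, rfl⟩)
    have h1 : b ∈ Q.comap (algebraMap k.B (Hz R Ω)) := by
      rw [Ideal.mem_comap]
      change ofAlg k b ∈ Q
      rw [hb]
      exact hx
    have heq' : Ideal.comap (algebraMap k.B (Hz R Ω)) Q =
        Ideal.comap (algebraMap k.B (Hz R Ω)) Q' := heq
    rw [heq', Ideal.mem_comap] at h1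
    apply hx'
    rw [← hb]
    exact h1
  calc (n : ℕ∞) = t.encard := htn.symm
    _ = ((Ideal.comap (algebraMap k.B (Hz R Ω))) '' t).encard := hinj.encard_image.symm
    _ ≤ (minimalPrimes k.B).encard := Set.encard_le_encard (by
        rintro _ ⟨Q, hQ, rfl⟩
        exact hmaps Q hQ)

end pointwise

section general

variable (R : Type u) [CommRing R] (p : Ideal R) [p.IsPrime]
  (A : Type u) [CommRing A] [IsLocalRing A] [Algebra R A] [IsLocalization.AtPrime A p]
  (Ω : Type u) [Field Ω] [Algebra A Ω] [IsLocalHom (algebraMap A Ω)] [Algebra R Ω]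
  [IsScalarTower R A Ω]

include A in
lemma algebraMap_eq_zero_iff (r : R) : algebraMap R Ω r = 0 ↔ r ∈ p := by
  rw [IsScalarTower.algebraMap_apply R A Ω,
    ← IsLocalization.AtPrime.to_map_mem_maximal_iff A p r, mem_maximalIdeal, mem_nonunits_iff]
  constructor
  · intro h hu
    exact (hu.map (algebraMap A Ω)).ne_zero h
  · intro h
    by_contra h0
    exact h (isUnit_of_map_unit (algebraMap A Ω) _ (IsUnit.mk0 _ h0))

include A in
lemma isUnit_algebraMap (y : p.primeCompl) : IsUnit (algebraMap R (Hz R Ω) y) := by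
  rw [Hzl.isUnit_iff, AlgHom.commutes]
  intro h
  exact y.2 ((algebraMap_eq_zero_iff R p A Ω _).mp h)

include A in
lemma under_q (i : Idx R Ω) : i.q.under R = p := by
  ext r
  rw [Ideal.under, Ideal.mem_comap, i.mem_q, AlgHom.commutes, algebraMap_eq_zero_iff R p A Ω]

include A in
lemma mem_map_of_mem_maximalIdeal (x : Hz R Ω) (hx : x ∈ maximalIdeal (Hz R Ω)) :
    x ∈ p.map (algebraMap R (Hz R Ω)) := by
  obtain ⟨i, b, rfl⟩ := exists_ofHom x
  have hb : b ∈ maximalIdeal i.B := by
    rw [← Idx.χB_eq_zero_iff]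
    simpa using (Hzl.mem_maximalIdeal_iff _).mp hx
  letI := Localization.AtPrime.algebraOfLiesOver (i.q.under R) i.q
  have hU : (i.q.under R).map (algebraMap R i.B) = maximalIdeal i.B :=
    ((Algebra.isUnramifiedAt_iff_map_eq R (i.q.under R) i.q).mp inferInstance).2
  rw [← hU, under_q R p A Ω] at hb
  have h1 := Ideal.mem_map_of_mem (ofHom R Ω i) hb
  rw [Ideal.map_map] at h1
  have h2 : (ofHom R Ω i).comp (algebraMap R i.B) = algebraMap R (Hz R Ω) :=
    RingHom.ext fun r => (algebraMap_eq i r).symm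
  rwa [h2] at h1

/-- The `A`-algebra structure on the colimit. -/
@[reducible] noncomputable def algebraHz : Algebra A (Hz R Ω) :=
  (IsLocalization.lift (M := p.primeCompl) (g := algebraMap R (Hz R Ω))
    (isUnit_algebraMap R p A Ω)).toAlgebra

theorem isScalarTower_algebraHz :
    letI := algebraHz R p A Ω
    IsScalarTower R A (Hz R Ω) := by
  letI := algebraHz R p A Ω
  exact IsScalarTower.of_algebraMap_eq (fun r => (IsLocalization.lift_eq _ r).symm)

section withAlg

variable [Algebra A (Hz R Ω)] [IsScalarTower R A (Hz R Ω)]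

include p in
lemma χS_algebraMap (a : A) : χS R Ω (algebraMap A (Hz R Ω) a) = algebraMap A Ω a := by
  have h : ((χS R Ω : Hz R Ω →+* Ω).comp (algebraMap A (Hz R Ω))) = algebraMap A Ω := by
    apply IsLocalization.ringHom_ext p.primeCompl
    ext r
    simp only [RingHom.comp_apply, RingHom.coe_coe]
    rw [← IsScalarTower.algebraMap_apply R A (Hz R Ω), AlgHom.commutes,
      ← IsScalarTower.algebraMap_apply R A Ω]
  exact DFunLike.congr_fun h a

include p in
lemma isLocalHom_algebraMap : IsLocalHom (algebraMap A (Hz R Ω)) := ⟨fun a ha => by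
  have h := (Hzl.isUnit_iff _).mp ha
  rw [χS_algebraMap R p A Ω] at h
  exact isUnit_of_map_unit (algebraMap A Ω) a (IsUnit.mk0 _ h)⟩

include p in
/-- The universal property of the colimit, over `A`. -/
theorem existsUnique_lift (T : Type u) [CommRing T] [HenselianLocalRing T] (f : A →+* T)
    (τ' : Ω →+* ResidueField T) (hτ' : ∀ a : A, τ' (algebraMap A Ω a) = residue T (f a)) :
    ∃! g : Hz R Ω →+* T, g.comp (algebraMap A (Hz R Ω)) = f ∧
      ∀ x, residue T (g x) = τ' (χS R Ω x) := by
  letI : Algebra R T := (f.comp (algebraMap R A)).toAlgebra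
  let τ'' : Ω →ₐ[R] ResidueField T :=
    { τ' with
      commutes' := fun r => by
        change τ' (algebraMap R Ω r) = residue T (f (algebraMap R A r))
        rw [IsScalarTower.algebraMap_apply R A Ω, hτ'] }
  obtain ⟨g, hg, hu⟩ := existsUnique_algHom T τ''
  refine ⟨g, ⟨?_, hg⟩, fun g' hg' => ?_⟩
  · apply IsLocalization.ringHom_ext p.primeCompl
    ext r
    simp only [RingHom.comp_apply, RingHom.coe_coe]
    rw [← IsScalarTower.algebraMap_apply R A (Hz R Ω), AlgHom.commutes]
    rfl
  · let g'' : Hz R Ω →ₐ[R] T :=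
      { g' with
        commutes' := fun r => by
          change g' (algebraMap R (Hz R Ω) r) = f (algebraMap R A r)
          rw [IsScalarTower.algebraMap_apply R A (Hz R Ω)]
          exact DFunLike.congr_fun hg'.1 _ }
    have h1 := hu g'' hg'.2
    rw [← h1]
    rfl

end withAlg

end general

section strict

variable (R : Type u) [CommRing R] (p : Ideal R) [p.IsPrime]
  (A : Type u) [CommRing A] [IsLocalRing A] [Algebra R A] [IsLocalization.AtPrime A p]
  [Algebra R (Ωs A)] [IsScalarTower R A (Ωs A)]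

include p in
theorem χS_surjective_strict : Function.Surjective (χS R (Ωs A)) := by
  intro ω
  obtain ⟨P, hP, h0, h1⟩ := exists_monic_simple_root A ω
  obtain ⟨d, hd⟩ : ∃ d : p.primeCompl,
      d = IsLocalization.commonDenom p.primeCompl P.support P.coeff := ⟨_, rfl⟩
  have hlift : P.scaleRoots (algebraMap R A d) ∈ Polynomial.lifts (algebraMap R A) := by
    rw [hd]
    exact IsLocalization.scaleRoots_commonDenom_mem_lifts p.primeCompl P
      (by rw [hP.leadingCoeff]; exact one_mem _)
  obtain ⟨Q, hQ, -, hQm⟩ := Polynomial.lifts_and_natDegree_eq_and_monic hlift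
    ((Polynomial.monic_scaleRoots_iff _).mpr hP)
  have hs : algebraMap A (Ωs A) (algebraMap R A d) ≠ 0 := by
    rw [← IsScalarTower.algebraMap_apply R A (Ωs A)]
    intro h
    exact d.2 ((algebraMap_eq_zero_iff R p A (Ωs A) _).mp h)
  have hroot : Polynomial.aeval (algebraMap A (Ωs A) (algebraMap R A d) * ω) Q = 0 := by
    rw [← Polynomial.aeval_map_algebraMap A, hQ]
    exact Polynomial.scaleRoots_aeval_eq_zero h0
  have hder : Polynomial.aeval (algebraMap A (Ωs A) (algebraMap R A d) * ω)
      (Polynomial.derivative Q) ≠ 0 := by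
    rw [← Polynomial.aeval_map_algebraMap A, ← Polynomial.derivative_map, hQ,
      Polynomial.aeval_def, ← Polynomial.eval_map, ← Polynomial.derivative_map,
      Polynomial.map_scaleRoots P (algebraMap R A d) (algebraMap A (Ωs A))
        (by rw [hP.leadingCoeff, map_one]; exact one_ne_zero),
      eval_derivative_scaleRoots]
    refine mul_ne_zero (pow_ne_zero _ hs) ?_
    rw [Polynomial.derivative_map, Polynomial.eval_map, ← Polynomial.aeval_def]
    exact h1
  obtain ⟨y, hy⟩ := exists_χS_eq_of_simple_root _ Q hQm hroot hder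
  have hd' : χS R (Ωs A) (algebraMap R (Hz R (Ωs A)) d) =
      algebraMap A (Ωs A) (algebraMap R A d) := by
    rw [AlgHom.commutes, IsScalarTower.algebraMap_apply R A (Ωs A)]
  obtain ⟨z, hz⟩ := exists_χS_eq_inv (algebraMap R (Hz R (Ωs A)) d) (by rw [hd']; exact hs)
  refine ⟨y * z, ?_⟩
  rw [map_mul, hy, hz, hd', mul_comm _ ω, mul_assoc, mul_inv_cancel₀ hs, mul_one]

variable [Algebra A (Hz R (Ωs A))] [IsScalarTower R A (Hz R (Ωs A))]
  [IsLocalHom (algebraMap A (Hz R (Ωs A)))]

include p in
theorem isStrictHenselization : Hensel.IsStrictHenselization A (Hz R (Ωs A)) := by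
  have hsurj := χS_surjective_strict R p A
  let e' : ResidueField (Hz R (Ωs A)) ≃ₐ[ResidueField A] Ωs A :=
    AlgEquiv.ofRingEquiv (f := resEquiv hsurj) (fun x => by
      obtain ⟨a, rfl⟩ := residue_surjective x
      change resEquiv _ (ResidueField.map (algebraMap A (Hz R (Ωs A))) (residue A a)) = _
      rw [ResidueField.map_residue, resEquiv_residue, χS_algebraMap R p A (Ωs A)]
      exact IsScalarTower.algebraMap_apply A (ResidueField A) (Ωs A) a)
  refine ⟨inferInstance, ?_, ?_⟩
  · rw [isSepClosure_iff]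
    exact ⟨isSepClosed_of_ringEquiv e'.symm.toRingEquiv,
      Algebra.IsSeparable.of_algHom _ _ e'.toAlgHom⟩
  · intro T _ _ f _ τ hτ
    obtain ⟨e, hedef⟩ : ∃ e, e = resEquiv hsurj := ⟨_, rfl⟩
    have key0 : ∀ x : Hz R (Ωs A), e.symm (χS R _ x) = residue _ x := fun x => by
      rw [hedef, resEquiv_symm_χS]
    have hτ' : ∀ a : A, (τ.comp (e.symm : Ωs A →+* ResidueField (Hz R (Ωs A))))
        (algebraMap A (Ωs A) a) = residue T (f a) := by
      intro a
      change τ (e.symm (algebraMap A (Ωs A) a)) = residue T (f a)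
      rw [← χS_algebraMap R p A (Ωs A) a, key0,
        ← ResidueField.map_residue (algebraMap A (Hz R (Ωs A))), ← RingHom.comp_apply, hτ,
        ResidueField.map_residue]
    obtain ⟨g, ⟨hg1, hg2⟩, hu⟩ := existsUnique_lift R p A (Ωs A) T f _ hτ'
    refine ⟨g, ⟨hg1, fun x => ?_⟩, fun g' hg' => hu g' ⟨hg'.1, fun x => ?_⟩⟩
    · rw [hg2]
      change τ (e.symm (χS R _ x)) = _
      rw [key0]
    · rw [hg'.2]
      change _ = τ (e.symm (χS R _ x))
      rw [key0]

end strict

section nonstrict

variable (R : Type u) [CommRing R] (p : Ideal R) [p.IsPrime]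
  (A : Type u) [CommRing A] [IsLocalRing A] [Algebra R A] [IsLocalization.AtPrime A p]
  [Algebra R (ResidueField A)] [IsScalarTower R A (ResidueField A)]

include p in
theorem exists_frac (ω : ResidueField A) : ∃ a t : R, algebraMap R (ResidueField A) t ≠ 0 ∧
    ω * algebraMap R (ResidueField A) t = algebraMap R (ResidueField A) a := by
  obtain ⟨a', rfl⟩ := residue_surjective ω
  obtain ⟨a, t, rfl⟩ := IsLocalization.exists_mk'_eq p.primeCompl a'
  refine ⟨a, t, ?_, ?_⟩
  · intro h
    exact t.2 ((algebraMap_eq_zero_iff R p A (ResidueField A) _).mp h)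
  · rw [IsScalarTower.algebraMap_apply R A (ResidueField A),
      IsScalarTower.algebraMap_apply R A (ResidueField A)]
    change residue A _ * residue A _ = residue A _
    rw [← map_mul, IsLocalization.mk'_spec]

variable [Algebra A (Hz R (ResidueField A))] [IsScalarTower R A (Hz R (ResidueField A))]
  [IsLocalHom (algebraMap A (Hz R (ResidueField A)))]

include p in
theorem isHenselization : Hensel.IsHenselization A (Hz R (ResidueField A)) := by
  refine ⟨inferInstance, ?_⟩
  intro T _ _ f hf
  haveI : IsLocalHom f := hf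
  have hτ' : ∀ a : A, (ResidueField.map f) (algebraMap A (ResidueField A) a) =
      residue T (f a) := fun a => ResidueField.map_residue f a
  obtain ⟨g, ⟨hg1, hg2⟩, hu⟩ := existsUnique_lift R p A (ResidueField A) T f _ hτ'
  refine ⟨g, hg1, fun g' hg' => hu g' ⟨hg', fun x => ?_⟩⟩
  obtain ⟨a, ha⟩ := residue_surjective (χS R (ResidueField A) x)
  have h1 : x - algebraMap A _ a ∈ maximalIdeal (Hz R (ResidueField A)) := by
    rw [Hzl.mem_maximalIdeal_iff, map_sub, χS_algebraMap R p A (ResidueField A), sub_eq_zero]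
    exact ha.symm
  have h2 := mem_map_of_mem_maximalIdeal R p A (ResidueField A) _ h1
  have h3 : g' (x - algebraMap A _ a) ∈ maximalIdeal T := by
    have h4 := Ideal.mem_map_of_mem g' h2
    rw [Ideal.map_map] at h4
    have h5 : p.map (g'.comp (algebraMap R (Hz R (ResidueField A)))) ≤ maximalIdeal T := by
      rw [Ideal.map_le_iff_le_comap]
      intro r hr
      rw [Ideal.mem_comap, RingHom.comp_apply,
        IsScalarTower.algebraMap_apply R A (Hz R (ResidueField A))]
      have h6 : g' (algebraMap A _ (algebraMap R A r)) = f (algebraMap R A r) :=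
        DFunLike.congr_fun hg' _
      rw [h6]
      have h7 : algebraMap R A r ∈ maximalIdeal A :=
        (IsLocalization.AtPrime.to_map_mem_maximal_iff A p r).mpr hr
      exact map_nonunit f _ h7
    exact h5 h4
  rw [map_sub, ← residue_eq_zero_iff, map_sub, sub_eq_zero] at h3
  rw [h3, ← ha]
  have h8 : g' (algebraMap A _ a) = f a := DFunLike.congr_fun hg' a
  rw [h8]
  exact (ResidueField.map_residue f a).symm

end nonstrict

end AtPrimeGen

end Groth.Agent.Lib.Helper8.Hzl
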