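import Mathlib
import Groth.Prelude
import Groth.Agent.Lib.Helper8.Hzl.Main
import Groth.Agent.Lib.Helper8.Hzl.NbhdColimit

/-!
# The henselization of a localization at a prime, as a colimit of étale algebras over the base
-/

set_option autoImplicit false

open IsLocalRing TensorProduct CategoryTheory Limits

universe u

namespace Groth.Agent.Lib.Helper8.Hzl

namespace AtPrime

variable (R : Type u) [CommRing R] (p : Ideal R) [p.IsPrime]

/-- The henselization of `R_p` as a colimit of pointed étale `R`-algebras. -/
abbrev H : Type u := Hz R p.ResidueField

lemma isUnit_algebraMap (y : p.primeCompl) : IsUnit (algebraMap R (H R p) y) := by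
  rw [isUnit_iff, AlgHom.commutes]
  intro h
  exact y.2 (Ideal.algebraMap_residueField_eq_zero.mp h)

noncomputable instance : Algebra (Localization.AtPrime p) (H R p) :=
  (IsLocalization.lift (M := p.primeCompl) (g := algebraMap R (H R p))
    (isUnit_algebraMap R p)).toAlgebra

instance : IsScalarTower R (Localization.AtPrime p) (H R p) :=
  IsScalarTower.of_algebraMap_eq (fun r => (IsLocalization.lift_eq _ r).symm)

lemma χS_algebraMap (a : Localization.AtPrime p) :
    χS R p.ResidueField (algebraMap _ (H R p) a) = residue _ a := by
  have h : ((χS R p.ResidueField : H R p →+* p.ResidueField).comp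
      (algebraMap (Localization.AtPrime p) (H R p))) = residue _ := by
    apply IsLocalization.ringHom_ext p.primeCompl
    ext r
    simp only [RingHom.comp_apply, RingHom.coe_coe]
    rw [← IsScalarTower.algebraMap_apply R (Localization.AtPrime p) (H R p), AlgHom.commutes]
    rfl
  exact DFunLike.congr_fun h a

instance : IsLocalHom (algebraMap (Localization.AtPrime p) (H R p)) := ⟨fun a ha => by
  have := (isUnit_iff _).mp ha
  rw [χS_algebraMap] at this
  exact (residue_ne_zero_iff_isUnit a).mp this⟩

lemma χS_surjective : Function.Surjective (χS R p.ResidueField) := fun ω => by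
  obtain ⟨a, rfl⟩ := residue_surjective ω
  exact ⟨algebraMap _ _ a, χS_algebraMap R p a⟩

lemma Idx.under_q (i : Idx R p.ResidueField) : i.q.under R = p := by
  ext r
  rw [Ideal.under, Ideal.mem_comap, i.mem_q, AlgHom.commutes,
    Ideal.algebraMap_residueField_eq_zero]

lemma map_maximalIdeal :
    (maximalIdeal (Localization.AtPrime p)).map (algebraMap _ (H R p)) = maximalIdeal (H R p) := by
  apply le_antisymm
  · exact Ideal.map_le_iff_le_comap.mpr fun r hr => map_nonunit _ r hr
  · intro x hx
    obtain ⟨i, b, rfl⟩ := exists_ofHom x
    have hb : b ∈ maximalIdeal i.B := by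
      rw [← Idx.χB_eq_zero_iff]
      simpa using (mem_maximalIdeal_iff _).mp hx
    letI := Localization.AtPrime.algebraOfLiesOver (i.q.under R) i.q
    have hU : (i.q.under R).map (algebraMap R i.B) = maximalIdeal i.B :=
      ((Algebra.isUnramifiedAt_iff_map_eq R (i.q.under R) i.q).mp inferInstance).2
    rw [← hU, Idx.under_q] at hb
    have h1 := Ideal.mem_map_of_mem (ofHom R p.ResidueField i) hb
    rw [Ideal.map_map] at h1
    have h2 : (ofHom R p.ResidueField i).comp (algebraMap R i.B) = algebraMap R (H R p) :=
      RingHom.ext fun r => (algebraMap_eq i r).symm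
    rw [h2, IsScalarTower.algebraMap_eq R (Localization.AtPrime p) (H R p), ← Ideal.map_map,
      Localization.AtPrime.map_eq_maximalIdeal] at h1
    exact h1

theorem isHenselization : Hensel.IsHenselization (Localization.AtPrime p) (H R p) where
  henselian := inferInstance
  universal T _ _ f hf := by
    letI := f.toAlgebra
    letI : Algebra R T := (f.comp (algebraMap R (Localization.AtPrime p))).toAlgebra
    have : IsScalarTower R (Localization.AtPrime p) T := IsScalarTower.of_algebraMap_eq (fun r => rfl)
    have : IsLocalHom f := hf
    let τ : p.ResidueField →ₐ[R] ResidueField T :=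
      { ResidueField.map f with
        commutes' := fun r => by
          change ResidueField.map f (residue _ (algebraMap R _ r)) = residue T (f (algebraMap R _ r))
          exact ResidueField.map_residue f _ }
    have hτ : ∀ a, τ (residue _ a) = residue T (f a) := fun a => ResidueField.map_residue f a
    obtain ⟨g, hg, hu⟩ := existsUnique_algHom T τ
    refine ⟨g, ?_, fun g' hg' => ?_⟩
    · apply IsLocalization.ringHom_ext p.primeCompl
      ext r
      simp only [RingHom.comp_apply, RingHom.coe_coe]
      rw [← IsScalarTower.algebraMap_apply R (Localization.AtPrime p) (H R p), AlgHom.commutes]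
      rfl
    · let g'' : H R p →ₐ[R] T :=
        { g' with
          commutes' := fun r => by
            change g' (algebraMap R (H R p) r) = f (algebraMap R _ r)
            rw [IsScalarTower.algebraMap_apply R (Localization.AtPrime p) (H R p)]
            exact DFunLike.congr_fun hg' _ }
      have h1 := hu g'' (fun x => by
        obtain ⟨a, ha⟩ := residue_surjective (χS R p.ResidueField x)
        have h1 : x - algebraMap _ (H R p) a ∈ maximalIdeal (H R p) := by
          rw [mem_maximalIdeal_iff, map_sub, χS_algebraMap, ha, sub_self]
        rw [← map_maximalIdeal] at h1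
        have h2 : g' (x - algebraMap _ (H R p) a) ∈ maximalIdeal T := by
          have h3 := Ideal.mem_map_of_mem g' h1
          rw [Ideal.map_map, hg'] at h3
          exact (Ideal.map_le_iff_le_comap.mpr fun r hr => map_nonunit _ r hr) h3
        rw [map_sub, ← residue_eq_zero_iff, map_sub, sub_eq_zero] at h2
        change residue T (g' x) = _
        rw [h2, ← ha, hτ]
        exact congrArg _ (DFunLike.congr_fun hg' a))
      rw [← h1]
      rfl

end AtPrime

end Groth.Agent.Lib.Helper8.Hzl
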