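import Mathlib
import Groth.Agent.Lib.Helper4.FlatDepth
import Groth.Agent.Lib.Helper8.Hzl.Dim
import Groth.Agent.Lib.Helper8.Hzl.Noeth2

/-!
# Cohen–Macaulayness of the (strict) henselization
-/

set_option autoImplicit false
universe u
open IsLocalRing TensorProduct

namespace Groth.Agent.Lib.Helper8.Hzl

lemma isCohenMacaulayLocalRing_iff' (R : Type u) [CommRing R] [IsLocalRing R] [IsNoetherianRing R] :
    LocCoh.IsCohenMacaulayLocalRing R ↔
      ringKrullDim R = ((LocCoh.depth R R : ℕ∞) : WithBot ℕ∞) := by
  rw [← Module.supportDim_self_eq_ringKrullDim]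
  exact ⟨fun h => h.supportDim_eq_depth, fun h => ⟨h⟩⟩

/-- The depth of the ring is invariant under flat local homomorphisms with `𝔪_R S = 𝔪_S`. -/
theorem depth_eq_of_flat {R S : Type u} [CommRing R] [IsLocalRing R]
    [IsNoetherianRing R] [CommRing S] [IsLocalRing S] [IsNoetherianRing S] [Algebra R S]
    [IsLocalHom (algebraMap R S)] [Module.Flat R S]
    (hm : (maximalIdeal R).map (algebraMap R S) = maximalIdeal S) :
    LocCoh.depth S S = LocCoh.depth R R := by
  have hff : Module.FaithfullyFlat R S := .of_flat_of_isLocalHom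
  have h1 := Groth.Agent.Lib.Helper4.idealDepth_tensor_eq (A := R) (B := S) R (maximalIdeal R)
  rw [hm] at h1
  unfold LocCoh.depth
  rw [← h1]
  exact (Groth.Agent.Lib.Helper4.idealDepth_congr _
    (TensorProduct.AlgebraTensorModule.rid R S S)).symm

theorem isCohenMacaulayLocalRing_iff_of_flat {R S : Type u} [CommRing R] [IsLocalRing R]
    [IsNoetherianRing R] [CommRing S] [IsLocalRing S] [IsNoetherianRing S] [Algebra R S]
    [IsLocalHom (algebraMap R S)] [Module.Flat R S]
    (hm : (maximalIdeal R).map (algebraMap R S) = maximalIdeal S)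
    (hdim : ringKrullDim S = ringKrullDim R) :
    LocCoh.IsCohenMacaulayLocalRing R ↔ LocCoh.IsCohenMacaulayLocalRing S := by
  rw [isCohenMacaulayLocalRing_iff', isCohenMacaulayLocalRing_iff', hdim, depth_eq_of_flat hm]

section

variable (R : Type u) [CommRing R] [IsLocalRing R]
  (S : Type u) [CommRing S] [IsLocalRing S] [Algebra R S] [IsLocalHom (algebraMap R S)]

theorem henselization_isCohenMacaulay_iff [Hensel.IsHenselization R S] [IsNoetherianRing R] :
    LocCoh.IsCohenMacaulayLocalRing R ↔ LocCoh.IsCohenMacaulayLocalRing S := by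
  have : IsNoetherianRing S := (henselization_isNoetherianRing_iff R S).mp inferInstance
  have := henselization_flat R S
  exact isCohenMacaulayLocalRing_iff_of_flat (henselization_map_maximalIdeal R S)
    (henselization_ringKrullDim R S)

theorem strictHenselization_isCohenMacaulay_iff [Hensel.IsStrictHenselization R S]
    [IsNoetherianRing R] :
    LocCoh.IsCohenMacaulayLocalRing R ↔ LocCoh.IsCohenMacaulayLocalRing S := by
  have : IsNoetherianRing S := (strictHenselization_isNoetherianRing_iff R S).mp inferInstance
  have := strictHenselization_flat R S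
  exact isCohenMacaulayLocalRing_iff_of_flat (strictHenselization_map_maximalIdeal R S)
    (strictHenselization_ringKrullDim R S)

end

end Groth.Agent.Lib.Helper8.Hzl
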