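import Mathlib
import Groth.Agent.Lib.Helper4.SkRing
import Groth.Agent.Lib.Helper8.ComplDim
import Groth.Agent.Lib.Helper8.Hzl.CM
import Groth.Agent.Lib.Helper8.Hzl.Regular
import Groth.Agent.Lib.Helper8.Hzl.IndEtaleLike

/-!
# Serre's conditions `(R_k)` and `(S_k)` for the (strict) henselization
-/

set_option autoImplicit false
universe u
open IsLocalRing

namespace Groth.Agent.Lib.Helper8.Hzl

section G

variable {R S : Type u} [CommRing R] [CommRing S] [Algebra R S] [IsNoetherianRing R]
  [IsNoetherianRing S] [Module.Flat R S]

/-- The local homomorphism `R_𝔭 → S_𝔮` satisfies `𝔪 S_𝔮 = 𝔪_𝔮`. -/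
lemma map_maximalIdeal_localization
    (hU : ∀ (q : Ideal S) [q.IsPrime], (q.under R).map (algebraMap R (Localization.AtPrime q)) =
      maximalIdeal (Localization.AtPrime q)) (q : Ideal S) [q.IsPrime] :
    letI := Localization.AtPrime.algebraOfLiesOver (q.under R) q
    (maximalIdeal (Localization.AtPrime (q.under R))).map
      (algebraMap (Localization.AtPrime (q.under R)) (Localization.AtPrime q)) =
        maximalIdeal (Localization.AtPrime q) := by
  letI := Localization.AtPrime.algebraOfLiesOver (q.under R) q
  rw [← Localization.AtPrime.map_eq_maximalIdeal, Ideal.map_map,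
    ← IsScalarTower.algebraMap_eq R (Localization.AtPrime (q.under R)) (Localization.AtPrime q)]
  exact hU q

lemma isRegularLocalRing_localization_iff
    (hU : ∀ (q : Ideal S) [q.IsPrime], (q.under R).map (algebraMap R (Localization.AtPrime q)) =
      maximalIdeal (Localization.AtPrime q)) (q : Ideal S) [q.IsPrime] :
    IsRegularLocalRing (Localization.AtPrime (q.under R)) ↔
      IsRegularLocalRing (Localization.AtPrime q) := by
  letI := Localization.AtPrime.algebraOfLiesOver (q.under R) q
  have : IsLocalHom (algebraMap (Localization.AtPrime (q.under R)) (Localization.AtPrime q)) :=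
    Localization.isLocalHom_localRingHom _ _ _ _
  have hm := map_maximalIdeal_localization hU q
  exact isRegularLocalRing_iff_of_flat hm (ringKrullDim_eq_of_flat hm)

lemma height_eq_height_under
    (hU : ∀ (q : Ideal S) [q.IsPrime], (q.under R).map (algebraMap R (Localization.AtPrime q)) =
      maximalIdeal (Localization.AtPrime q)) (q : Ideal S) [q.IsPrime] :
    q.height = (q.under R).height := by
  letI := Localization.AtPrime.algebraOfLiesOver (q.under R) q
  have : IsLocalHom (algebraMap (Localization.AtPrime (q.under R)) (Localization.AtPrime q)) :=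
    Localization.isLocalHom_localRingHom _ _ _ _
  have hm := map_maximalIdeal_localization hU q
  have h1 := ringKrullDim_eq_of_flat hm
  rw [IsLocalization.AtPrime.ringKrullDim_eq_height q,
    IsLocalization.AtPrime.ringKrullDim_eq_height (q.under R)] at h1
  exact_mod_cast h1

lemma depth_localization_eq
    (hU : ∀ (q : Ideal S) [q.IsPrime], (q.under R).map (algebraMap R (Localization.AtPrime q)) =
      maximalIdeal (Localization.AtPrime q)) (q : Ideal S) [q.IsPrime] :
    LocCoh.depth (Localization.AtPrime q) (Localization.AtPrime q) =
      LocCoh.depth (Localization.AtPrime (q.under R)) (Localization.AtPrime (q.under R)) := by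
  letI := Localization.AtPrime.algebraOfLiesOver (q.under R) q
  have : IsLocalHom (algebraMap (Localization.AtPrime (q.under R)) (Localization.AtPrime q)) :=
    Localization.isLocalHom_localRingHom _ _ _ _
  exact depth_eq_of_flat (map_maximalIdeal_localization hU q)

theorem hasRk_of_hasRk (k : ℕ)
    (hU : ∀ (q : Ideal S) [q.IsPrime], (q.under R).map (algebraMap R (Localization.AtPrime q)) =
      maximalIdeal (Localization.AtPrime q)) (hR : LocCoh.HasRk k R) : LocCoh.HasRk k S := by
  intro q _ hq
  exact (isRegularLocalRing_localization_iff hU q).mp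
    (hR (q.under R) (by rw [← height_eq_height_under hU q]; exact hq))

theorem hasRk_iff (k : ℕ) [Module.FaithfullyFlat R S]
    (hU : ∀ (q : Ideal S) [q.IsPrime], (q.under R).map (algebraMap R (Localization.AtPrime q)) =
      maximalIdeal (Localization.AtPrime q)) : LocCoh.HasRk k S ↔ LocCoh.HasRk k R := by
  refine ⟨fun hS p _ hp => ?_, hasRk_of_hasRk k hU⟩
  obtain ⟨⟨q, hq⟩, hqp⟩ := PrimeSpectrum.comap_surjective_of_faithfullyFlat (A := R) (B := S) ⟨p, ‹_›⟩
  have hqp' : q.under R = p := congrArg PrimeSpectrum.asIdeal hqp
  subst hqp'
  exact (isRegularLocalRing_localization_iff hU q).mpr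
    (hS q (by rw [height_eq_height_under hU q]; exact hp))

theorem hasSk_iff (k : ℕ) [Module.FaithfullyFlat R S]
    (hU : ∀ (q : Ideal S) [q.IsPrime], (q.under R).map (algebraMap R (Localization.AtPrime q)) =
      maximalIdeal (Localization.AtPrime q)) : LocCoh.HasSk k S S ↔ LocCoh.HasSk k R R := by
  rw [Groth.Agent.Lib.Helper4.hasSk_self_iff', Groth.Agent.Lib.Helper4.hasSk_self_iff']
  constructor
  · intro hS p _
    obtain ⟨⟨q, hq⟩, hqp⟩ :=
      PrimeSpectrum.comap_surjective_of_faithfullyFlat (A := R) (B := S) ⟨p, ‹_›⟩
    have hqp' : q.under R = p := congrArg PrimeSpectrum.asIdeal hqp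
    subst hqp'
    rw [← height_eq_height_under hU q, ← depth_localization_eq hU q]
    exact hS q
  · intro hR q _
    rw [height_eq_height_under hU q, depth_localization_eq hU q]
    exact hR (q.under R)

end G

section

variable (R : Type u) [CommRing R] [IsLocalRing R] [IsNoetherianRing R]
  (S : Type u) [CommRing S] [IsLocalRing S] [Algebra R S] [IsLocalHom (algebraMap R S)]

theorem henselization_hasRk_iff [Hensel.IsHenselization R S] (k : ℕ) :
    LocCoh.HasRk k S ↔ LocCoh.HasRk k R := by
  have : IsNoetherianRing S := (henselization_isNoetherianRing_iff R S).mp inferInstance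
  have := henselization_faithfullyFlat R S
  exact hasRk_iff k fun q _ => (henselization_indEtaleLike R S).map_under_eq_maximalIdeal q

theorem henselization_hasSk_iff [Hensel.IsHenselization R S] (k : ℕ) :
    LocCoh.HasSk k S S ↔ LocCoh.HasSk k R R := by
  have : IsNoetherianRing S := (henselization_isNoetherianRing_iff R S).mp inferInstance
  have := henselization_faithfullyFlat R S
  exact hasSk_iff k fun q _ => (henselization_indEtaleLike R S).map_under_eq_maximalIdeal q

theorem strictHenselization_hasRk_iff [Hensel.IsStrictHenselization R S] (k : ℕ) :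
    LocCoh.HasRk k S ↔ LocCoh.HasRk k R := by
  have : IsNoetherianRing S := (strictHenselization_isNoetherianRing_iff R S).mp inferInstance
  have := strictHenselization_faithfullyFlat R S
  exact hasRk_iff k fun q _ => (strictHenselization_indEtaleLike R S).map_under_eq_maximalIdeal q

theorem strictHenselization_hasSk_iff [Hensel.IsStrictHenselization R S] (k : ℕ) :
    LocCoh.HasSk k S S ↔ LocCoh.HasSk k R R := by
  have : IsNoetherianRing S := (strictHenselization_isNoetherianRing_iff R S).mp inferInstance
  have := strictHenselization_faithfullyFlat R S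
  exact hasSk_iff k fun q _ => (strictHenselization_indEtaleLike R S).map_under_eq_maximalIdeal q

end

end Groth.Agent.Lib.Helper8.Hzl
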