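import Mathlib
import Groth.Agent.Lib.Helper8.Hzl.IndEtaleFlat

/-!
# Ind-étale-like algebras are weakly étale
-/

set_option autoImplicit false
universe u
open IsLocalRing TensorProduct

namespace Groth.Agent.Lib.Helper8.Hzl

variable {R S : Type u} [CommRing R] [CommRing S] [Algebra R S]

/-- Base change of an ind-étale-like algebra. -/
theorem IndEtaleLike.baseChange (h : IndEtaleLike R S) (T : Type u) [CommRing T] [Algebra R T] :
    IndEtaleLike T (T ⊗[R] S) := by
  intro z
  induction z using TensorProduct.induction_on with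
  | zero =>
    exact ⟨T, inferInstance, inferInstance, inferInstance, Algebra.ofId T _, 0, 1,
      by rw [map_one]; exact isUnit_one, by simp⟩
  | tmul a b =>
    obtain ⟨E, _, _, _, ι, e, t, ht, he⟩ := h b
    refine ⟨T ⊗[R] E, inferInstance, inferInstance, inferInstance,
      Algebra.TensorProduct.map (AlgHom.id T T) ι, a ⊗ₜ e, 1 ⊗ₜ t, ?_, ?_⟩
    · rw [Algebra.TensorProduct.map_tmul, AlgHom.id_apply]
      obtain ⟨u, hu⟩ := ht
      refine ⟨⟨1 ⊗ₜ (u : S), 1 ⊗ₜ ((u⁻¹ : Sˣ) : S), ?_, ?_⟩, ?_⟩
      · rw [Algebra.TensorProduct.tmul_mul_tmul, one_mul, Units.mul_inv]; rfl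
      · rw [Algebra.TensorProduct.tmul_mul_tmul, one_mul, Units.inv_mul]; rfl
      · simp [hu]
    · rw [Algebra.TensorProduct.map_tmul, Algebra.TensorProduct.map_tmul, AlgHom.id_apply,
        AlgHom.id_apply, Algebra.TensorProduct.tmul_mul_tmul, mul_one, he]
  | add x y hx hy =>
    obtain ⟨E, _, _, _, ι, e, t, ht, he⟩ := hx
    obtain ⟨E', _, _, _, ι', e', t', ht', he'⟩ := hy
    have : Algebra.Etale T (E ⊗[T] E') := Algebra.Etale.comp T E _
    refine ⟨E ⊗[T] E', inferInstance, inferInstance, inferInstance,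
      Algebra.TensorProduct.lift ι ι' (fun _ _ => Commute.all _ _),
      e ⊗ₜ t' + t ⊗ₜ e', t ⊗ₜ t', ?_, ?_⟩
    · rw [Algebra.TensorProduct.lift_tmul]
      exact ht.mul ht'
    · rw [map_add, Algebra.TensorProduct.lift_tmul, Algebra.TensorProduct.lift_tmul,
        Algebra.TensorProduct.lift_tmul, ← he, ← he']
      ring

/-- An ind-étale-like flat algebra is weakly étale. -/
theorem IndEtaleLike.weaklyEtale (h : IndEtaleLike R S) [Module.Flat R S] :
    Algebra.WeaklyEtale R S where
  flat_lmul' := by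
    have h1 : IndEtaleLike S (S ⊗[R] S) := h.baseChange S
    letI alg : Algebra (S ⊗[R] S) S :=
      (Algebra.TensorProduct.lmul' R (S := S)).toRingHom.toAlgebra
    have htower : IsScalarTower S (S ⊗[R] S) S := IsScalarTower.of_algebraMap_eq (fun s => by
      change s = Algebra.TensorProduct.lmul' R (S := S) (s ⊗ₜ 1)
      simp)
    exact h1.flat_of_flat S

end Groth.Agent.Lib.Helper8.Hzl
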