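import Mathlib
import Groth.Agent.Lib.Helper8.Hzl.Colimit

/-!
# Maps out of the colimit of pointed local-étale algebras; formal étaleness
-/

open IsLocalRing TensorProduct Polynomial

universe u

namespace Groth.Agent.Lib.Helper8.Hzl

variable {R : Type u} [CommRing R] {Ω : Type u} [Field Ω] [Algebra R Ω]

/-- Maps out of the colimit. -/
noncomputable def liftAlg {C : Type*} [CommRing C] [Algebra R C] (h : ∀ i : Idx R Ω, i.B →ₐ[R] C)
    (hc : ∀ (i j : Idx R Ω) (hij : i ≤ j) (b : i.B), h j (Idx.tr i j hij b) = h i b) :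
    Hz R Ω →ₐ[R] C :=
  { Ring.DirectLimit.lift (fun i : Idx R Ω => i.B) (fun i j h => trR R Ω i j h) C
      (fun i : Idx R Ω => (h i : i.B →+* C)) (fun i j hij x => hc i j hij x) with
    commutes' := fun r => by
      rw [algebraMap_eq (Classical.arbitrary _)]
      simp [ofHom] }

@[simp]
lemma liftAlg_ofHom {C : Type*} [CommRing C] [Algebra R C] (h : ∀ i : Idx R Ω, i.B →ₐ[R] C)
    (hc : ∀ (i j : Idx R Ω) (hij : i ≤ j) (b : i.B), h j (Idx.tr i j hij b) = h i b)
    (i : Idx R Ω) (b : i.B) : liftAlg h hc (ofHom R Ω i b) = h i b := by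
  simp [liftAlg, ofHom]

lemma algHom_ext' {C : Type*} [CommRing C] [Algebra R C] {g₁ g₂ : Hz R Ω →ₐ[R] C}
    (h : ∀ i : Idx R Ω, g₁.comp (ofAlg i) = g₂.comp (ofAlg i)) : g₁ = g₂ := by
  apply AlgHom.coe_ringHom_injective
  apply Ring.DirectLimit.hom_ext
  intro i
  ext b
  exact DFunLike.congr_fun (h i) b

instance : Algebra.FormallyEtale R (Hz R Ω) := by
  rw [Algebra.FormallyEtale.iff_comp_bijective]
  intro C _ _ I hI
  have hbij : ∀ i : Idx R Ω, Function.Bijective
      ((Ideal.Quotient.mkₐ R I).comp : (i.B →ₐ[R] C) → i.B →ₐ[R] C ⧸ I) :=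
    fun i => Algebra.FormallyEtale.comp_bijective R i.B I hI
  constructor
  · intro g₁ g₂ h
    apply algHom_ext'
    intro i
    apply (hbij i).1
    change (Ideal.Quotient.mkₐ R I).comp (g₁.comp (ofAlg i)) =
      (Ideal.Quotient.mkₐ R I).comp (g₂.comp (ofAlg i))
    rw [← AlgHom.comp_assoc, ← AlgHom.comp_assoc]
    exact congrArg (fun g => g.comp (ofAlg i)) h
  · intro g
    choose h hh using fun i => (hbij i).2 (g.comp (ofAlg i))
    have hcompat : ∀ (i j : Idx R Ω) (hij : i ≤ j) (b : i.B),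
        h j (Idx.tr i j hij b) = h i b := by
      intro i j hij b
      have h1 : (h j).comp (Idx.tr i j hij) = h i := by
        apply (hbij i).1
        change (Ideal.Quotient.mkₐ R I).comp ((h j).comp (Idx.tr i j hij)) =
          (Ideal.Quotient.mkₐ R I).comp (h i)
        rw [← AlgHom.comp_assoc, hh, hh]
        ext b
        simp [ofHom_tr]
      exact DFunLike.congr_fun h1 b
    refine ⟨liftAlg h hcompat, ?_⟩
    apply algHom_ext'
    intro i
    rw [AlgHom.comp_assoc]
    have h2 : (liftAlg h hcompat).comp (ofAlg i) = h i := by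
      ext b; simp
    rw [h2, hh]

end Groth.Agent.Lib.Helper8.Hzl
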