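import Mathlib
import Groth.Prelude.Def_PBC
import Groth.Agent.Lib.Helper8.Hzl.IndEtaleWE

/-!
# From the categorical `EtPBC.IsIndEtale` to concrete data
-/

set_option autoImplicit false
universe u
open CategoryTheory Limits

namespace Groth.Agent.Lib.Helper8.Hzl

/-- Concrete data extracted from `EtPBC.IsIndEtale`. -/
theorem exists_concrete_of_isIndEtale (A B : Type u) [CommRing A] [CommRing B] [Algebra A B]
    (h : EtPBC.IsIndEtale A B) :
    ∃ (J : Type u) (_ : SmallCategory J) (_ : IsFiltered J) (E : J → Type u)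
      (_ : ∀ j, CommRing (E j)) (_ : ∀ j, Algebra A (E j)) (_ : ∀ j, Algebra.Etale A (E j))
      (tr : ∀ {j k : J}, (j ⟶ k) → (E j →ₐ[A] E k)) (φ : ∀ j, E j →ₐ[A] B),
      (∀ (j k : J) (f : j ⟶ k) (x : E j), φ k (tr f x) = φ j x) ∧
      (∀ b : B, ∃ (j : J) (x : E j), φ j x = b) ∧
      (∀ (j : J) (x : E j), φ j x = 0 → ∃ (k : J) (f : j ⟶ k), tr f x = 0) ∧
      (∀ (T : Type u) [CommRing T] [Algebra A T] (ψ : ∀ j, E j →ₐ[A] T),
        (∀ (j k : J) (f : j ⟶ k) (x : E j), ψ k (tr f x) = ψ j x) →
          ∃ Ψ : B →ₐ[A] T, ∀ (j : J) (x : E j), Ψ (φ j x) = ψ j x) := by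
  obtain ⟨J, _, _, D, c, hc, hD, ⟨e⟩⟩ := h
  let F := Under.forget (CommRingCat.of A) ⋙ forget CommRingCat
  have hcT : IsColimit (F.mapCocone c) := isColimitOfPreserves F hc
  letI alg : ∀ j, Algebra A (D.obj j).right := fun j => (D.obj j).hom.hom.toAlgebra
  let tr : ∀ {j k : J}, (j ⟶ k) → ((D.obj j).right →ₐ[A] (D.obj k).right) := fun {j k} f =>
    { toRingHom := (D.map f).right.hom
      commutes' := fun a => by
        have := Under.w (D.map f)
        exact DFunLike.congr_fun (congrArg CommRingCat.Hom.hom this) a }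
  let φ : ∀ j, (D.obj j).right →ₐ[A] B := fun j =>
    { toRingHom := (e.hom.right.hom).comp (c.ι.app j).right.hom
      commutes' := fun a => by
        have h1 := Under.w (c.ι.app j)
        have h2 := Under.w e.hom
        have h1' := DFunLike.congr_fun (congrArg CommRingCat.Hom.hom h1) a
        have h2' := DFunLike.congr_fun (congrArg CommRingCat.Hom.hom h2) a
        simp only [RingHom.toMonoidHom_eq_coe, OneHom.toFun_eq_coe, MonoidHom.toOneHom_coe,
          MonoidHom.coe_coe, RingHom.coe_comp, Function.comp_apply]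
        change e.hom.right.hom ((c.ι.app j).right.hom ((D.obj j).hom.hom a)) = _
        erw [h1', h2']
        rfl }
  refine ⟨J, inferInstance, inferInstance, fun j => (D.obj j).right, inferInstance, alg, hD,
    tr, φ, ?_, ?_, ?_, ?_⟩
  · intro j k f x
    have := c.w f
    have h3 := congrArg (fun g => g.right.hom x) this
    change e.hom.right.hom ((c.ι.app k).right.hom ((D.map f).right.hom x)) =
      e.hom.right.hom ((c.ι.app j).right.hom x)
    congr 1
  · intro b
    obtain ⟨j, x, hx⟩ := Types.jointly_surjective_of_isColimit hcT (e.inv.right.hom b)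
    refine ⟨j, x, ?_⟩
    change e.hom.right.hom ((c.ι.app j).right.hom x) = b
    have h4 : (c.ι.app j).right.hom x = e.inv.right.hom b := hx
    rw [h4]
    have h5 := congrArg (fun g => g.right.hom b) e.inv_hom_id
    exact h5
  · intro j x hx
    have h6 : (c.ι.app j).right.hom x = (c.ι.app j).right.hom 0 := by
      rw [map_zero]
      have h7 : e.hom.right.hom ((c.ι.app j).right.hom x) = 0 := hx
      have h8 := congrArg (e.inv.right.hom) h7
      rw [map_zero] at h8
      have h9 := congrArg (fun g => g.right.hom ((c.ι.app j).right.hom x)) e.hom_inv_id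
      exact h9.symm.trans h8
    obtain ⟨k, f, g, hfg⟩ := (Types.FilteredColimit.isColimit_eq_iff _ hcT).mp h6
    refine ⟨k, f, ?_⟩
    change (D.map f).right.hom x = 0
    have h10 : (D.map f).right.hom x = (D.map g).right.hom 0 := hfg
    rw [h10, map_zero]
  · intro T _ _ ψ hψ
    let s : Cocone D :=
      { pt := Under.mk (CommRingCat.ofHom (algebraMap A T))
        ι :=
          { app := fun j => Under.homMk (CommRingCat.ofHom (ψ j).toRingHom) (by
              ext a
              exact (ψ j).commutes a)
            naturality := fun j k f => by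
              ext x
              exact hψ j k f x } }
    refine ⟨{ toRingHom := ((hc.desc s).right.hom).comp e.inv.right.hom, commutes' := ?_ }, ?_⟩
    · intro a
      have h1 := Under.w e.inv
      have h2 := Under.w (hc.desc s)
      have h1' := DFunLike.congr_fun (congrArg CommRingCat.Hom.hom h1) a
      have h2' := DFunLike.congr_fun (congrArg CommRingCat.Hom.hom h2) a
      change (hc.desc s).right.hom (e.inv.right.hom (algebraMap A B a)) = algebraMap A T a
      have h3 : e.inv.right.hom (algebraMap A B a) = c.pt.hom.hom a := h1'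
      rw [h3]
      exact h2'
    · intro j x
      change (hc.desc s).right.hom (e.inv.right.hom (e.hom.right.hom ((c.ι.app j).right.hom x))) =
        ψ j x
      have h4 := congrArg (fun g => g.right.hom ((c.ι.app j).right.hom x)) e.hom_inv_id
      have h4' : e.inv.right.hom (e.hom.right.hom ((c.ι.app j).right.hom x)) =
          (c.ι.app j).right.hom x := h4
      rw [h4']
      have h5 := congrArg (fun g => g.right.hom x) (hc.fac s j)
      exact h5

/-- An ind-étale algebra (in the categorical sense) is ind-étale-like and flat. -/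
theorem indEtaleLike_and_flat_of_isIndEtale (A B : Type u) [CommRing A] [CommRing B] [Algebra A B]
    (h : EtPBC.IsIndEtale A B) : IndEtaleLike A B ∧ Module.Flat A B := by
  obtain ⟨J, _, _, E, _, _, _, tr, φ, hφ, hsurj, hzero, -⟩ := exists_concrete_of_isIndEtale A B h
  refine ⟨fun b => ?_, ?_⟩
  · obtain ⟨j, x, rfl⟩ := hsurj b
    exact ⟨E j, inferInstance, inferInstance, inferInstance, φ j, x, 1, by simp, by simp⟩
  · apply Module.Flat.of_forall_isTrivialRelation
    intro l f x hfx
    classical
    choose k y hy using fun i => hsurj (x i)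
    obtain ⟨k₀, hk₀⟩ := IsFiltered.sup_objs_exists (Finset.univ.image k)
    have hk : ∀ i, Nonempty (k i ⟶ k₀) := fun i =>
      hk₀ (Finset.mem_image_of_mem _ (Finset.mem_univ i))
    let g : ∀ i, k i ⟶ k₀ := fun i => (hk i).some
    obtain ⟨y', hy'def⟩ : ∃ y' : Fin l → E k₀, y' = fun i => tr (g i) (y i) := ⟨_, rfl⟩
    have hy' : ∀ i, φ k₀ (y' i) = x i := fun i => by rw [hy'def, hφ, hy]
    have h0 : φ k₀ (∑ i, f i • y' i) = 0 := by
      rw [map_sum, ← hfx]
      refine Finset.sum_congr rfl fun i _ => ?_
      rw [map_smul, hy']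
    obtain ⟨k₁, g₁, h1⟩ := hzero k₀ _ h0
    have h2 : ∑ i, f i • tr g₁ (y' i) = 0 := by
      rw [← h1, map_sum]
      refine Finset.sum_congr rfl fun i _ => ?_
      rw [map_smul]
    have : Module.Flat A (E k₁) := inferInstance
    obtain ⟨κ, a, z, hz, ha⟩ :=
      Module.Flat.isTrivialRelation_of_sum_smul_eq_zero (R := A) (M := E k₁) h2
    refine ⟨κ, a, fun c => φ k₁ (z c), fun i => ?_, ha⟩
    have hz' : tr g₁ (y' i) = ∑ c, a i c • z c := hz i
    change x i = ∑ c, a i c • φ k₁ (z c)
    rw [← hy', ← hφ k₀ k₁ g₁, hz', map_sum]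
    refine Finset.sum_congr rfl fun c _ => ?_
    rw [map_smul]

/-- Ind-étale implies weakly étale. -/
theorem weaklyEtale_of_isIndEtale (A B : Type u) [CommRing A] [CommRing B] [Algebra A B]
    (h : EtPBC.IsIndEtale A B) : Algebra.WeaklyEtale A B := by
  obtain ⟨h1, h2⟩ := indEtaleLike_and_flat_of_isIndEtale A B h
  exact h1.weaklyEtale

end Groth.Agent.Lib.Helper8.Hzl
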