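import Mathlib
import Groth.Agent.Lib.Helper8.HenselHom
import Groth.Agent.Lib.Helper8.Hzl.IndEtaleCat

/-!
# Maps from ind-étale algebras to henselian local rings are determined by the residue field
-/

set_option autoImplicit false
universe u
open IsLocalRing CategoryTheory Limits

namespace Groth.Agent.Lib.Helper8.Hzl

section

variable {R T K : Type u} [CommRing R] [CommRing T] [Field K] [HenselianLocalRing T]
  [Algebra R T] [Algebra R K] (v : T →ₐ[R] K)

/-- Maps from an étale algebra to a henselian local ring are determined by the composite to a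
field identified with the residue field. -/
theorem existsUnique_algHom_of_etale (hv : Function.Surjective v)
    (hkv : RingHom.ker v.toRingHom = maximalIdeal T)
    (E : Type u) [CommRing E] [Algebra R E] [Algebra.Etale R E] (χ : E →ₐ[R] K) :
    ∃! ψ : E →ₐ[R] T, v.comp ψ = χ := by
  have hb := algHom_residue_bijective R E T
  -- a section of `v`
  have key : ∀ t t' : T, v t = v t' → residue T t = residue T t' := fun t t' h => by
    rw [← sub_eq_zero, ← map_sub, residue_eq_zero_iff, ← hkv, RingHom.mem_ker]
    change v (t - t') = 0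
    rw [map_sub, h, sub_self]
  have key' : ∀ t t' : T, residue T t = residue T t' → v t = v t' := fun t t' h => by
    rw [← sub_eq_zero, ← map_sub, residue_eq_zero_iff, ← hkv, RingHom.mem_ker] at h
    have h' : v (t - t') = 0 := h
    rw [map_sub, sub_eq_zero] at h'
    exact h'
  choose σ hσ using hv
  -- the map `E → κ(T)`
  let χ' : E →ₐ[R] ResidueField T :=
    { toFun := fun x => residue T (σ (χ x))
      map_one' := by
        apply key _ _
        rw [hσ, map_one, map_one]
      map_mul' := fun x y => by
        rw [← map_mul]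
        apply key
        rw [hσ, map_mul, map_mul, hσ, hσ]
      map_zero' := by
        rw [← map_zero (residue T)]
        apply key
        rw [hσ, map_zero, map_zero]
      map_add' := fun x y => by
        rw [← map_add]
        apply key
        rw [hσ, map_add, map_add, hσ, hσ]
      commutes' := fun r => by
        change residue T (σ (χ (algebraMap R E r))) = algebraMap R (ResidueField T) r
        rw [IsScalarTower.algebraMap_apply R T (ResidueField T)]
        apply key
        rw [hσ, AlgHom.commutes, AlgHom.commutes] }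
  obtain ⟨ψ, hψ⟩ := hb.2 χ'
  have hψ' : ∀ x, residue T (ψ x) = residue T (σ (χ x)) := fun x => DFunLike.congr_fun hψ x
  refine ⟨ψ, ?_, ?_⟩
  · ext x
    change v (ψ x) = χ x
    rw [key' _ _ (hψ' x), hσ]
  · intro ψ' h'
    apply hb.1
    ext x
    change residue T (ψ' x) = residue T (ψ x)
    apply key
    have h1 : v (ψ' x) = χ x := DFunLike.congr_fun h' x
    rw [h1, key' _ _ (hψ' x), hσ]

/-- Maps from an ind-étale algebra to a henselian local ring are determined by the composite to a
field identified with the residue field. -/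
theorem existsUnique_algHom_of_isIndEtale (hv : Function.Surjective v)
    (hkv : RingHom.ker v.toRingHom = maximalIdeal T)
    (B : Type u) [CommRing B] [Algebra R B] (hB : EtPBC.IsIndEtale R B) (w : B →ₐ[R] K) :
    ∃! Ψ : B →ₐ[R] T, v.comp Ψ = w := by
  obtain ⟨J, _, _, E, _, _, _, tr, φ, hφ, hsurj, -, huniv⟩ := exists_concrete_of_isIndEtale R B hB
  have hL := fun j (χ : E j →ₐ[R] K) => existsUnique_algHom_of_etale v hv hkv (E j) χ
  choose ψ hψ hψu using fun j => hL j (w.comp (φ j))
  have hcompat : ∀ (j k : J) (f : j ⟶ k) (x : E j), ψ k (tr f x) = ψ j x := by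
    intro j k f x
    have h1 : (ψ k).comp (tr f) = ψ j := by
      apply hψu j
      ext y
      change v (ψ k (tr f y)) = w (φ j y)
      have h2 : v (ψ k (tr f y)) = w (φ k (tr f y)) := DFunLike.congr_fun (hψ k) (tr f y)
      rw [h2, hφ]
    exact DFunLike.congr_fun h1 x
  obtain ⟨Ψ, hΨ⟩ := huniv T ψ hcompat
  refine ⟨Ψ, ?_, ?_⟩
  · ext b
    obtain ⟨j, x, rfl⟩ := hsurj b
    change v (Ψ (φ j x)) = w (φ j x)
    rw [hΨ]
    exact DFunLike.congr_fun (hψ j) x
  · intro Ψ' h'
    ext b
    obtain ⟨j, x, rfl⟩ := hsurj b
    rw [hΨ]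
    have h1 : Ψ'.comp (φ j) = ψ j := by
      apply hψu j
      ext y
      change v (Ψ' (φ j y)) = w (φ j y)
      exact DFunLike.congr_fun h' (φ j y)
    exact DFunLike.congr_fun h1 x

end

/-- Two henselian local ind-étale algebras with the same residue field are uniquely isomorphic. -/
theorem existsUnique_algEquiv_of_isIndEtale (R S S' K : Type u) [CommRing R]
    [CommRing S] [CommRing S'] [Field K] [HenselianLocalRing S] [HenselianLocalRing S']
    [Algebra R S] [Algebra R S'] [Algebra R K] (hS : EtPBC.IsIndEtale R S)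
    (hS' : EtPBC.IsIndEtale R S')
    (u : S →ₐ[R] K) (u' : S' →ₐ[R] K) (hu : Function.Surjective u) (hu' : Function.Surjective u')
    (hku : RingHom.ker u.toRingHom = maximalIdeal S)
    (hku' : RingHom.ker u'.toRingHom = maximalIdeal S') :
    ∃! e : S ≃ₐ[R] S', u'.comp (e : S →ₐ[R] S') = u := by
  obtain ⟨f, hf, hfu⟩ := existsUnique_algHom_of_isIndEtale u' hu' hku' S hS u
  obtain ⟨g, hg, -⟩ := existsUnique_algHom_of_isIndEtale u hu hku S' hS' u'
  have hgf : g.comp f = AlgHom.id R S := by
    obtain ⟨i, -, hiu⟩ := existsUnique_algHom_of_isIndEtale u hu hku S hS u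
    rw [hiu (g.comp f) (by change u.comp (g.comp f) = u; rw [← AlgHom.comp_assoc, hg, hf]),
      hiu (AlgHom.id R S) (by change u.comp (AlgHom.id R S) = u; simp)]
  have hfg : f.comp g = AlgHom.id R S' := by
    obtain ⟨i, -, hiu⟩ := existsUnique_algHom_of_isIndEtale u' hu' hku' S' hS' u'
    rw [hiu (f.comp g) (by change u'.comp (f.comp g) = u'; rw [← AlgHom.comp_assoc, hf, hg]),
      hiu (AlgHom.id R S') (by change u'.comp (AlgHom.id R S') = u'; simp)]
  refine ⟨AlgEquiv.ofAlgHom f g hfg hgf, ?_, ?_⟩
  · ext x
    exact DFunLike.congr_fun hf x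
  · intro e' he'
    have h1 : (e' : S →ₐ[R] S') = f := hfu _ he'
    ext x
    exact DFunLike.congr_fun h1 x

end Groth.Agent.Lib.Helper8.Hzl
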