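import Mathlib
import Groth.Prelude
import Groth.Agent.Lib.Helper8.Hzl.Normal
import Groth.Agent.Lib.Helper8.Hzl.Dim
import Groth.Agent.Lib.Helper8.Hzl.Noeth
import Groth.Agent.Lib.Helper8.Hzl.Noeth2

/-!
# Discrete valuation rings and (strict) henselization
-/

set_option autoImplicit false
universe u
open IsLocalRing

namespace Groth.Agent.Lib.Helper8.Hzl

theorem isDVR_iff_normal_dim_one (R : Type*) [CommRing R] [IsDomain R] [IsLocalRing R]
    [IsNoetherianRing R] :
    IsDiscreteValuationRing R ↔ IsIntegrallyClosed R ∧ ringKrullDim R = 1 := by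
  constructor
  · intro h
    exact ⟨inferInstance, IsDiscreteValuationRing.ringKrullDim_eq_one R⟩
  · rintro ⟨hi, hd⟩
    have hnf : ¬ IsField R := fun hf => by
      rw [ringKrullDim_eq_zero_of_isField hf] at hd
      exact zero_ne_one hd
    have hle : Ring.KrullDimLE 1 R := Ring.krullDimLE_iff.mpr hd.le
    have hmax : maximalIdeal R ≠ ⊥ := isField_iff_maximalIdeal_eq.not.mp hnf
    have h4 : IsIntegrallyClosed R ∧ ∃! P : Ideal R, P ≠ ⊥ ∧ P.IsPrime :=
      ⟨hi, maximalIdeal R, ⟨hmax, inferInstance⟩, fun P hP =>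
        eq_maximalIdeal (Ring.krullDimLE_one_iff_of_noZeroDivisors.mp hle P hP.1 hP.2)⟩
    exact ((IsDiscreteValuationRing.TFAE R hnf).out 3 0).mp h4

section

variable (R : Type u) [CommRing R] [IsLocalRing R] [IsNoetherianRing R]
  (S : Type u) [CommRing S] [IsLocalRing S] [Algebra R S] [IsLocalHom (algebraMap R S)]

theorem isDVR_iff_of_transfer (hnorm : (IsDomain R ∧ IsIntegrallyClosed R) ↔
      (IsDomain S ∧ IsIntegrallyClosed S)) (hnoeth : IsNoetherianRing S)
    (hdim : ringKrullDim S = ringKrullDim R) :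
    (∃ _ : IsDomain R, IsDiscreteValuationRing R) ↔
      (∃ _ : IsDomain S, IsDiscreteValuationRing S) := by
  constructor
  · rintro ⟨hd, hdvr⟩
    obtain ⟨hi, hdim1⟩ := (isDVR_iff_normal_dim_one R).mp hdvr
    obtain ⟨hdS, hiS⟩ := hnorm.mp ⟨hd, hi⟩
    exact ⟨hdS, (isDVR_iff_normal_dim_one S).mpr ⟨hiS, hdim.trans hdim1⟩⟩
  · rintro ⟨hd, hdvr⟩
    obtain ⟨hi, hdim1⟩ := (isDVR_iff_normal_dim_one S).mp hdvr
    obtain ⟨hdR, hiR⟩ := hnorm.mpr ⟨hd, hi⟩
    exact ⟨hdR, (isDVR_iff_normal_dim_one R).mpr ⟨hiR, hdim.symm.trans hdim1⟩⟩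

theorem henselization_isDVR_iff [Hensel.IsHenselization R S] :
    (∃ _ : IsDomain R, IsDiscreteValuationRing R) ↔
      (∃ _ : IsDomain S, IsDiscreteValuationRing S) :=
  isDVR_iff_of_transfer R S (henselization_normal_iff R S)
    ((henselization_isNoetherianRing_iff R S).mp inferInstance) (henselization_ringKrullDim R S)

theorem strictHenselization_isDVR_iff [Hensel.IsStrictHenselization R S] :
    (∃ _ : IsDomain R, IsDiscreteValuationRing R) ↔
      (∃ _ : IsDomain S, IsDiscreteValuationRing S) :=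
  isDVR_iff_of_transfer R S (strictHenselization_normal_iff R S)
    ((strictHenselization_isNoetherianRing_iff R S).mp inferInstance)
    (strictHenselization_ringKrullDim R S)

end

end Groth.Agent.Lib.Helper8.Hzl
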