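import Mathlib
import Groth.Agent.Lib.Helper8.Hzl.Transfer
import Groth.Agent.Lib.Helper8.Hzl.Lift

/-!
# The henselization is initial among maps to henselian pairs
-/

open IsLocalRing TensorProduct Polynomial

universe u

namespace Groth.Agent.Lib.Helper8.Hzl

lemma henselianLocalRing_of_ringEquiv {S S' : Type*} [CommRing S] [CommRing S'] (e : S ≃+* S')
    [HenselianLocalRing S] : HenselianLocalRing S' := by
  have hloc : IsLocalRing S' := e.isLocalRing
  have hmem : ∀ x : S', x ∈ maximalIdeal S' ↔ e.symm x ∈ maximalIdeal S := fun x => by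
    rw [mem_maximalIdeal, mem_nonunits_iff, mem_maximalIdeal, mem_nonunits_iff]
    exact not_congr (MulEquiv.isUnit_map (e.symm : S' ≃* S)).symm
  refine { hloc with is_henselian := ?_ }
  intro F hF a₀ h₁ h₂
  have e1 : ∀ p : S'[X], (p.map (e.symm : S' →+* S)).eval (e.symm a₀) = e.symm (p.eval a₀) :=
    fun p => by
      rw [Polynomial.eval_map, ← RingHom.coe_coe e.symm, Polynomial.eval₂_at_apply]
  obtain ⟨a, ha, ha'⟩ := HenselianLocalRing.is_henselian (F.map (e.symm : S' →+* S))
    (hF.map _) (e.symm a₀) (by rw [e1]; exact (hmem _).mp h₁)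
    (by
      rw [Polynomial.derivative_map, e1]
      exact (MulEquiv.isUnit_map (e.symm : S' ≃* S)).mpr h₂)
  refine ⟨e a, ?_, ?_⟩
  · have h3 : (F.map (e.symm : S' →+* S)).eval a = e.symm (F.eval (e a)) := by
      rw [Polynomial.eval_map]
      have := Polynomial.hom_eval₂ F (RingHom.id S') (e.symm : S' →+* S) (e a)
      simp only [RingHom.comp_id, Polynomial.eval₂_id, RingHom.coe_coe,
        RingEquiv.symm_apply_apply] at this
      exact this.symm
    rw [Polynomial.IsRoot.def] at ha ⊢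
    rw [h3] at ha
    exact e.symm.injective (by rw [ha, map_zero])
  · rw [hmem, map_sub, RingEquiv.symm_apply_apply]
    exact ha'

variable {R : Type u} [CommRing R] {Ω : Type u} [Field Ω] [Algebra R Ω]

section PairUniversal

variable [IsLocalRing R] [IsLocalHom (algebraMap R Ω)]
  (C : Type u) [CommRing C] [Algebra R C] (J : Ideal C) [HenselianRing C J]

omit [IsLocalHom (algebraMap R Ω)] [HenselianRing C J] in
lemma exists_θ (hsurj : Function.Surjective (algebraMap R Ω))
    (hJ : (maximalIdeal R).map (algebraMap R C) ≤ J) : Nonempty (Ω →ₐ[R] C ⧸ J) := by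
  refine ⟨AlgHom.liftOfSurjective (Algebra.ofId R Ω) hsurj (Algebra.ofId R (C ⧸ J)) ?_⟩
  intro r hr
  rw [RingHom.mem_ker] at hr ⊢
  have hr' : algebraMap R Ω r = 0 := hr
  have h1 : r ∈ maximalIdeal R := by
    rw [mem_maximalIdeal, mem_nonunits_iff]
    intro hu
    have := hu.map (algebraMap R Ω)
    rw [hr'] at this
    exact not_isUnit_zero this
  have h2 : algebraMap R C r ∈ J := hJ (Ideal.mem_map_of_mem _ h1)
  change algebraMap R (C ⧸ J) r = 0
  rw [IsScalarTower.algebraMap_apply R C (C ⧸ J)]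
  exact Ideal.Quotient.eq_zero_iff_mem.mpr h2

lemma exists_algHom_E (hsurj : Function.Surjective (algebraMap R Ω))
    (θ : Ω →ₐ[R] C ⧸ J) (i : Idx R Ω) :
    ∃ h : i.E →ₐ[R] C, ∀ e, Ideal.Quotient.mk J (h e) = θ (i.χ e) := by
  obtain ⟨r₀, hr₀⟩ := hsurj i.a
  have hθ : ∀ r : R, θ (algebraMap R Ω r) = Ideal.Quotient.mk J (algebraMap R C r) := fun r => by
    rw [θ.commutes, IsScalarTower.algebraMap_apply R C (C ⧸ J)]
    rfl
  have key : ∀ p : R[X], θ (aeval i.a p) =
      Ideal.Quotient.mk J ((p.map (algebraMap R C)).eval (algebraMap R C r₀)) := fun p => by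
    rw [← hr₀, Polynomial.aeval_algebraMap_apply, hθ, Polynomial.coe_aeval_eq_eval,
      Polynomial.eval_map, Polynomial.eval₂_at_apply]
  have h1 : ((i.P.f).map (algebraMap R C)).eval (algebraMap R C r₀) ∈ J := by
    rw [← Ideal.Quotient.eq_zero_iff_mem, ← key, i.h.1, map_zero]
  have h2 : IsUnit (Ideal.Quotient.mk J
      ((i.P.f.map (algebraMap R C)).derivative.eval (algebraMap R C r₀))) := by
    rw [Polynomial.derivative_map, ← key]
    exact i.h.isUnit_derivative_f.map θ
  obtain ⟨c, hc, hca⟩ := HenselianRing.is_henselian (i.P.f.map (algebraMap R C))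
    (i.P.monic_f.map _) (algebraMap R C r₀) h1 h2
  have hmk : Ideal.Quotient.mk J c = Ideal.Quotient.mk J (algebraMap R C r₀) :=
    Ideal.Quotient.eq.mpr hca
  have hloc : IsLocalHom (Ideal.Quotient.mk J) :=
    isLocalHom_of_le_jacobson_bot J (HenselianRing.jac)
  have hmap : i.P.HasMap c := by
    refine ⟨?_, ?_⟩
    · rw [Polynomial.aeval_def, ← Polynomial.eval_map]
      exact hc
    · apply isUnit_of_map_unit (Ideal.Quotient.mk J)
      have h3 : Ideal.Quotient.mk J (aeval c i.P.g) = θ (aeval i.a i.P.g) := by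
        rw [key, Polynomial.aeval_def, ← Polynomial.eval_map]
        have e2 : ∀ x : C, Ideal.Quotient.mk J ((i.P.g.map (algebraMap R C)).eval x) =
            ((i.P.g.map (algebraMap R C)).map (Ideal.Quotient.mk J)).eval
              (Ideal.Quotient.mk J x) := fun x => (eval_map_hom (Ideal.Quotient.mk J) _ x).symm
        rw [e2, e2, hmk]
      rw [h3]
      exact i.h.2.map θ
  refine ⟨i.P.lift c hmap, ?_⟩
  have h4 : (Ideal.Quotient.mkₐ R J).comp (i.P.lift c hmap) = θ.comp i.χ := by
    apply StandardEtalePair.hom_ext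
    simp only [AlgHom.comp_apply, StandardEtalePair.lift_X, Ideal.Quotient.mkₐ_eq_mk, Idx.χ]
    rw [hmk, ← hθ, hr₀]
  exact fun e => DFunLike.congr_fun h4 e

lemma exists_algHom_B (hsurj : Function.Surjective (algebraMap R Ω))
    (θ : Ω →ₐ[R] C ⧸ J) (i : Idx R Ω) : Nonempty (i.B →ₐ[R] C) := by
  obtain ⟨h, hh⟩ := exists_algHom_E C J hsurj θ i
  have hloc : IsLocalHom (Ideal.Quotient.mk J) :=
    isLocalHom_of_le_jacobson_bot J (HenselianRing.jac)
  have hu : ∀ y : i.q.primeCompl, IsUnit (h y) := fun y => by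
    apply isUnit_of_map_unit (Ideal.Quotient.mk J)
    rw [hh]
    exact (i.isUnit_χ y).map θ
  exact ⟨IsLocalization.liftAlgHom (M := i.q.primeCompl) (f := h) hu⟩

lemma algHom_B_unique (hsurj : Function.Surjective (algebraMap R Ω))
    (hJ : (maximalIdeal R).map (algebraMap R C) ≤ J) (i : Idx R Ω) (h h' : i.B →ₐ[R] C) :
    h = h' := by
  apply algHom_eq_of_sub_mem_jacobson
  intro b
  apply HenselianRing.jac (I := J)
  obtain ⟨r, hr⟩ := hsurj (i.χB b)
  have h1 : b - algebraMap R i.B r ∈ (maximalIdeal R).map (algebraMap R i.B) := by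
    rw [i.map_maximalIdeal, ← Idx.χB_eq_zero_iff, map_sub, AlgHom.commutes, hr, sub_self]
  have h2 : ∀ g : i.B →ₐ[R] C, g (b - algebraMap R i.B r) ∈ J := fun g => by
    have h3 := Ideal.mem_map_of_mem (g : i.B →+* C) h1
    rw [Ideal.map_map, g.comp_algebraMap] at h3
    exact hJ h3
  have h4 : h b - h' b = h (b - algebraMap R i.B r) - h' (b - algebraMap R i.B r) := by
    rw [map_sub, map_sub, AlgHom.commutes, AlgHom.commutes]; ring
  rw [h4]
  exact sub_mem (h2 h) (h2 h')

/-- The colimit along a surjective point maps uniquely to every henselian pair. -/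
theorem existsUnique_algHom_pair (hsurj : Function.Surjective (algebraMap R Ω))
    (hJ : (maximalIdeal R).map (algebraMap R C) ≤ J) :
    ∃ g : Hz R Ω →ₐ[R] C, ∀ g' : Hz R Ω →ₐ[R] C, g' = g := by
  obtain ⟨θ⟩ := exists_θ C J hsurj hJ
  have hB := fun i : Idx R Ω => exists_algHom_B C J hsurj θ i
  let h : ∀ i : Idx R Ω, i.B →ₐ[R] C := fun i => (hB i).some
  refine ⟨liftAlg h (fun i j hij b => ?_), fun g' => ?_⟩
  · exact DFunLike.congr_fun
      (algHom_B_unique C J hsurj hJ i ((h j).comp (Idx.tr i j hij)) (h i)) b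
  · apply algHom_ext'
    intro i
    exact algHom_B_unique C J hsurj hJ i _ _

end PairUniversal

end Groth.Agent.Lib.Helper8.Hzl
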