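import Mathlib
import Groth.Prelude

/-!
# Base change of ind-étale algebras
-/


set_option autoImplicit false
open CategoryTheory CategoryTheory.Limits
universe u
open scoped TensorProduct

namespace Groth.Agent.Lib.Helper8.Hzl

lemma tensorProdObjIso_aux {R S : CommRingCat.{u}} [Algebra R S] (B : Type u) [CommRing B]
    (f : R →+* B) (inst : Algebra R B) (h : ∀ r, algebraMap R B r = f r) :
    Nonempty ((CommRingCat.tensorProd R S).obj (Under.mk (CommRingCat.ofHom f)) ≅
      Under.mk (CommRingCat.ofHom (algebraMap S (S ⊗[R] B)))) := by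
  have : inst = RingHom.toAlgebra f := Algebra.algebra_ext _ _ h
  subst this
  exact ⟨Iso.refl _⟩

lemma tensorProdObjIso {R S : CommRingCat.{u}} [Algebra R S] (X : Under R) (B : Type u) [CommRing B]
    [Algebra R B] (i : X ≅ Under.mk (CommRingCat.ofHom (algebraMap R B))) :
    Nonempty ((CommRingCat.tensorProd R S).obj X ≅
      Under.mk (CommRingCat.ofHom (algebraMap S (S ⊗[R] B)))) := by
  obtain ⟨j⟩ := tensorProdObjIso_aux (R := R) (S := S) B (algebraMap R B) inferInstance (fun _ => rfl)
  exact ⟨(CommRingCat.tensorProd R S).mapIso i ≪≫ j⟩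

instance {R S : CommRingCat.{u}} [Algebra R S] : PreservesColimitsOfSize.{u, u} (CommRingCat.tensorProd R S) := by
  have : (Under.pushout (CommRingCat.ofHom (algebraMap R S))).IsLeftAdjoint :=
    ⟨_, ⟨Under.mapPushoutAdj _⟩⟩
  exact preservesColimits_of_natIso (CommRingCat.tensorProdIsoPushout R S).symm

theorem isIndEtale_baseChange (A B A' : Type u) [CommRing A] [CommRing B] [CommRing A']
    [Algebra A B] [Algebra A A'] (h : EtPBC.IsIndEtale A B) :
    EtPBC.IsIndEtale A' (A' ⊗[A] B) := by
  obtain ⟨J, hJ, hJf, D, c, hc, hD, ⟨i⟩⟩ := h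
  let R : CommRingCat := CommRingCat.of A
  let S : CommRingCat := CommRingCat.of A'
  letI : Algebra R S := (inferInstance : Algebra A A')
  let F : Under R ⥤ Under S := CommRingCat.tensorProd R S
  obtain ⟨i'⟩ := tensorProdObjIso (R := R) (S := S) c.pt B i
  refine ⟨J, hJ, hJf, D ⋙ F, F.mapCocone c, isColimitOfPreserves F hc, fun j => ?_, ⟨i'⟩⟩
  letI := (D.obj j).hom.hom.toAlgebra
  have := hD j
  have h2 : ((D ⋙ F).obj j).hom.hom.toAlgebra =
      (inferInstance : Algebra A' (A' ⊗[A] (D.obj j).right)) := by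
    apply Algebra.algebra_ext
    intro r
    rfl
  rw [h2]
  exact (inferInstance : Algebra.Etale A' (A' ⊗[A] (D.obj j).right))

end Groth.Agent.Lib.Helper8.Hzl
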