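import Mathlib
import Groth.Prelude
import Groth.Agent.Lib.Helper8.Hzl.AtPrime

/-!
# The henselization of `R_p` as the colimit over pairs `(S, q)` with trivial residue extension
-/

set_option autoImplicit false

open IsLocalRing TensorProduct CategoryTheory Limits

universe u

namespace Groth.Agent.Lib.Helper8.Hzl

namespace AtPrime

variable {R : Type u} [CommRing R] {p : Ideal R} [p.IsPrime]

section pair

variable {S : Type u} [CommRing S] [Algebra R S] (q : Ideal S) [q.IsPrime]
  (hq : p = q.comap (algebraMap R S))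
  (hbij : Function.Bijective (Ideal.ResidueField.map p q (algebraMap R S) hq))

/-- The point of `S` with values in `κ(p)` defined by a prime with trivial residue field
extension. -/
noncomputable def pt : S →ₐ[R] p.ResidueField :=
  { ((RingEquiv.ofBijective _ hbij).symm : q.ResidueField →+* p.ResidueField).comp
      (algebraMap S q.ResidueField) with
    commutes' := fun r => by
      simp only [RingHom.toMonoidHom_eq_coe, OneHom.toFun_eq_coe, MonoidHom.toOneHom_coe,
        MonoidHom.coe_coe, RingHom.coe_comp, RingHom.coe_coe, Function.comp_apply]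
      rw [RingEquiv.symm_apply_eq]
      exact (Ideal.ResidueField.map_algebraMap p q _ hq r).symm }

lemma pt_apply (s : S) : pt q hq hbij s =
    (RingEquiv.ofBijective _ hbij).symm (algebraMap S q.ResidueField s) := rfl

lemma pt_eq_zero_iff (s : S) : pt q hq hbij s = 0 ↔ s ∈ q := by
  rw [pt_apply, map_eq_zero_iff _ (RingEquiv.injective _), Ideal.algebraMap_residueField_eq_zero]

/-- Any `R`-algebra map `S → κ(p)` with kernel `q` is the canonical one. -/
lemma eq_pt (χ : S →ₐ[R] p.ResidueField) (hχ : ∀ s, χ s = 0 ↔ s ∈ q) : χ = pt q hq hbij := by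
  let l : q.ResidueField →+* p.ResidueField :=
    Ideal.ResidueField.lift q χ.toRingHom (fun s hs => RingHom.mem_ker.mpr ((hχ s).mpr hs))
      (fun s hs => IsUnit.mk0 _ (fun h => hs ((hχ s).mp h)))
  have hl : ∀ s, l (algebraMap S q.ResidueField s) = χ s := fun s =>
    Ideal.ResidueField.lift_algebraMap _ _ _ _ s
  have hid : l.comp (Ideal.ResidueField.map p q (algebraMap R S) hq) = RingHom.id _ := by
    apply Ideal.ResidueField.ringHom_ext
    ext r
    simp only [RingHom.comp_apply, RingHom.id_apply]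
    rw [Ideal.ResidueField.map_algebraMap, hl, AlgHom.commutes]
  ext s
  rw [pt_apply, ← hl]
  have h1 := DFunLike.congr_fun hid ((RingEquiv.ofBijective _ hbij).symm (algebraMap S _ s))
  simp only [RingHom.comp_apply, RingHom.id_apply] at h1
  rw [← h1]
  congr 1
  exact ((RingEquiv.ofBijective _ hbij).apply_symm_apply _).symm

end pair

lemma Idx.comap_q (k : Idx R p.ResidueField) : p = k.q.comap (algebraMap R k.E) :=
  (Idx.under_q R p k).symm

lemma Idx.bijective (k : Idx R p.ResidueField) :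
    Function.Bijective (Ideal.ResidueField.map p k.q (algebraMap R k.E) (Idx.comap_q k)) := by
  refine ⟨RingHom.injective _, fun y => ?_⟩
  let l : k.q.ResidueField →+* p.ResidueField :=
    Ideal.ResidueField.lift k.q k.χ.toRingHom (fun s hs => RingHom.mem_ker.mpr (k.mem_q.mp hs))
      (fun s hs => IsUnit.mk0 _ (fun h => hs (k.mem_q.mpr h)))
  have hl : ∀ s, l (algebraMap k.E k.q.ResidueField s) = k.χ s := fun s =>
    Ideal.ResidueField.lift_algebraMap _ _ _ _ s
  have hid : l.comp (Ideal.ResidueField.map p k.q (algebraMap R k.E) (Idx.comap_q k)) =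
      RingHom.id _ := by
    apply Ideal.ResidueField.ringHom_ext
    ext r
    simp only [RingHom.comp_apply, RingHom.id_apply]
    rw [Ideal.ResidueField.map_algebraMap, hl, AlgHom.commutes]
  refine ⟨l y, l.injective ?_⟩
  exact DFunLike.congr_fun hid (l y)

lemma Idx.pt_eq (k : Idx R p.ResidueField) :
    pt k.q (Idx.comap_q k) (Idx.bijective k) = k.χ :=
  (eq_pt k.q _ _ k.χ (fun _ => k.mem_q.symm)).symm

section main

variable (S : Type u) [CommRing S] [Algebra R S] [Algebra.Etale R S] (q : Ideal S) [q.IsPrime]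
  (hq : p = q.comap (algebraMap R S))
  (hbij : Function.Bijective (Ideal.ResidueField.map p q (algebraMap R S) hq))

lemma comap_of_χS_comp (f : S →ₐ[R] H R p) (hf : ∀ s, χS R p.ResidueField (f s) = pt q hq hbij s) :
    (maximalIdeal (H R p)).comap f.toRingHom = q := by
  ext s
  rw [Ideal.mem_comap]
  change f s ∈ maximalIdeal (H R p) ↔ _
  rw [mem_maximalIdeal_iff, hf, pt_eq_zero_iff]

lemma χS_comp_of_comap (f : S →ₐ[R] H R p) (hf : (maximalIdeal (H R p)).comap f.toRingHom = q)
    (s : S) : χS R p.ResidueField (f s) = pt q hq hbij s := by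
  have h := eq_pt q hq hbij ((χS R p.ResidueField).comp f) (fun s => by
    rw [AlgHom.comp_apply, ← mem_maximalIdeal_iff, ← hf]
    rfl)
  exact DFunLike.congr_fun h s

include hbij in
theorem exists_nbhd : ∃ (k : Nbhd R p.ResidueField) (φ : S →ₐ[R] k.idx.E),
    (∀ s, k.idx.χ (φ s) = pt q hq hbij s) ∧
    (maximalIdeal (H R p)).comap ((Nbhd.toHz k).comp φ).toRingHom = q := by
  obtain ⟨k, φ, hφ⟩ := exists_dominating' S (pt q hq hbij)
  refine ⟨⟨k⟩, φ, hφ, comap_of_χS_comp S q hq hbij _ (fun s => ?_)⟩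
  rw [AlgHom.comp_apply, Nbhd.χS_toHz, hφ]

include hbij in
theorem algHom_unique (f₁ f₂ : S →ₐ[R] H R p)
    (h₁ : (maximalIdeal (H R p)).comap f₁.toRingHom = q)
    (h₂ : (maximalIdeal (H R p)).comap f₂.toRingHom = q) : f₁ = f₂ := by
  apply algHom_ext_residue
  intro e
  rw [← sub_eq_zero, ← map_sub, residue_eq_zero_iff, mem_maximalIdeal_iff, map_sub,
    χS_comp_of_comap S q hq hbij f₁ h₁, χS_comp_of_comap S q hq hbij f₂ h₂, sub_self]

include hbij in
theorem existsUnique_algHom_pair :
    ∃! f : S →ₐ[R] H R p, (maximalIdeal (H R p)).comap f.toRingHom = q := by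
  obtain ⟨k, φ, -, h⟩ := exists_nbhd S q hq hbij
  exact ⟨_, h, fun f hf => algHom_unique S q hq hbij f _ hf h⟩

include hbij in
theorem exists_kill (f : S →ₐ[R] H R p) (hf : (maximalIdeal (H R p)).comap f.toRingHom = q)
    (s : S) (hs : f s = 0) :
    ∃ (k : Nbhd R p.ResidueField) (φ : S →ₐ[R] k.idx.E),
      k.idx.q.comap φ.toRingHom = q ∧ φ s = 0 := by
  obtain ⟨k, φ, hφ, h⟩ := exists_nbhd S q hq hbij
  have hfe : f = (Nbhd.toHz k).comp φ := algHom_unique S q hq hbij _ _ hf h
  have h0 : Nbhd.toHz k (φ s) = 0 := by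
    rw [← AlgHom.comp_apply, ← hfe, hs]
  obtain ⟨k', m, hm⟩ := Nbhd.toHz_eq_zero _ h0
  refine ⟨k', m.toAlgHom.comp φ, ?_, hm⟩
  ext x
  rw [Ideal.mem_comap]
  change m.toAlgHom (φ x) ∈ k'.idx.q ↔ _
  rw [k'.idx.mem_q, m.comm, hφ, pt_eq_zero_iff]

end main

variable (R p) in
theorem exists_pair (x : H R p) : ∃ (k : Nbhd R p.ResidueField) (z : k.idx.E),
    (maximalIdeal (H R p)).comap (Nbhd.toHz k).toRingHom = k.idx.q ∧ Nbhd.toHz k z = x := by
  obtain ⟨k, z, rfl⟩ := Nbhd.toHz_surj x
  refine ⟨k, z, ?_, rfl⟩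
  ext s
  rw [Ideal.mem_comap]
  change Nbhd.toHz k s ∈ maximalIdeal (H R p) ↔ _
  rw [mem_maximalIdeal_iff, Nbhd.χS_toHz, k.idx.mem_q]

end AtPrime

end Groth.Agent.Lib.Helper8.Hzl
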