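import Mathlib
import Groth.Prelude
import Groth.Agent.S0505
import Groth.Agent.Lib.Helper8.HenselSplitConv
import Groth.Agent.Lib.Helper8.Hzl.QuasiFiniteLoc
import Groth.Agent.Lib.Helper8.Hzl.Main
import Groth.Agent.Lib.Helper8.Hzl.Transfer

/-!
# The strict henselization of a finite local algebra `B` over a local ring `A` is a local ring of
`B ⊗_A A^sh` (EGA IV 18.8.10): `FiniteSHens.isStrictHenselization_localization`,
`FiniteSHens.exists_maximal_equiv`.
-/

set_option autoImplicit false

open IsLocalRing TensorProduct

universe u

namespace Groth.Agent.Lib.Helper8.Hzl.FiniteSHens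

attribute [local instance] Algebra.TensorProduct.rightAlgebra

variable (A B S : Type u) [CommRing A] [IsLocalRing A]
  [CommRing B] [IsLocalRing B] [Algebra A B] [Module.Finite A B]
  [CommRing S] [IsLocalRing S] [Algebra A S] [IsLocalHom (algebraMap A S)]

instance finite_right : Module.Finite S (B ⊗[A] S) := by
  let f : S ⊗[A] B →ₗ[S] B ⊗[A] S :=
    { (TensorProduct.comm A S B).toLinearMap with
      map_smul' := fun s x => by
        induction x using TensorProduct.induction_on with
        | zero => simp
        | tmul s' b =>
          change (TensorProduct.comm A S B) (s • (s' ⊗ₜ[A] b)) = s • (TensorProduct.comm A S B) (s' ⊗ₜ[A] b)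
          rw [TensorProduct.smul_tmul', smul_eq_mul, TensorProduct.comm_tmul, TensorProduct.comm_tmul,
            Algebra.smul_def, Algebra.TensorProduct.right_algebraMap_apply,
            Algebra.TensorProduct.tmul_mul_tmul, one_mul]
        | add x y hx hy =>
          simp only [smul_add, map_add, AddHom.toFun_eq_coe, LinearMap.coe_toAddHom,
            LinearEquiv.coe_coe, RingHom.id_apply] at hx hy ⊢
          rw [hx, hy] }
  exact Module.Finite.of_surjective f (TensorProduct.comm A S B).surjective

variable (q : Ideal (B ⊗[A] S)) [hq : q.IsMaximal]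

omit [IsLocalRing A] [IsLocalRing B] [IsLocalHom (algebraMap A S)] in
theorem comap_right_eq : q.comap (algebraMap S (B ⊗[A] S)) = maximalIdeal S := by
  have h1 : (q.comap (algebraMap S (B ⊗[A] S))).IsMaximal :=
    Ideal.isMaximal_comap_of_isIntegral_of_isMaximal q
  exact eq_maximalIdeal h1

theorem comap_left_eq : q.comap (algebraMap B (B ⊗[A] S)) = maximalIdeal B := by
  have h2 := comap_right_eq A B S q
  have h3 : (q.comap (algebraMap B (B ⊗[A] S))).comap (algebraMap A B) = maximalIdeal A := by
    rw [Ideal.comap_comap, ← IsScalarTower.algebraMap_eq,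
      IsScalarTower.algebraMap_eq A S (B ⊗[A] S), ← Ideal.comap_comap, h2]
    exact IsLocalRing.maximalIdeal_comap (algebraMap A S)
  have h4 : ((q.comap (algebraMap B (B ⊗[A] S))).comap (algebraMap A B)).IsMaximal := by
    rw [h3]; infer_instance
  exact eq_maximalIdeal (Ideal.isMaximal_of_isIntegral_of_isMaximal_comap _ h4)

instance liesOver_right : q.LiesOver (maximalIdeal S) := ⟨(comap_right_eq A B S q).symm⟩


theorem isLocalHom_left : IsLocalHom (algebraMap B (Localization.AtPrime q)) := ⟨fun b hb => by
  rw [IsScalarTower.algebraMap_apply B (B ⊗[A] S) (Localization.AtPrime q),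
    IsLocalization.AtPrime.isUnit_to_map_iff _ q] at hb
  by_contra hnu
  have h1 : b ∈ maximalIdeal B := (mem_maximalIdeal b).mpr hnu
  rw [← comap_left_eq A B S q] at h1
  exact hb h1⟩

theorem isLocalHom_right : IsLocalHom (algebraMap S (Localization.AtPrime q)) := ⟨fun s hs => by
  rw [IsScalarTower.algebraMap_apply S (B ⊗[A] S) (Localization.AtPrime q),
    IsLocalization.AtPrime.isUnit_to_map_iff _ q] at hs
  by_contra hnu
  have h1 : s ∈ maximalIdeal S := (mem_maximalIdeal s).mpr hnu
  rw [← comap_right_eq A B S q] at h1
  exact hs h1⟩

variable [hS : Hensel.IsStrictHenselization A S]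

include hS in
theorem finite_localization : Module.Finite S (Localization.AtPrime q) := by
  have : HenselianLocalRing S := hS.henselian
  obtain ⟨J, hfin, hloc, hlocz⟩ := exists_finite_quotient_isLocalization S (B ⊗[A] S) q
  let e : Localization.AtPrime q ≃ₐ[B ⊗[A] S] (B ⊗[A] S) ⧸ J :=
    IsLocalization.algEquiv q.primeCompl _ _
  exact Module.Finite.equiv (e.symm.restrictScalars S).toLinearEquiv

include hS in
theorem henselian_localization : HenselianLocalRing (Localization.AtPrime q) := by
  have : HenselianLocalRing S := hS.henselian
  have := finite_localization A B S q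
  exact Groth.Agent.S0505.result S (Localization.AtPrime q)


include hS in
theorem isSepClosure_localization :
    letI := isLocalHom_left A B S q
    IsSepClosure (ResidueField B) (ResidueField (Localization.AtPrime q)) := by
  let _ := isLocalHom_left A B S q
  let _ := isLocalHom_right A B S q
  have := finite_localization A B S q
  have hsc : IsSepClosed (ResidueField S) := hS.isSepClosure.sep_closed
  have hsep : Algebra.IsSeparable (ResidueField A) (ResidueField S) := hS.isSepClosure.separable
  have : Module.Finite (ResidueField S) (ResidueField (Localization.AtPrime q)) := inferInstance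
  have : Algebra.IsAlgebraic (ResidueField S) (ResidueField (Localization.AtPrime q)) :=
    Algebra.IsAlgebraic.of_finite _ _
  have h1 : IsSepClosed (ResidueField (Localization.AtPrime q)) :=
    Algebra.IsAlgebraic.isSepClosed (F := ResidueField S)
  refine ⟨h1, ?_⟩
  let _ : IsLocalHom (algebraMap A B) := HenselSplitConv.isLocalHom_of_isIntegral A B
  let _ : IsLocalHom (algebraMap A (Localization.AtPrime q)) := by
    rw [IsScalarTower.algebraMap_eq A B (Localization.AtPrime q)]
    exact RingHom.isLocalHom_comp _ _
  rw [← separableClosure.eq_top_iff, eq_top_iff]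
  have key : ∀ c : B ⊗[A] S, residue (Localization.AtPrime q) (algebraMap _ _ c) ∈
      separableClosure (ResidueField B) (ResidueField (Localization.AtPrime q)) := by
    intro c
    induction c using TensorProduct.induction_on with
    | zero => simp
    | tmul b s =>
      have e1 : b ⊗ₜ[A] s = algebraMap B (B ⊗[A] S) b * algebraMap S (B ⊗[A] S) s := by
        rw [Algebra.TensorProduct.algebraMap_apply, Algebra.TensorProduct.right_algebraMap_apply]
        simp
      rw [e1, map_mul, map_mul, ← IsScalarTower.algebraMap_apply,
        ← IsScalarTower.algebraMap_apply]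
      refine mul_mem ?_ ?_
      · change algebraMap (ResidueField B) _ (residue B b) ∈ _
        exact IntermediateField.algebraMap_mem _ _
      · rw [mem_separableClosure_iff]
        have h2 : IsSeparable (ResidueField A) (residue S s) :=
          Algebra.IsSeparable.isSeparable (ResidueField A) (residue S s)
        have h3 : IsSeparable (ResidueField A)
            (algebraMap (ResidueField S) (ResidueField (Localization.AtPrime q)) (residue S s)) :=
          h2.map (IsScalarTower.toAlgHom (ResidueField A) (ResidueField S)
            (ResidueField (Localization.AtPrime q))) (RingHom.injective _)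
        exact IsSeparable.tower_top (ResidueField B) h3
    | add x y hx hy =>
      rw [map_add, map_add]
      exact add_mem hx hy
  rintro x -
  obtain ⟨d, rfl⟩ := residue_surjective x
  obtain ⟨c, s, rfl⟩ := IsLocalization.exists_mk'_eq q.primeCompl d
  have h4 : residue _ (IsLocalization.mk' (Localization.AtPrime q) c s) *
      residue _ (algebraMap _ (Localization.AtPrime q) (s : B ⊗[A] S)) =
      residue _ (algebraMap _ (Localization.AtPrime q) c) := by
    rw [← map_mul, IsLocalization.mk'_spec]
  have h5 : residue _ (algebraMap _ (Localization.AtPrime q) (s : B ⊗[A] S)) ≠ 0 := by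
    rw [Ne, residue_eq_zero_iff]
    intro h
    exact ((mem_maximalIdeal _).mp h) (IsLocalization.map_units _ s)
  rw [← eq_div_iff h5] at h4
  rw [h4]
  exact div_mem (key c) (key s)

set_option maxHeartbeats 800000 in
include hS in
theorem isStrictHenselization_localization :
    letI := isLocalHom_left A B S q
    Hensel.IsStrictHenselization B (Localization.AtPrime q) := by
  let _ := isLocalHom_left A B S q
  let _ := isLocalHom_right A B S q
  refine ⟨henselian_localization A B S q, isSepClosure_localization A B S q, ?_⟩
  intro T' _ _ f _ τ hτ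
  let _ : IsLocalHom (algebraMap A B) := HenselSplitConv.isLocalHom_of_isIntegral A B
  have hfA : IsLocalHom (f.comp (algebraMap A B)) := RingHom.isLocalHom_comp _ _
  let τS : ResidueField S →+* ResidueField T' :=
    τ.comp (ResidueField.map (algebraMap S (Localization.AtPrime q)))
  have hτB : ∀ b : B, τ (residue _ (algebraMap B (Localization.AtPrime q) b)) =
      residue T' (f b) := fun b => by
    have h1 := DFunLike.congr_fun hτ (residue B b)
    simpa only [RingHom.comp_apply, ResidueField.map_residue] using h1
  have hτS : τS.comp (ResidueField.map (algebraMap A S)) =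
      ResidueField.map (f.comp (algebraMap A B)) := by
    apply Ideal.Quotient.ringHom_ext
    ext a
    change τ (residue _ (algebraMap S (Localization.AtPrime q) (algebraMap A S a))) =
      residue T' (f (algebraMap A B a))
    rw [← hτB, ← IsScalarTower.algebraMap_apply, ← IsScalarTower.algebraMap_apply]
  obtain ⟨gS, ⟨hgS1, hgS2⟩, hgSu⟩ := hS.universal T' (f.comp (algebraMap A B)) τS hτS
  let _ : Algebra A T' := (f.comp (algebraMap A B)).toAlgebra
  let fA : B →ₐ[A] T' := { f with commutes' := fun a => rfl }
  let gA : S →ₐ[A] T' := { gS with commutes' := fun a => congr($hgS1 a) }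
  let G₀ : B ⊗[A] S →ₐ[A] T' := Algebra.TensorProduct.lift fA gA (fun _ _ => Commute.all _ _)
  have hG₀ : ∀ b s, G₀ (b ⊗ₜ s) = f b * gS s := fun b s => by
    simp only [G₀, Algebra.TensorProduct.lift_tmul]; rfl
  have e1 : ∀ (b : B) (s : S), b ⊗ₜ[A] s =
      algebraMap B (B ⊗[A] S) b * algebraMap S (B ⊗[A] S) s := fun b s => by
    rw [Algebra.TensorProduct.algebraMap_apply, Algebra.TensorProduct.right_algebraMap_apply]
    simp
  have hres : ∀ c : B ⊗[A] S, residue T' (G₀ c) =
      τ (residue _ (algebraMap _ (Localization.AtPrime q) c)) := by
    intro c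
    induction c using TensorProduct.induction_on with
    | zero => simp
    | tmul b s =>
      rw [hG₀, map_mul, e1, map_mul, map_mul, map_mul, ← IsScalarTower.algebraMap_apply,
        ← IsScalarTower.algebraMap_apply, hτB, hgS2]
      rfl
    | add x y hx hy => rw [map_add, map_add, map_add, map_add, map_add, hx, hy]
  have hunits : ∀ y : q.primeCompl, IsUnit (G₀.toRingHom y) := by
    intro y
    by_contra hnu
    have h1 : residue T' (G₀ y) = 0 := (residue_eq_zero_iff _).mpr ((mem_maximalIdeal _).mpr hnu)
    rw [hres, map_eq_zero, residue_eq_zero_iff] at h1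
    exact ((mem_maximalIdeal _).mp h1) (IsLocalization.map_units _ y)
  let g : Localization.AtPrime q →+* T' := IsLocalization.lift hunits
  have hg : ∀ c, g (algebraMap _ (Localization.AtPrime q) c) = G₀ c :=
    IsLocalization.lift_eq hunits
  refine ⟨g, ⟨?_, ?_⟩, ?_⟩
  · ext b
    rw [RingHom.comp_apply, IsScalarTower.algebraMap_apply B (B ⊗[A] S) (Localization.AtPrime q),
      hg, Algebra.TensorProduct.algebraMap_apply, Algebra.algebraMap_self, RingHom.id_apply, hG₀,
      map_one, mul_one]
  · have h2 : (residue T').comp g = τ.comp (residue (Localization.AtPrime q)) :=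
      IsLocalization.ringHom_ext q.primeCompl (RingHom.ext fun c => by
        simp only [RingHom.comp_apply]
        rw [hg, hres])
    intro x
    exact DFunLike.congr_fun h2 x
  · rintro g' ⟨hg'1, hg'2⟩
    have h1 : g'.comp (algebraMap S (Localization.AtPrime q)) = gS := hgSu _ ⟨by
      rw [RingHom.comp_assoc, ← IsScalarTower.algebraMap_eq,
        IsScalarTower.algebraMap_eq A B (Localization.AtPrime q), ← RingHom.comp_assoc, hg'1],
      fun s => by
        rw [RingHom.comp_apply, hg'2]; rfl⟩
    apply IsLocalization.ringHom_ext q.primeCompl
    refine RingHom.ext fun c => ?_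
    simp only [RingHom.comp_apply]
    rw [hg]
    induction c using TensorProduct.induction_on with
    | zero => simp
    | tmul b s =>
      rw [hG₀, e1, map_mul, map_mul, ← IsScalarTower.algebraMap_apply,
        ← IsScalarTower.algebraMap_apply]
      congr 1
      · exact DFunLike.congr_fun hg'1 b
      · exact DFunLike.congr_fun h1 s
    | add x y hx hy => rw [map_add, map_add, map_add, hx, hy]

include hS in
theorem exists_maximal_equiv (T : Type u) [CommRing T] [IsLocalRing T] [Algebra B T]
    [IsLocalHom (algebraMap B T)] [Hensel.IsStrictHenselization B T] :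
    ∃ (q : Ideal (B ⊗[A] S)) (_ : q.IsMaximal), Nonempty (Localization.AtPrime q ≃ₐ[B] T) := by
  have := strictHenselization_faithfullyFlat A S
  have : Nontrivial (B ⊗[A] S) := Module.FaithfullyFlat.rTensor_nontrivial A S B
  obtain ⟨q, hq⟩ := Ideal.exists_maximal (B ⊗[A] S)
  refine ⟨q, hq, ?_⟩
  let _ := isLocalHom_left A B S q
  have := isStrictHenselization_localization A B S q
  exact nonempty_algEquiv_of_isStrictHenselization B (Localization.AtPrime q) T

end Groth.Agent.Lib.Helper8.Hzl.FiniteSHens
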