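import Mathlib
import Groth.Prelude.Def_Hens2
import Groth.Agent.Lib.Helper8.Hzl.PairUniversal

/-!
# The henselization of a local ring is the henselization of the pair `(A, 𝔪)`
-/

open IsLocalRing TensorProduct Polynomial

universe u

namespace Groth.Agent.Lib.Helper8.Hzl

variable (A : Type u) [CommRing A] [IsLocalRing A]

theorem hens_pair_universal (C : Type u) [CommRing C] (J : Ideal C) [HenselianRing C J]
    (f : A →+* C) (hf : (maximalIdeal A).map f ≤ J) :
    ∃! g : Hens A →+* C, g.comp (algebraMap A (Hens A)) = f := by
  letI := f.toAlgebra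
  obtain ⟨g, hg⟩ := existsUnique_algHom_pair (R := A) (Ω := ResidueField A) C J
    residue_surjective hf
  refine ⟨g, g.comp_algebraMap, fun g' hg' => ?_⟩
  let g'' : Hens A →ₐ[A] C := { g' with commutes' := fun r => DFunLike.congr_fun hg' r }
  have h1 := hg g''
  rw [← h1]; rfl

theorem isHenselization_of_algEquiv {S S' : Type u} [CommRing S] [IsLocalRing S] [Algebra A S]
    [IsLocalHom (algebraMap A S)] [CommRing S'] [IsLocalRing S'] [Algebra A S']
    [IsLocalHom (algebraMap A S')] (e : S ≃ₐ[A] S') [h : Hensel.IsHenselization A S] :
    Hensel.IsHenselization A S' where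
  henselian := by
    have := h.henselian
    exact henselianLocalRing_of_ringEquiv e.toRingEquiv
  universal T _ _ f hf := by
    obtain ⟨g, hg, hu⟩ := h.universal T f hf
    refine ⟨g.comp (e.symm : S' →+* S), ?_, ?_⟩
    · ext a
      have := DFunLike.congr_fun hg a
      simpa using this
    · intro g' hg'
      have h1 := hu (g'.comp (e : S →+* S')) (by
        ext a
        have := DFunLike.congr_fun hg' a
        simpa using this)
      ext x
      rw [← h1]
      simp

theorem isPairHenselization_iff (B : Type u) [CommRing B] [IsLocalRing B] [Algebra A B]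
    [IsLocalHom (algebraMap A B)] :
    Hens2.IsPairHenselization A (maximalIdeal A) B ↔ Hensel.IsHenselization A B := by
  constructor
  · rintro ⟨h1, h2⟩
    have hH := isHenselization A
    have hle : (maximalIdeal A).map (algebraMap A (Hens A)) ≤ maximalIdeal (Hens A) :=
      map_maximalIdeal.le
    obtain ⟨g, hg, -⟩ := h2 (Hens A) (maximalIdeal (Hens A)) (algebraMap A (Hens A))
      inferInstance hle
    obtain ⟨g', hg', -⟩ := hens_pair_universal A B ((maximalIdeal A).map (algebraMap A B))
      (algebraMap A B) le_rfl
    have e1 : g'.comp g = RingHom.id B :=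
      (h2 B ((maximalIdeal A).map (algebraMap A B)) (algebraMap A B) h1 le_rfl).unique
        (by rw [RingHom.comp_assoc, hg, hg']) (RingHom.id_comp _)
    have e2 : g.comp g' = RingHom.id (Hens A) :=
      (hens_pair_universal A (Hens A) (maximalIdeal (Hens A)) (algebraMap A (Hens A)) hle).unique
        (by rw [RingHom.comp_assoc, hg', hg]) (RingHom.id_comp _)
    let e : Hens A ≃ₐ[A] B := AlgEquiv.ofRingEquiv (f := RingEquiv.ofRingHom g' g e1 e2)
      (fun r => DFunLike.congr_fun hg' r)
    exact isHenselization_of_algEquiv A e
  · intro h
    obtain ⟨e⟩ := nonempty_algEquiv_hens A B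
    have hB : HenselianLocalRing B := h.henselian
    refine ⟨?_, ?_⟩
    · rw [henselization_map_maximalIdeal A B]
      infer_instance
    · intro C _ J f hJC hf
      obtain ⟨g, hg, hu⟩ := hens_pair_universal A C J f hf
      refine ⟨g.comp (e : B →+* Hens A), ?_, ?_⟩
      · ext a
        have := DFunLike.congr_fun hg a
        simpa using this
      · intro g' hg'
        have h1 := hu (g'.comp (e.symm : Hens A →+* B)) (by
          ext a
          have := DFunLike.congr_fun hg' a
          simpa using this)
        ext x
        rw [← h1]
        simp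

end Groth.Agent.Lib.Helper8.Hzl
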